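import Mathlib

/-!
Similarity classes of square matrices over a field through the elementary divisors: existence of the
decomposition and the fact that the elementary divisors determine the class.
-/

set_option autoImplicit false

namespace CfsgLib.GLClass

open Polynomial Module

variable {F : Type*} [Field F]

theorem exists_equiv_of_map_eq {ι κ α : Type*} [Fintype ι] [Fintype κ] {f : ι → α} {g : κ → α}
    (h : Finset.univ.val.map f = Finset.univ.val.map g) : ∃ σ : ι ≃ κ, ∀ i, g (σ i) = f i := by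
  classical
  have hc : ∀ a, Fintype.card {i // f i = a} = Fintype.card {j // g j = a} := fun a => by
    have := congrArg (Multiset.count a) h
    rw [Multiset.count_map, Multiset.count_map] at this
    rw [Fintype.card_subtype, Fintype.card_subtype]
    simpa [eq_comm, Finset.card_def] using this
  exact ⟨Equiv.ofFiberEquiv (f := f) (g := g) fun a => Fintype.equivOfCardEq (hc a),
    fun i => Equiv.ofFiberEquiv_map _ i⟩

/-- The direct product of the cyclic modules `F[X]/(p i ^ e i)`. -/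
abbrev Model {ι : Type*} (p : ι → F[X]) (e : ι → ℕ) : Type _ :=
  (i : ι) → F[X] ⧸ Submodule.span F[X] {p i ^ e i}

theorem model_congr {ι κ : Type*} [Fintype ι] [Fintype κ] {p : ι → F[X]} {e : ι → ℕ} {p' : κ → F[X]} {e' : κ → ℕ}
    (h : Finset.univ.val.map (fun i => (p i, e i)) = Finset.univ.val.map (fun j => (p' j, e' j))) :
    Nonempty (Model p e ≃ₗ[F[X]] Model p' e') := by
  obtain ⟨σ, hσ⟩ := exists_equiv_of_map_eq h
  refine ⟨(LinearEquiv.piCongrRight fun i => Submodule.quotEquivOfEq _ _ ?_).trans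
    (LinearEquiv.piCongrLeft F[X] (fun j => F[X] ⧸ Submodule.span F[X] {p' j ^ e' j}) σ)⟩
  have h1 := hσ i
  simp only [Prod.mk.injEq] at h1
  rw [h1.1, h1.2]

theorem finrank_model {ι : Type*} [Fintype ι] (p : ι → F[X]) (e : ι → ℕ) (hp : ∀ i, p i ≠ 0) :
    Module.finrank F (Model p e) = ∑ i, e i * (p i).natDegree := by
  haveI : ∀ i, FiniteDimensional F (F[X] ⧸ Submodule.span F[X] {p i ^ e i}) := fun i =>
    (AdjoinRoot.powerBasis (pow_ne_zero (e i) (hp i))).finite
  rw [Module.finrank_pi_fintype]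
  refine Finset.sum_congr rfl fun i _ => ?_
  rw [← Polynomial.natDegree_pow]
  exact finrank_quotient_span_eq_natDegree

theorem dvd_of_smul_eq_zero {ι : Type*} {p : ι → F[X]} {e : ι → ℕ} {q : F[X]}
    (h : ∀ x : Model p e, q • x = 0) (i : ι) : p i ^ e i ∣ q := by
  classical
  have h1 := congrFun (h (fun _ => Submodule.Quotient.mk 1)) i
  rw [Pi.smul_apply, Pi.zero_apply, ← Submodule.Quotient.mk_smul, Submodule.Quotient.mk_eq_zero,
    smul_eq_mul, mul_one] at h1
  exact Ideal.mem_span_singleton.1 h1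

variable {n : ℕ}

/-- Elementary divisors of a matrix exist. -/
theorem exists_data (A : Matrix (Fin n) (Fin n) F) :
    ∃ (N : ℕ) (p : Fin N → F[X]) (e : Fin N → ℕ), (∀ i, (p i).Monic ∧ Irreducible (p i) ∧ 0 < e i) ∧
      Nonempty (AEval' (Matrix.toLin' A) ≃ₗ[F[X]] Model p e) := by
  classical
  obtain ⟨ι, _, p, hp, e, ⟨φ⟩⟩ := Module.equiv_directSum_of_isTorsion
    (Module.AEval.isTorsion_of_finiteDimensional F (Fin n → F) (Matrix.toLin' A))
  let κ := {i : ι // 0 < e i}
  let σ : Fin (Fintype.card κ) ≃ κ := (Fintype.equivFin κ).symm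
  refine ⟨_, fun j => normalize (p (σ j).1), fun j => e (σ j).1, fun j => ⟨monic_normalize (hp _).ne_zero,
    (normalize_associated _).symm.irreducible (hp _), (σ j).2⟩, ⟨?_⟩⟩
  have hsub : ∀ i, ¬ 0 < e i → ∀ x : F[X] ⧸ Submodule.span F[X] {p i ^ e i}, x = 0 := by
    intro i hi x
    obtain ⟨y, rfl⟩ := Submodule.Quotient.mk_surjective _ x
    rw [Submodule.Quotient.mk_eq_zero, show e i = 0 by omega, pow_zero]
    exact Ideal.mem_span_singleton.2 (one_dvd y)
  let R : Model p e →ₗ[F[X]] Model (fun i : κ => p i.1) (fun i : κ => e i.1) :=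
    LinearMap.pi fun i : κ => LinearMap.proj i.1
  have hR : Function.Bijective R := by
    refine ⟨fun x y hxy => funext fun i => ?_, fun z => ?_⟩
    · by_cases hi : 0 < e i
      · exact congrFun hxy ⟨i, hi⟩
      · rw [hsub i hi (x i), hsub i hi (y i)]
    · refine ⟨fun i => if hi : 0 < e i then z ⟨i, hi⟩ else 0, funext fun i => ?_⟩
      show (if hi : 0 < e i.1 then z ⟨i.1, hi⟩ else 0) = z i
      rw [dif_pos i.2]
  refine ((φ.trans (DirectSum.linearEquivFunOnFintype F[X] ι _)).trans (LinearEquiv.ofBijective R hR)).trans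
    (((LinearEquiv.piCongrLeft F[X] (fun i : κ => F[X] ⧸ Submodule.span F[X] {p i.1 ^ e i.1}) σ).symm).trans
      (LinearEquiv.piCongrRight fun j => Submodule.quotEquivOfEq _ _ ?_))
  exact Ideal.span_singleton_eq_span_singleton.2 ((normalize_associated _).symm.pow_pow)

/-- The elementary divisors of a matrix, as monic polynomials with exponents. -/
noncomputable def elemDiv (A : Matrix (Fin n) (Fin n) F) : Multiset (F[X] × ℕ) :=
  Finset.univ.val.map fun i => ((exists_data A).choose_spec.choose i, (exists_data A).choose_spec.choose_spec.choose i)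

theorem exists_data_eq (A : Matrix (Fin n) (Fin n) F) :
    ∃ (N : ℕ) (p : Fin N → F[X]) (e : Fin N → ℕ), elemDiv A = Finset.univ.val.map (fun i => (p i, e i)) ∧
      (∀ i, (p i).Monic ∧ Irreducible (p i) ∧ 0 < e i) ∧
      Nonempty (AEval' (Matrix.toLin' A) ≃ₗ[F[X]] Model p e) :=
  ⟨_, _, _, rfl, (exists_data A).choose_spec.choose_spec.choose_spec⟩

theorem elemDiv_spec (A : Matrix (Fin n) (Fin n) F) {x : F[X] × ℕ} (hx : x ∈ elemDiv A) :
    x.1.Monic ∧ Irreducible x.1 ∧ 0 < x.2 := by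
  obtain ⟨N, p, e, hd, h, -⟩ := exists_data_eq A
  rw [hd, Multiset.mem_map] at hx
  obtain ⟨i, -, rfl⟩ := hx
  exact h i

theorem sum_elemDiv (A : Matrix (Fin n) (Fin n) F) :
    ((elemDiv A).map fun x => x.2 * x.1.natDegree).sum = n := by
  obtain ⟨N, p, e, hd, h, ⟨φ⟩⟩ := exists_data_eq A
  rw [hd, Multiset.map_map]
  show ∑ i, e i * (p i).natDegree = n
  rw [← finrank_model p e fun i => (h i).2.1.ne_zero, ← (φ.restrictScalars F).finrank_eq,
    ← (AEval'.of (Matrix.toLin' A)).finrank_eq, Module.finrank_fin_fun]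

theorem aeval_toLin' (A : Matrix (Fin n) (Fin n) F) (q : F[X]) :
    aeval (Matrix.toLin' A) q = Matrix.toLin' (aeval A q) :=
  aeval_algHom_apply (Matrix.toLinAlgEquiv' : Matrix (Fin n) (Fin n) F ≃ₐ[F] _).toAlgHom A q

theorem smul_eq_zero_of_aeval {A : Matrix (Fin n) (Fin n) F} {q : F[X]} (hq : aeval A q = 0)
    (x : AEval' (Matrix.toLin' A)) : q • x = 0 := by
  apply (AEval'.of (Matrix.toLin' A)).symm.injective
  rw [Module.AEval.of_symm_smul, aeval_toLin', hq]
  simp

theorem pow_dvd_of_aeval {A : Matrix (Fin n) (Fin n) F} {q : F[X]} (hq : aeval A q = 0) {x : F[X] × ℕ}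
    (hx : x ∈ elemDiv A) : x.1 ^ x.2 ∣ q := by
  obtain ⟨N, p, e, hd, h, ⟨φ⟩⟩ := exists_data_eq A
  rw [hd, Multiset.mem_map] at hx
  obtain ⟨i, -, rfl⟩ := hx
  refine dvd_of_smul_eq_zero (fun y => ?_) i
  obtain ⟨z, rfl⟩ := φ.surjective y
  rw [← map_smul, smul_eq_zero_of_aeval hq, map_zero]

theorem dvd_charpoly_of_mem {A : Matrix (Fin n) (Fin n) F} {x : F[X] × ℕ} (hx : x ∈ elemDiv A) :
    x.1 ∣ A.charpoly :=
  (dvd_pow_self _ (elemDiv_spec A hx).2.2.ne').trans (pow_dvd_of_aeval (Matrix.aeval_self_charpoly A) hx)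

theorem exists_conj_of_equiv {A B : Matrix (Fin n) (Fin n) F}
    (φ : AEval' (Matrix.toLin' A) ≃ₗ[F[X]] AEval' (Matrix.toLin' B)) :
    ∃ P : GL (Fin n) F, (P : Matrix (Fin n) (Fin n) F) * A = B * (P : Matrix (Fin n) (Fin n) F) := by
  let ψ : (Fin n → F) ≃ₗ[F] (Fin n → F) := ((AEval'.of (Matrix.toLin' A)).trans (φ.restrictScalars F)).trans
    (AEval'.of (Matrix.toLin' B)).symm
  have hψ : ∀ v, ψ (Matrix.toLin' A v) = Matrix.toLin' B (ψ v) := by
    intro v
    show (AEval'.of (Matrix.toLin' B)).symm (φ (AEval'.of (Matrix.toLin' A) (Matrix.toLin' A v))) =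
      Matrix.toLin' B ((AEval'.of (Matrix.toLin' B)).symm (φ (AEval'.of (Matrix.toLin' A) v)))
    rw [← AEval'.X_smul_of, map_smul, AEval'.of_symm_X_smul]
  refine ⟨⟨LinearMap.toMatrix' ψ.toLinearMap, LinearMap.toMatrix' ψ.symm.toLinearMap, ?_, ?_⟩, ?_⟩
  · rw [← LinearMap.toMatrix'_comp, LinearEquiv.comp_symm, LinearMap.toMatrix'_id]
  · rw [← LinearMap.toMatrix'_comp, LinearEquiv.symm_comp, LinearMap.toMatrix'_id]
  · apply Matrix.toLin'.injective
    rw [Matrix.toLin'_mul, Matrix.toLin'_mul, Matrix.toLin'_toMatrix']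
    exact LinearMap.ext hψ

theorem exists_conj_of_elemDiv_eq {A B : Matrix (Fin n) (Fin n) F} (h : elemDiv A = elemDiv B) :
    ∃ P : GL (Fin n) F, (P : Matrix (Fin n) (Fin n) F) * A = B * (P : Matrix (Fin n) (Fin n) F) := by
  obtain ⟨N, p, e, hd, -, ⟨φ⟩⟩ := exists_data_eq A
  obtain ⟨N', p', e', hd', -, ⟨φ'⟩⟩ := exists_data_eq B
  obtain ⟨m⟩ := model_congr (hd.symm.trans (h.trans hd'))
  exact exists_conj_of_equiv ((φ.trans m).trans φ'.symm)

theorem isConj_of_elemDiv_eq {g h : GL (Fin n) F}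
    (he : elemDiv (g : Matrix (Fin n) (Fin n) F) = elemDiv (h : Matrix (Fin n) (Fin n) F)) : IsConj g h := by
  obtain ⟨P, hP⟩ := exists_conj_of_elemDiv_eq he
  rw [isConj_iff]
  refine ⟨P, ?_⟩
  rw [mul_inv_eq_iff_eq_mul]
  exact Units.ext hP

end CfsgLib.GLClass
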