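import Mathlib

/-!
Counting monic polynomials with non-zero constant term, and weighted tuples of them.
-/

set_option autoImplicit false

namespace CfsgLib.GLClass

open Polynomial

/-- The number of monic polynomials of degree `d` with non-zero constant term. -/
def cnt (q : ℕ) : ℕ → ℕ
  | 0 => 1
  | d + 1 => (q - 1) * q ^ d

/-- The number of tuples `h 1, …, h J` of such polynomials with `∑ i * deg (h i) = n`. -/
def tupCount (q : ℕ) : ℕ → ℕ → ℕ
  | 0, n => if n = 0 then 1 else 0
  | J + 1, n => tupCount q J n + (q - 1) * ∑ m ∈ Finset.range (n / (J + 1)), q ^ m * tupCount q J (n - (J + 1) * (m + 1))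

theorem tupCount_eq_sum (q J n : ℕ) :
    tupCount q (J + 1) n = ∑ m ∈ Finset.range (n / (J + 1) + 1), cnt q m * tupCount q J (n - (J + 1) * m) := by
  rw [Finset.sum_range_succ', tupCount, Finset.mul_sum, add_comm]
  congr 1
  · exact Finset.sum_congr rfl fun m _ => by rw [cnt]; ring
  · simp [cnt]

theorem tupCount_bound {q : ℕ} (hq : 1 ≤ q) : ∀ J k : ℕ,
    tupCount q J k ≤ q ^ k ∧ (max J 1 ≤ k → tupCount q J k + q ^ (k - J) ≤ q ^ k) := by
  intro J
  induction J with
  | zero =>
    intro k
    rcases k with _ | k <;> simp [tupCount]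
  | succ J ih =>
    set o := tupCount q J with ho
    let T : ℕ → ℕ := fun n => ∑ m ∈ Finset.range (n / (J + 1)), q ^ m * o (n - (J + 1) * (m + 1))
    have hT : ∀ n, J + 1 ≤ n → T n ≤ q ^ (n - (J + 1)) := by
      intro n
      induction n using Nat.strong_induction_on with
      | _ n IH =>
        intro hn
        have hdiv : n / (J + 1) = (n - (J + 1)) / (J + 1) + 1 := by
          conv_lhs => rw [show n = (n - (J + 1)) + (J + 1) by omega]
          exact Nat.add_div_right _ (by omega)
        have hrec : T n = o (n - (J + 1)) + q * T (n - (J + 1)) := by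
          simp only [T]
          rw [hdiv, Finset.sum_range_succ', add_comm, Finset.mul_sum]
          congr 1
          · simp
          · refine Finset.sum_congr rfl fun m _ => ?_
            rw [pow_succ, show n - (J + 1) * (m + 1 + 1) = n - (J + 1) - (J + 1) * (m + 1) by
              rw [show (J + 1) * (m + 1 + 1) = (J + 1) + (J + 1) * (m + 1) by ring, ← Nat.sub_sub]]
            ring
        rw [hrec]
        by_cases h2 : n < 2 * (J + 1)
        · have : T (n - (J + 1)) = 0 := by
            simp only [T]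
            rw [Nat.div_eq_of_lt (by omega), Finset.range_zero, Finset.sum_empty]
          rw [this, mul_zero, add_zero]
          exact (ih _).1
        · have h3 := (ih (n - (J + 1))).2 (by omega)
          have h4 := IH (n - (J + 1)) (by omega) (by omega)
          have h5 : q * T (n - (J + 1)) ≤ q ^ (n - (J + 1) - J) := by
            calc q * T (n - (J + 1)) ≤ q * q ^ (n - (J + 1) - (J + 1)) := Nat.mul_le_mul_left q h4
              _ = q ^ (n - (J + 1) - J) := by rw [← pow_succ']; congr 1; omega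
          omega
    intro k
    rw [tupCount]
    by_cases hk : k < J + 1
    · rw [Nat.div_eq_of_lt hk, Finset.range_zero, Finset.sum_empty, mul_zero, add_zero]
      exact ⟨(ih k).1, fun h => by omega⟩
    · have h1 := hT k (by omega)
      have h2 := (ih k).2 (by omega)
      have h3 : (q - 1) * T k + q ^ (k - (J + 1)) ≤ q ^ (k - J) := by
        calc (q - 1) * T k + q ^ (k - (J + 1)) ≤ (q - 1) * q ^ (k - (J + 1)) + q ^ (k - (J + 1)) :=
              Nat.add_le_add_right (Nat.mul_le_mul_left _ h1) _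
          _ = q ^ (k - J) := by
            rw [← Nat.succ_mul, Nat.succ_eq_add_one, Nat.sub_add_cancel hq, ← pow_succ']
            congr 1; omega
      have h4 : (q - 1) * T k + tupCount q J k + q ^ (k - (J + 1)) ≤ q ^ k := by
        simp only [ho] at h2 ⊢
        omega
      simp only [T, ho] at h4 ⊢
      exact ⟨by omega, fun _ => by omega⟩

theorem tupCount_le {q : ℕ} (hq : 1 ≤ q) (J n : ℕ) : tupCount q J n ≤ q ^ n := (tupCount_bound hq J n).1

variable (F : Type*) [Field F]

/-- Monic polynomials of degree `d` with non-zero constant term. -/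
abbrev GoodPoly (d : ℕ) : Type _ := {f : F[X] // f.Monic ∧ f.natDegree = d ∧ f.coeff 0 ≠ 0}

variable {F}

/-- Monic polynomials of degree `d + 1` with a condition on the constant term. -/
noncomputable def constEquiv (d : ℕ) (P : F → Prop) :
    {f : F[X] // f.Monic ∧ f.natDegree = d + 1 ∧ P (f.coeff 0)} ≃ {a : F // P a} × (Fin d → F) :=
  let e : {f : F[X] // f.Monic ∧ f.natDegree = d + 1} ≃ (Fin (d + 1) → F) :=
    (Polynomial.monicEquivDegreeLT (d + 1)).trans (Polynomial.degreeLTEquiv F (d + 1)).toEquiv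
  have he : ∀ f, e f 0 = f.1.coeff 0 := fun f => by
    show ((Polynomial.monicEquivDegreeLT (d + 1) f : Polynomial.degreeLT F (d + 1)) : F[X]).coeff 0 = _
    simp [Polynomial.monicEquivDegreeLT, Polynomial.eraseLead_coeff_of_ne, f.2.2]
  ((Equiv.subtypeEquivRight fun _ => and_assoc.symm).trans
    (Equiv.subtypeSubtypeEquivSubtypeInter (fun f : F[X] => f.Monic ∧ f.natDegree = d + 1)
      (fun f => P (f.coeff 0))).symm).trans
  ((Equiv.subtypeEquiv (q := fun v : Fin (d + 1) → F => P (v 0)) e fun f => by rw [he f]).trans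
  ((Equiv.subtypeEquiv (q := fun x : F × (Fin d → F) => P x.1)
    (Fin.consEquiv fun _ : Fin (d + 1) => F).symm fun v => Iff.rfl).trans
    { toFun := fun x => (⟨x.1.1, x.2⟩, x.1.2)
      invFun := fun x => ⟨(x.1.1, x.2), x.1.2⟩
      left_inv := fun _ => rfl
      right_inv := fun _ => rfl }))

variable [Fintype F]

theorem card_constPoly (d : ℕ) (a : F) :
    Nat.card {f : F[X] // f.Monic ∧ f.natDegree = d + 1 ∧ f.coeff 0 = a} = Fintype.card F ^ d := by
  rw [Nat.card_congr (constEquiv d (fun x => x = a)), Nat.card_prod, Nat.card_unique, one_mul, Nat.card_fun,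
    Nat.card_eq_fintype_card (α := F), Nat.card_fin]

instance instFiniteGoodPoly (d : ℕ) : Finite (GoodPoly F d) := by
  rcases d with _ | d
  · haveI : Subsingleton (GoodPoly F 0) := ⟨fun f g => Subtype.ext (by
      rw [f.2.1.natDegree_eq_zero.1 f.2.2.1, g.2.1.natDegree_eq_zero.1 g.2.2.1])⟩
    infer_instance
  · exact Finite.of_equiv _ (constEquiv d (fun x : F => x ≠ 0)).symm

theorem card_goodPoly (d : ℕ) : Nat.card (GoodPoly F d) = cnt (Fintype.card F) d := by
  classical
  rcases d with _ | d
  · haveI : Subsingleton (GoodPoly F 0) := ⟨fun f g => Subtype.ext (by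
      rw [f.2.1.natDegree_eq_zero.1 f.2.2.1, g.2.1.natDegree_eq_zero.1 g.2.2.1])⟩
    haveI : Nonempty (GoodPoly F 0) := ⟨⟨1, monic_one, natDegree_one, by simp⟩⟩
    rw [cnt, Nat.card_unique]
  · rw [Nat.card_congr (constEquiv d (fun x : F => x ≠ 0)), Nat.card_prod, Nat.card_fun, cnt,
      Nat.card_eq_fintype_card (α := F), Nat.card_fin, Nat.card_eq_fintype_card, Fintype.card_subtype_compl,
      Fintype.card_subtype_eq]

variable (F)

/-- Weighted tuples of monic polynomials with non-zero constant term. -/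
abbrev Tup (J n : ℕ) : Type _ :=
  {h : Fin J → F[X] // (∀ i, (h i).Monic ∧ (h i).coeff 0 ≠ 0) ∧ ∑ i : Fin J, ((i : ℕ) + 1) * (h i).natDegree = n}

variable {F}

omit [Fintype F] in
theorem tup_last_le {J n : ℕ} (h : Tup F (J + 1) n) :
    (h.1 (Fin.last J)).natDegree ≤ n / (J + 1) := by
  rw [Nat.le_div_iff_mul_le (Nat.succ_pos _)]
  have h1 := h.2.2
  rw [Fin.sum_univ_castSucc, Fin.val_last] at h1
  simp only [Nat.succ_eq_add_one]
  rw [mul_comm]
  omega

omit [Fintype F] in
theorem split_ext {J n : ℕ} (x y : (m : Fin (n / (J + 1) + 1)) × (GoodPoly F m × Tup F J (n - (J + 1) * m)))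
    (h1 : x.2.1.1 = y.2.1.1) (h2 : x.2.2.1 = y.2.2.1) : x = y := by
  obtain ⟨m, ⟨f, hf⟩, ⟨g, hg⟩⟩ := x
  obtain ⟨m', ⟨f', hf'⟩, ⟨g', hg'⟩⟩ := y
  simp only at h1 h2
  subst h1 h2
  obtain rfl : m = m' := Fin.ext (hf.2.1.symm.trans hf'.2.1)
  rfl

/-- Split off the last polynomial. -/
noncomputable def tupEquiv (J n : ℕ) :
    Tup F (J + 1) n ≃ (m : Fin (n / (J + 1) + 1)) × (GoodPoly F m × Tup F J (n - (J + 1) * m)) where
  toFun h := ⟨⟨(h.1 (Fin.last J)).natDegree, Nat.lt_succ_of_le (tup_last_le h)⟩,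
    ⟨⟨h.1 (Fin.last J), (h.2.1 _).1, rfl, (h.2.1 _).2⟩, ⟨fun i => h.1 i.castSucc, fun i => h.2.1 _, by
      have h1 := h.2.2
      rw [Fin.sum_univ_castSucc, Fin.val_last] at h1
      simp only [Fin.val_castSucc] at h1
      simp only
      omega⟩⟩⟩
  invFun x := ⟨Fin.snoc x.2.2.1 x.2.1.1, fun i => by
      refine Fin.lastCases ?_ (fun j => ?_) i
      · rw [Fin.snoc_last]; exact ⟨x.2.1.2.1, x.2.1.2.2.2⟩
      · rw [Fin.snoc_castSucc]; exact x.2.2.2.1 j, by
      rw [Fin.sum_univ_castSucc]
      simp only [Fin.snoc_last, Fin.snoc_castSucc, Fin.val_castSucc, Fin.val_last, x.2.2.2.2, x.2.1.2.2.1]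
      have h1 : (J + 1) * (x.1 : ℕ) ≤ n :=
        (Nat.mul_le_mul_left _ (Nat.le_of_lt_succ x.1.2)).trans (Nat.mul_div_le n (J + 1))
      omega⟩
  left_inv h := Subtype.ext (funext fun i => by
    refine Fin.lastCases ?_ (fun j => ?_) i
    · simp only [Fin.snoc_last]
    · simp only [Fin.snoc_castSucc])
  right_inv x := split_ext _ _ (by simp) (funext fun i => by simp)

instance instFiniteTup : ∀ J n : ℕ, Finite (Tup F J n)
  | 0, _ => inferInstance
  | J + 1, n => by
    haveI : ∀ k, Finite (Tup F J k) := fun k => instFiniteTup J k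
    exact Finite.of_equiv _ (tupEquiv J n).symm

theorem card_tup : ∀ J n : ℕ, Nat.card (Tup F J n) = tupCount (Fintype.card F) J n
  | 0, n => by
    rw [tupCount]
    split
    · subst n
      haveI : Nonempty (Tup F 0 0) := ⟨⟨fun i => i.elim0, fun i => i.elim0, by simp⟩⟩
      exact Nat.card_unique
    · haveI : IsEmpty (Tup F 0 n) := ⟨fun h => by have := h.2.2; simp at this; omega⟩
      exact Nat.card_of_isEmpty
  | J + 1, n => by
    rw [Nat.card_congr (tupEquiv J n), Nat.card_sigma, tupCount_eq_sum, ← Fin.sum_univ_eq_sum_range]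
    exact Finset.sum_congr rfl fun m _ => by rw [Nat.card_prod, card_goodPoly, card_tup J]

end CfsgLib.GLClass
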