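import Mathlib
import Cfsg.Agent.GLClass.Modules
import Cfsg.Agent.GLClass.PolyCount

/-!
Counting classes of `GL n` over a finite field: all classes, and those of order prime to the
characteristic (determined by the characteristic polynomial).
-/

set_option autoImplicit false

namespace CfsgLib.GLClass

open Polynomial UniqueFactorizationMonoid

variable {F : Type*} [Field F]

/-- The product of the bases of the elementary divisors with exponent `j`. -/
noncomputable def polys (D : Multiset (F[X] × ℕ)) (j : ℕ) : F[X] :=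
  ((D.filter fun x => x.2 = j).map Prod.fst).prod

theorem polys_monic {D : Multiset (F[X] × ℕ)} (h : ∀ x ∈ D, x.1.Monic) (j : ℕ) : (polys D j).Monic :=
  monic_multiset_prod_of_monic _ _ fun x hx => h x (Multiset.mem_of_mem_filter hx)

theorem natDegree_polys {D : Multiset (F[X] × ℕ)} (h : ∀ x ∈ D, x.1.Monic) (j : ℕ) :
    (polys D j).natDegree = ((D.filter fun x => x.2 = j).map fun x => x.1.natDegree).sum := by
  rw [polys, natDegree_multiset_prod_of_monic, Multiset.map_map]
  · rfl
  · intro f hf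
    obtain ⟨x, hx, rfl⟩ := Multiset.mem_map.1 hf
    exact h x (Multiset.mem_of_mem_filter hx)

theorem sum_polys {J : ℕ} (D : Multiset (F[X] × ℕ)) (h : ∀ x ∈ D, x.1.Monic ∧ 0 < x.2 ∧ x.2 ≤ J) :
    ∑ i : Fin J, ((i : ℕ) + 1) * (polys D ((i : ℕ) + 1)).natDegree = (D.map fun x => x.2 * x.1.natDegree).sum := by
  classical
  simp only [natDegree_polys fun x hx => (h x hx).1]
  induction D using Multiset.induction_on with
  | empty => simp
  | cons a D ih =>
    obtain ⟨h1, h2, h3⟩ := h a (Multiset.mem_cons_self a D)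
    rw [Multiset.map_cons, Multiset.sum_cons, ← ih fun x hx => h x (Multiset.mem_cons_of_mem hx)]
    have hstep : ∀ i : Fin J, ((i : ℕ) + 1) * (((a ::ₘ D).filter fun x => x.2 = (i : ℕ) + 1).map fun x => x.1.natDegree).sum =
        (if i = ⟨a.2 - 1, by omega⟩ then a.2 * a.1.natDegree else 0) +
          ((i : ℕ) + 1) * ((D.filter fun x => x.2 = (i : ℕ) + 1).map fun x => x.1.natDegree).sum := by
      intro i
      rw [Multiset.filter_cons]
      by_cases hi : a.2 = (i : ℕ) + 1
      · rw [if_pos hi, if_pos (Fin.ext (show (i : ℕ) = a.2 - 1 by omega))]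
        simp [mul_add, hi]
      · rw [if_neg hi, if_neg (fun e => hi (by have := congrArg Fin.val e; simp only at this; omega))]
        simp
    rw [Finset.sum_congr rfl fun i _ => hstep i, Finset.sum_add_distrib, Finset.sum_ite_eq']
    simp

open scoped Classical in
theorem normalizedFactors_polys {D : Multiset (F[X] × ℕ)} (h : ∀ x ∈ D, x.1.Monic ∧ Irreducible x.1) (j : ℕ) :
    normalizedFactors (polys D j) = (D.filter fun x => x.2 = j).map Prod.fst := by
  classical
  rw [polys, normalizedFactors_prod_eq]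
  · refine (Multiset.map_congr rfl fun f hf => ?_).trans (Multiset.map_id _)
    obtain ⟨x, hx, rfl⟩ := Multiset.mem_map.1 hf
    exact (h x (Multiset.mem_of_mem_filter hx)).1.normalize_eq_self
  · intro f hf
    obtain ⟨x, hx, rfl⟩ := Multiset.mem_map.1 hf
    exact (h x (Multiset.mem_of_mem_filter hx)).2

open scoped Classical in
theorem eq_of_polys_eq {D D' : Multiset (F[X] × ℕ)} (h : ∀ x ∈ D, x.1.Monic ∧ Irreducible x.1)
    (h' : ∀ x ∈ D', x.1.Monic ∧ Irreducible x.1) (he : ∀ x ∈ D + D', polys D x.2 = polys D' x.2) : D = D' := by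
  classical
  ext x
  by_cases hx : x ∈ D + D'
  · have hfil : ∀ E : Multiset (F[X] × ℕ),
        ((E.filter fun y => y.2 = x.2).map Prod.fst).map (fun f => (f, x.2)) = E.filter fun y => y.2 = x.2 := by
      intro E
      rw [Multiset.map_map]
      refine (Multiset.map_congr rfl fun y hy => ?_).trans (Multiset.map_id _)
      obtain ⟨-, hy2⟩ := Multiset.mem_filter.1 hy
      exact Prod.ext rfl hy2.symm
    have h1 : (D.filter fun y => y.2 = x.2) = D'.filter fun y => y.2 = x.2 := by
      rw [← hfil D, ← hfil D', ← normalizedFactors_polys h, ← normalizedFactors_polys h', he x hx]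
    have h2 := congrArg (Multiset.count x) h1
    simpa [Multiset.count_filter] using h2
  · rw [Multiset.mem_add, not_or] at hx
    rw [Multiset.count_eq_zero.2 hx.1, Multiset.count_eq_zero.2 hx.2]

variable {n : ℕ}

theorem det_ne_zero_gl (g : GL (Fin n) F) : (g : Matrix (Fin n) (Fin n) F).det ≠ 0 :=
  ((Matrix.isUnit_iff_isUnit_det _).1 g.isUnit).ne_zero

theorem coeff_zero_charpoly_gl (g : GL (Fin n) F) : (g : Matrix (Fin n) (Fin n) F).charpoly.coeff 0 ≠ 0 := by
  intro h
  apply det_ne_zero_gl g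
  rw [Matrix.det_eq_sign_charpoly_coeff, h, mul_zero]

theorem coeff_zero_ne_of_dvd {f g : F[X]} (h : f ∣ g) (hg : g.coeff 0 ≠ 0) : f.coeff 0 ≠ 0 := by
  obtain ⟨k, rfl⟩ := h
  rw [mul_coeff_zero] at hg
  exact left_ne_zero_of_mul hg

theorem coeff_zero_polys (g : GL (Fin n) F) (j : ℕ) :
    (polys (elemDiv (g : Matrix (Fin n) (Fin n) F)) j).coeff 0 ≠ 0 := by
  rw [polys, coeff_zero_eq_eval_zero, eval_multiset_prod]
  refine Multiset.prod_ne_zero fun h0 => ?_
  obtain ⟨f, hf, hf0⟩ := Multiset.mem_map.1 h0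
  obtain ⟨x, hx, rfl⟩ := Multiset.mem_map.1 hf
  rw [← coeff_zero_eq_eval_zero] at hf0
  exact coeff_zero_ne_of_dvd (dvd_charpoly_of_mem (Multiset.mem_of_mem_filter hx)) (coeff_zero_charpoly_gl g) hf0

theorem exp_le (A : Matrix (Fin n) (Fin n) F) {x : F[X] × ℕ} (hx : x ∈ elemDiv A) : x.2 ≤ n := by
  have h1 : x.2 * x.1.natDegree ≤ n := by
    have h0 : x.2 * x.1.natDegree ≤ ((elemDiv A).map fun y => y.2 * y.1.natDegree).sum :=
      Multiset.le_sum_of_mem (Multiset.mem_map_of_mem (fun y : F[X] × ℕ => y.2 * y.1.natDegree) hx)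
    rwa [sum_elemDiv] at h0
  have h2 := (elemDiv_spec A hx).2.1.natDegree_pos
  exact (Nat.le_mul_of_pos_right _ h2).trans h1

/-- The weighted tuple of a matrix. -/
noncomputable def tupOf (g : GL (Fin n) F) : Tup F n n :=
  ⟨fun i => polys (elemDiv (g : Matrix (Fin n) (Fin n) F)) ((i : ℕ) + 1),
    fun i => ⟨polys_monic (fun x hx => (elemDiv_spec _ hx).1) _, coeff_zero_polys g _⟩, by
    rw [sum_polys _ fun x hx => ⟨(elemDiv_spec _ hx).1, (elemDiv_spec _ hx).2.2, exp_le _ hx⟩, sum_elemDiv]⟩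

theorem isConj_of_tupOf_eq {g h : GL (Fin n) F} (he : tupOf g = tupOf h) : IsConj g h := by
  refine isConj_of_elemDiv_eq (eq_of_polys_eq (fun x hx => ⟨(elemDiv_spec _ hx).1, (elemDiv_spec _ hx).2.1⟩)
    (fun x hx => ⟨(elemDiv_spec _ hx).1, (elemDiv_spec _ hx).2.1⟩) fun x hx => ?_)
  have h1 : 0 < x.2 ∧ x.2 ≤ n := by
    rcases Multiset.mem_add.1 hx with h1 | h1 <;> exact ⟨(elemDiv_spec _ h1).2.2, exp_le _ h1⟩
  have h2 : polys (elemDiv (g : Matrix (Fin n) (Fin n) F)) (x.2 - 1 + 1) =
      polys (elemDiv (h : Matrix (Fin n) (Fin n) F)) (x.2 - 1 + 1) :=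
    congrFun (congrArg Subtype.val he) ⟨x.2 - 1, by omega⟩
  rwa [show x.2 - 1 + 1 = x.2 by omega] at h2

theorem card_classes_le [Fintype F] : Nat.card (ConjClasses (GL (Fin n) F)) ≤ Fintype.card F ^ n := by
  refine le_trans (Nat.card_le_card_of_injective (fun c => tupOf (Quotient.out c)) fun c d h => ?_)
    ((card_tup (F := F) n n).trans_le (tupCount_le Fintype.card_pos n n))
  rw [← Quotient.out_eq c, ← Quotient.out_eq d]
  exact Quotient.sound (isConj_of_tupOf_eq h)

theorem exp_eq_one {A : Matrix (Fin n) (Fin n) F} {r : ℕ} (hA : A ^ r = 1) (hr : (r : F) ≠ 0)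
    {x : F[X] × ℕ} (hx : x ∈ elemDiv A) : x.2 = 1 := by
  have h1 : x.1 ^ x.2 ∣ (X : F[X]) ^ r - 1 := pow_dvd_of_aeval (by simp [hA]) hx
  have h2 : Squarefree ((X : F[X]) ^ r - 1) := by
    have := (separable_X_pow_sub_C (1 : F) hr one_ne_zero).squarefree
    rwa [map_one] at this
  have h3 := elemDiv_spec A hx
  by_contra h4
  refine h3.2.1.not_isUnit (h2 x.1 ((Dvd.dvd.trans ?_ h1)))
  rw [← pow_two]
  exact pow_dvd_pow _ (by have := h3.2.2; omega)

theorem natDegree_polys_one {A : Matrix (Fin n) (Fin n) F} {r : ℕ} (hA : A ^ r = 1) (hr : (r : F) ≠ 0) :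
    (polys (elemDiv A) 1).natDegree = n := by
  rw [natDegree_polys fun x hx => (elemDiv_spec A hx).1, Multiset.filter_eq_self.2 fun x hx => exp_eq_one hA hr hx]
  conv_rhs => rw [← sum_elemDiv A]
  exact congrArg _ (Multiset.map_congr rfl fun x hx => by rw [exp_eq_one hA hr hx, one_mul])

variable (p : ℕ) [Fact p.Prime] [CharP F p]

theorem orderOf_ne_zero_of_coprime {G : Type*} [Monoid G] {g : G} (hg : (orderOf g).Coprime p) :
    ((orderOf g : ℕ) : F) ≠ 0 := fun h =>
  ((Fact.out : p.Prime).coprime_iff_not_dvd.1 hg.symm) ((CharP.cast_eq_zero_iff F p _).1 h)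

theorem pow_orderOf_coe (g : GL (Fin n) F) : (g : Matrix (Fin n) (Fin n) F) ^ orderOf g = 1 := by
  rw [← Units.val_pow_eq_pow_val, pow_orderOf_eq_one, Units.val_one]

/-- The classes of elements of order prime to `p`. -/
abbrev RegClass (n : ℕ) (F : Type*) [Field F] (p : ℕ) : Type _ :=
  {c : ConjClasses (GL (Fin n) F) // ∃ g : GL (Fin n) F, ConjClasses.mk g = c ∧ (orderOf g).Coprime p}

theorem isConj_of_polys_one {g h : GL (Fin n) F} (hg : (orderOf g).Coprime p) (hh : (orderOf h).Coprime p)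
    (he : polys (elemDiv (g : Matrix (Fin n) (Fin n) F)) 1 = polys (elemDiv (h : Matrix (Fin n) (Fin n) F)) 1) :
    IsConj g h := by
  refine isConj_of_elemDiv_eq (eq_of_polys_eq (fun x hx => ⟨(elemDiv_spec _ hx).1, (elemDiv_spec _ hx).2.1⟩)
    (fun x hx => ⟨(elemDiv_spec _ hx).1, (elemDiv_spec _ hx).2.1⟩) fun x hx => ?_)
  rcases Multiset.mem_add.1 hx with h1 | h1
  · rw [exp_eq_one (pow_orderOf_coe g) (orderOf_ne_zero_of_coprime p hg) h1]; exact he
  · rw [exp_eq_one (pow_orderOf_coe h) (orderOf_ne_zero_of_coprime p hh) h1]; exact he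

variable [Fintype F]

theorem card_regClass_le : Nat.card (RegClass n F p) ≤ cnt (Fintype.card F) n := by
  rw [← card_goodPoly]
  refine Nat.card_le_card_of_injective (fun c => (⟨polys (elemDiv (c.2.choose : Matrix (Fin n) (Fin n) F)) 1,
    polys_monic (fun x hx => (elemDiv_spec _ hx).1) _,
    natDegree_polys_one (pow_orderOf_coe c.2.choose) (orderOf_ne_zero_of_coprime p c.2.choose_spec.2),
    coeff_zero_polys _ _⟩ : GoodPoly F n)) fun c d h => ?_
  apply Subtype.ext
  rw [← c.2.choose_spec.1, ← d.2.choose_spec.1, ConjClasses.mk_eq_mk_iff_isConj]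
  exact isConj_of_polys_one p c.2.choose_spec.2 d.2.choose_spec.2 (congrArg Subtype.val h)

omit [Fintype F] in
theorem exists_gl_charpoly (f : GoodPoly F n) : ∃ g : GL (Fin n) F, (g : Matrix (Fin n) (Fin n) F).charpoly = f.1 := by
  classical
  obtain ⟨f, hm, rfl, hc⟩ := f
  have hne : f ≠ 0 := hm.ne_zero
  obtain ⟨M, hM⟩ : ∃ M : Matrix (Fin f.natDegree) (Fin f.natDegree) F, M.charpoly = f := by
    refine ⟨Algebra.leftMulMatrix (AdjoinRoot.powerBasis hne).basis (AdjoinRoot.powerBasis hne).gen, ?_⟩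
    refine (charpoly_leftMulMatrix (AdjoinRoot.powerBasis hne)).trans ?_
    rw [AdjoinRoot.powerBasis_gen, AdjoinRoot.minpoly_root hne, hm.leadingCoeff, inv_one, map_one, mul_one]
  have hdet : M.det ≠ 0 := by
    rw [Matrix.det_eq_sign_charpoly_coeff, hM]
    exact mul_ne_zero (pow_ne_zero _ (neg_ne_zero.2 one_ne_zero)) hc
  exact ⟨Matrix.GeneralLinearGroup.mkOfDetNeZero M hdet, hM⟩

theorem charpoly_pow_card_pow (A : Matrix (Fin n) (Fin n) F) (k : ℕ) :
    (A ^ (Fintype.card F ^ k)).charpoly = A.charpoly := by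
  induction k with
  | zero => simp
  | succ k ih => rw [pow_succ, pow_mul, FiniteField.Matrix.charpoly_pow_card, ih]

theorem exists_coprime_pow (g : GL (Fin n) F) :
    ∃ k, (orderOf (g ^ (Fintype.card F ^ k))).Coprime p := by
  classical
  obtain ⟨m, hp, hq⟩ := FiniteField.card F p
  obtain ⟨a, r, hr, hgr⟩ := Nat.exists_eq_pow_mul_and_not_dvd (orderOf_pos g).ne' p hp.one_lt.ne'
  refine ⟨a, Nat.Coprime.coprime_dvd_left ?_ (hp.coprime_iff_not_dvd.2 hr).symm⟩
  refine orderOf_dvd_of_pow_eq_one ?_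
  rw [← pow_mul, ← orderOf_dvd_iff_pow_eq_one, hgr, hq, ← pow_mul]
  exact mul_dvd_mul_right (pow_dvd_pow p (Nat.le_mul_of_pos_left a m.pos)) r

theorem exists_regular_charpoly (f : GoodPoly F n) :
    ∃ g : GL (Fin n) F, (orderOf g).Coprime p ∧ (g : Matrix (Fin n) (Fin n) F).charpoly = f.1 := by
  obtain ⟨g, hg⟩ := exists_gl_charpoly f
  obtain ⟨k, hk⟩ := exists_coprime_pow p g
  exact ⟨_, hk, by rw [Units.val_pow_eq_pow_val, charpoly_pow_card_pow, hg]⟩

/-- The characteristic polynomial of a class. -/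
noncomputable def classPoly (c : RegClass n F p) : GoodPoly F n :=
  ⟨(c.2.choose : Matrix (Fin n) (Fin n) F).charpoly, Matrix.charpoly_monic _,
    by rw [Matrix.charpoly_natDegree_eq_dim, Fintype.card_fin], coeff_zero_charpoly_gl _⟩

omit [Fintype F] in
theorem charpoly_eq_of_isConj {g h : GL (Fin n) F} (hc : IsConj g h) :
    (g : Matrix (Fin n) (Fin n) F).charpoly = (h : Matrix (Fin n) (Fin n) F).charpoly := by
  obtain ⟨x, hx⟩ := isConj_iff.1 hc
  rw [← hx, Units.val_mul, Units.val_mul, Matrix.coe_units_inv, Matrix.charpoly_units_conj]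

omit [Fintype F] in
theorem classPoly_mk (g : GL (Fin n) F) (hg : (orderOf g).Coprime p) :
    (classPoly p ⟨ConjClasses.mk g, g, rfl, hg⟩ : GoodPoly F n).1 = (g : Matrix (Fin n) (Fin n) F).charpoly :=
  charpoly_eq_of_isConj (ConjClasses.mk_eq_mk_iff_isConj.1
    ((⟨ConjClasses.mk g, g, rfl, hg⟩ : RegClass n F p).2.choose_spec.1))

theorem classPoly_bijective : Function.Bijective (classPoly (n := n) (F := F) p) := by
  have hs : Function.Surjective (classPoly (n := n) (F := F) p) := fun f => by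
    obtain ⟨g, hg, hgf⟩ := exists_regular_charpoly p f
    exact ⟨⟨ConjClasses.mk g, g, rfl, hg⟩, Subtype.ext ((classPoly_mk p g hg).trans hgf)⟩
  exact hs.bijective_of_nat_card_le (by rw [card_goodPoly]; exact card_regClass_le p)

theorem card_regClass : Nat.card (RegClass n F p) = cnt (Fintype.card F) n := by
  rw [Nat.card_eq_of_bijective _ (classPoly_bijective p), card_goodPoly]

/-- Elements of order prime to the characteristic with equal characteristic polynomials are conjugate. -/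
theorem isConj_of_charpoly_eq {g h : GL (Fin n) F} (hg : (orderOf g).Coprime p) (hh : (orderOf h).Coprime p)
    (he : (g : Matrix (Fin n) (Fin n) F).charpoly = (h : Matrix (Fin n) (Fin n) F).charpoly) : IsConj g h := by
  have h1 : classPoly p ⟨ConjClasses.mk g, g, rfl, hg⟩ = classPoly p ⟨ConjClasses.mk h, h, rfl, hh⟩ :=
    Subtype.ext (((classPoly_mk p g hg).trans he).trans (classPoly_mk p h hh).symm)
  exact ConjClasses.mk_eq_mk_iff_isConj.1 (congrArg Subtype.val ((classPoly_bijective p).1 h1))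

end CfsgLib.GLClass
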