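import Mathlib
import Cfsg.Agent.GLClass.Classes
import Cfsg.Agent.GLElem.Semisimple

/-!
Classes of elements of order prime to the characteristic in `SL n`.
-/

set_option autoImplicit false

namespace CfsgLib.GLClass

open Matrix Polynomial

variable {F : Type*} [Field F] [Fintype F] (p : ℕ) [Fact p.Prime] [CharP F p] {n : ℕ}

theorem exists_commute_det (g : GL (Fin n) F) (hg : (orderOf g).Coprime p) (hn : 0 < n) {c : F} (hc : c ≠ 0) :
    ∃ S : GL (Fin n) F, S * g = g * S ∧ (S : Matrix (Fin n) (Fin n) F).det = c := by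
  haveI : Nonempty (Fin n) := ⟨⟨0, hn⟩⟩
  have hT : (Matrix.toLin' (g : Matrix (Fin n) (Fin n) F)) ^ orderOf g = 1 := by
    rw [← Matrix.toLin'_pow, pow_orderOf_coe, Matrix.toLin'_one]
    rfl
  obtain ⟨S, hS, hdet⟩ := CfsgLib.GLElem.exists_det_commute hT (orderOf_ne_zero_of_coprime p hg) c
  have hd : (LinearMap.toMatrix' S).det = c := by rw [LinearMap.det_toMatrix', hdet]
  refine ⟨Matrix.GeneralLinearGroup.mkOfDetNeZero (LinearMap.toMatrix' S) (by rw [hd]; exact hc), ?_, hd⟩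
  apply Units.ext
  rw [Units.val_mul, Units.val_mul]
  apply Matrix.toLin'.injective
  rw [Matrix.toLin'_mul, Matrix.toLin'_mul]
  show (Matrix.toLin' (LinearMap.toMatrix' S)) ∘ₗ _ = _ ∘ₗ (Matrix.toLin' (LinearMap.toMatrix' S))
  rw [Matrix.toLin'_toMatrix']
  exact hS.eq

omit [Fintype F] in
theorem orderOf_toGL (g : Matrix.SpecialLinearGroup (Fin n) F) :
    orderOf (Matrix.SpecialLinearGroup.toGL g) = orderOf g :=
  orderOf_injective Matrix.SpecialLinearGroup.toGL Matrix.SpecialLinearGroup.toGL_injective g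

theorem isConj_sl_of_charpoly_eq {g h : Matrix.SpecialLinearGroup (Fin n) F}
    (hg : (orderOf g).Coprime p) (hh : (orderOf h).Coprime p)
    (he : (g : Matrix (Fin n) (Fin n) F).charpoly = (h : Matrix (Fin n) (Fin n) F).charpoly) : IsConj g h := by
  rcases Nat.eq_zero_or_pos n with rfl | hn
  · rw [Subsingleton.elim g h]
  rw [← orderOf_toGL] at hg hh
  obtain ⟨x, hx⟩ := isConj_iff.1 (isConj_of_charpoly_eq p hg hh he)
  obtain ⟨S, hS, hdet⟩ := exists_commute_det p _ hg hn (inv_ne_zero (det_ne_zero_gl x))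
  have hy : ((x * S : GL (Fin n) F) : Matrix (Fin n) (Fin n) F).det = 1 := by
    rw [Units.val_mul, Matrix.det_mul, hdet, mul_inv_cancel₀ (det_ne_zero_gl x)]
  rw [isConj_iff]
  obtain ⟨y, hyx⟩ : ∃ y : Matrix.SpecialLinearGroup (Fin n) F, Matrix.SpecialLinearGroup.toGL y = x * S :=
    ⟨⟨_, hy⟩, Units.ext rfl⟩
  refine ⟨y, Matrix.SpecialLinearGroup.toGL_injective ?_⟩
  rw [map_mul, map_mul, map_inv, hyx]
  have h1 : S * Matrix.SpecialLinearGroup.toGL g * S⁻¹ = Matrix.SpecialLinearGroup.toGL g := by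
    rw [hS, mul_inv_cancel_right]
  calc x * S * Matrix.SpecialLinearGroup.toGL g * (x * S)⁻¹
      = x * (S * Matrix.SpecialLinearGroup.toGL g * S⁻¹) * x⁻¹ := by group
    _ = Matrix.SpecialLinearGroup.toGL h := by rw [h1, hx]

omit [Fintype F] in
theorem charpoly_eq_of_isConj_sl {g h : Matrix.SpecialLinearGroup (Fin n) F} (hc : IsConj g h) :
    (g : Matrix (Fin n) (Fin n) F).charpoly = (h : Matrix (Fin n) (Fin n) F).charpoly := by
  obtain ⟨x, hx⟩ := isConj_iff.1 hc
  have h1 : IsConj (Matrix.SpecialLinearGroup.toGL g) (Matrix.SpecialLinearGroup.toGL h) :=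
    isConj_iff.2 ⟨Matrix.SpecialLinearGroup.toGL x, by rw [← hx]; simp only [map_mul, map_inv]⟩
  exact (charpoly_eq_of_isConj h1 :)

theorem card_regClass_sl (hn : 1 ≤ n) :
    Nat.card {c : ConjClasses (Matrix.SpecialLinearGroup (Fin n) F) //
      ∃ g : Matrix.SpecialLinearGroup (Fin n) F, ConjClasses.mk g = c ∧ (orderOf g).Coprime p} =
      Fintype.card F ^ (n - 1) := by
  obtain ⟨m, rfl⟩ : ∃ m, n = m + 1 := ⟨n - 1, by omega⟩
  rw [Nat.add_sub_cancel, ← card_constPoly m ((-1 : F) ^ (m + 1))]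
  have hdet : ∀ g : Matrix (Fin (m + 1)) (Fin (m + 1)) F, g.det = 1 ↔ g.charpoly.coeff 0 = (-1 : F) ^ (m + 1) := by
    intro g
    rw [Matrix.det_eq_sign_charpoly_coeff, Fintype.card_fin]
    rcases neg_one_pow_eq_or F (m + 1) with e | e <;> rw [e]
    · simp
    · constructor <;> intro h <;> linear_combination -h
  have key : ∀ (c : ConjClasses (Matrix.SpecialLinearGroup (Fin (m + 1)) F))
      (hc : ∃ g : Matrix.SpecialLinearGroup (Fin (m + 1)) F, ConjClasses.mk g = c ∧ (orderOf g).Coprime p)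
      (s : Matrix.SpecialLinearGroup (Fin (m + 1)) F), ConjClasses.mk s = c →
      (hc.choose : Matrix (Fin (m + 1)) (Fin (m + 1)) F).charpoly = (s : Matrix (Fin (m + 1)) (Fin (m + 1)) F).charpoly :=
    fun c hc s hs => charpoly_eq_of_isConj_sl
      (ConjClasses.mk_eq_mk_iff_isConj.1 (hc.choose_spec.1.trans hs.symm))
  refine Nat.card_eq_of_bijective (fun c => ⟨(c.2.choose : Matrix (Fin (m + 1)) (Fin (m + 1)) F).charpoly,
    Matrix.charpoly_monic _, by rw [Matrix.charpoly_natDegree_eq_dim, Fintype.card_fin],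
    (hdet _).1 c.2.choose.2⟩) ⟨fun c d h => ?_, fun f => ?_⟩
  · apply Subtype.ext
    rw [← c.2.choose_spec.1, ← d.2.choose_spec.1, ConjClasses.mk_eq_mk_iff_isConj]
    exact isConj_sl_of_charpoly_eq p c.2.choose_spec.2 d.2.choose_spec.2 (congrArg Subtype.val h)
  · obtain ⟨g, hg, hgf⟩ := exists_regular_charpoly p
      (⟨f.1, f.2.1, f.2.2.1, by rw [f.2.2.2]; exact pow_ne_zero _ (neg_ne_zero.2 one_ne_zero)⟩ : GoodPoly F (m + 1))
    let s : Matrix.SpecialLinearGroup (Fin (m + 1)) F := ⟨g, (hdet _).2 (by rw [hgf]; exact f.2.2.2)⟩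
    have hs : (orderOf s).Coprime p := by
      rwa [← orderOf_toGL, show Matrix.SpecialLinearGroup.toGL s = g from Units.ext rfl]
    refine ⟨⟨ConjClasses.mk s, s, rfl, hs⟩, Subtype.ext ?_⟩
    exact (key _ ⟨s, rfl, hs⟩ s rfl).trans hgf

end CfsgLib.GLClass
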