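import Mathlib
import Cfsg.Agent.GLClass.Classes

/-!
Determinants on the centraliser of a matrix: for every elementary divisor `(f, e)` of `A` every
`e`-th power of a unit of the field is the determinant of an invertible matrix commuting with `A`,
and the determinant of `A` is read off from the elementary divisors.
-/

set_option autoImplicit false

namespace CfsgLib.GLClass

open Polynomial

variable {F : Type*} [Field F]

theorem det_piMap_fin : ∀ (N : ℕ) {M : Fin N → Type*} [∀ i, AddCommGroup (M i)] [∀ i, Module F (M i)]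
    [∀ i, FiniteDimensional F (M i)] (f : ∀ i, M i →ₗ[F] M i),
    (LinearMap.piMap f).det = ∏ i, (f i).det
  | 0, M, _, _, _, f => by
    rw [LinearMap.det_eq_one_of_subsingleton, Finset.univ_eq_empty, Finset.prod_empty]
  | N + 1, M, _, _, _, f => by
    let E := Fin.consLinearEquiv F M
    have h : LinearMap.piMap f =
        E.toLinearMap ∘ₗ ((f 0).prodMap (LinearMap.piMap fun i : Fin N => f i.succ)) ∘ₗ E.symm.toLinearMap := by
      refine LinearMap.ext fun x => ?_
      obtain ⟨y, rfl⟩ := E.surjective x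
      simp only [LinearMap.comp_apply, LinearEquiv.coe_coe, LinearEquiv.symm_apply_apply]
      funext i
      refine Fin.cases ?_ (fun j => ?_) i <;> simp [E, Fin.consLinearEquiv]
    rw [h, LinearMap.det_conj, LinearMap.det_prodMap,
      det_piMap_fin N fun i : Fin N => f i.succ, Fin.prod_univ_succ]

/-- `(-1) ^ deg f * f 0`, the norm of the root of a monic `f`. -/
noncomputable def nrm (f : F[X]) : F := (-1) ^ f.natDegree * f.coeff 0

theorem nrm_one : nrm (1 : F[X]) = 1 := by simp [nrm]

theorem nrm_mul {f g : F[X]} (hf : f.Monic) (hg : g.Monic) : nrm (f * g) = nrm f * nrm g := by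
  simp only [nrm, hf.natDegree_mul hg, mul_coeff_zero, pow_add]
  ring

theorem nrm_pow {f : F[X]} (hf : f.Monic) (e : ℕ) : nrm (f ^ e) = nrm f ^ e := by
  induction e with
  | zero => simp [nrm_one]
  | succ e ih => rw [pow_succ, nrm_mul (hf.pow e) hf, ih, pow_succ]

theorem det_eq_nrm_charpoly {ι : Type*} [Fintype ι] [DecidableEq ι] (A : Matrix ι ι F) :
    A.det = nrm A.charpoly := by
  rw [nrm, Matrix.charpoly_natDegree_eq_dim, Matrix.det_eq_sign_charpoly_coeff]

theorem det_aeval_X_sub_C {R : Type*} [CommRing R] {μ : Type*} [Fintype μ] [DecidableEq μ] (M : Matrix μ μ R) (r : R) :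
    (aeval M (X - C r)).det = (-1) ^ Fintype.card μ * M.charpoly.eval r := by
  rw [Matrix.eval_charpoly, ← Matrix.det_neg, neg_sub, map_sub, aeval_X, aeval_C]
  rfl

theorem map_det_aeval {K : Type*} [Field K] [Algebra F K] {μ : Type*} [Fintype μ] [DecidableEq μ]
    (M : Matrix μ μ F) (u : F[X]) :
    algebraMap F K (aeval M u).det = (aeval ((Algebra.ofId F K).mapMatrix M) (u.map (algebraMap F K))).det := by
  rw [aeval_map_algebraMap, aeval_algHom_apply, RingHom.map_det]
  rfl

/-- If the characteristic polynomial of `A` is a power of that of `B`, so is `det (u A)` of `det (u B)`. -/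
theorem det_aeval_eq_pow {ι κ : Type*} [Fintype ι] [DecidableEq ι] [Fintype κ] [DecidableEq κ]
    (A : Matrix ι ι F) (B : Matrix κ κ F) (e : ℕ) (h : A.charpoly = B.charpoly ^ e) (u : F[X]) :
    (aeval A u).det = (aeval B u).det ^ e := by
  let K := AlgebraicClosure F
  apply (algebraMap F K).injective
  have hd : Fintype.card ι = e * Fintype.card κ := by
    have := congrArg natDegree h
    rwa [natDegree_pow, Matrix.charpoly_natDegree_eq_dim, Matrix.charpoly_natDegree_eq_dim] at this
  let A' : Matrix ι ι K := (Algebra.ofId F K).mapMatrix A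
  let B' : Matrix κ κ K := (Algebra.ofId F K).mapMatrix B
  have h' : A'.charpoly = B'.charpoly ^ e := by
    show (A.map (algebraMap F K)).charpoly = (B.map (algebraMap F K)).charpoly ^ e
    rw [Matrix.charpoly_map, Matrix.charpoly_map, h, Polynomial.map_pow]
  have hgen : ∀ v : K[X], (aeval A' v).det = (aeval B' v).det ^ e := by
    intro v
    have hlin : ∀ r : K, (aeval A' (X - C r)).det = (aeval B' (X - C r)).det ^ e := by
      intro r
      rw [det_aeval_X_sub_C, det_aeval_X_sub_C, h', eval_pow, hd, mul_pow, ← pow_mul, mul_comm e]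
    rw [(IsAlgClosed.splits v).eq_prod_roots, map_mul, map_mul, Matrix.det_mul, Matrix.det_mul, mul_pow]
    congr 1
    · rw [aeval_C, aeval_C, Matrix.algebraMap_eq_diagonal, Matrix.algebraMap_eq_diagonal, Matrix.det_diagonal,
        Matrix.det_diagonal]
      simp only [Pi.algebraMap_apply, Finset.prod_const, Finset.card_univ, ← pow_mul, hd, mul_comm e]
    · induction v.roots using Multiset.induction_on with
      | empty => simp
      | cons r s ih =>
        rw [Multiset.map_cons, Multiset.prod_cons, map_mul, map_mul, Matrix.det_mul, Matrix.det_mul, mul_pow,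
          hlin r, ih]
  rw [map_pow, map_det_aeval A u, map_det_aeval B u]
  exact hgen _

/-- Multiplication by `u` on `F[X] / (f)`. -/
noncomputable def mulEnd (f u : F[X]) :
    F[X] ⧸ Submodule.span F[X] {f} →ₗ[F] F[X] ⧸ Submodule.span F[X] {f} :=
  (u • LinearMap.id : F[X] ⧸ Submodule.span F[X] {f} →ₗ[F[X]] F[X] ⧸ Submodule.span F[X] {f}).restrictScalars F

theorem det_mulEnd (f u : F[X]) : (mulEnd f u).det = Algebra.norm F (AdjoinRoot.mk f u) := by
  let j : (F[X] ⧸ Submodule.span F[X] {f}) ≃ₗ[F] AdjoinRoot f :=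
    { toFun := fun x => x
      invFun := fun x => x
      left_inv := fun _ => rfl
      right_inv := fun _ => rfl
      map_add' := fun _ _ => rfl
      map_smul' := fun c x => by
        obtain ⟨y, rfl⟩ := Submodule.Quotient.mk_surjective _ x
        rfl }
  rw [Algebra.norm_apply, ← LinearMap.det_conj (mulEnd f u) j]
  congr 1

theorem norm_mk_eq_det {f : F[X]} (hf : f.Monic) (u : F[X]) :
    Algebra.norm F (AdjoinRoot.mk f u) =
      (aeval (Algebra.leftMulMatrix (AdjoinRoot.powerBasis hf.ne_zero).basis (AdjoinRoot.root f)) u).det := by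
  rw [Algebra.norm_eq_matrix_det (AdjoinRoot.powerBasis hf.ne_zero).basis, aeval_algHom_apply, AdjoinRoot.aeval_eq]

theorem charpoly_root {f : F[X]} (hf : f.Monic) :
    (Algebra.leftMulMatrix (AdjoinRoot.powerBasis hf.ne_zero).basis (AdjoinRoot.root f)).charpoly = f := by
  refine (charpoly_leftMulMatrix (AdjoinRoot.powerBasis hf.ne_zero)).trans ?_
  rw [AdjoinRoot.powerBasis_gen, AdjoinRoot.minpoly_root hf.ne_zero, hf.leadingCoeff, inv_one, map_one, mul_one]

theorem det_mulEnd_X {f : F[X]} (hf : f.Monic) : (mulEnd f X).det = nrm f := by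
  rw [det_mulEnd, norm_mk_eq_det hf, aeval_X, det_eq_nrm_charpoly, charpoly_root hf]

theorem det_mulEnd_pow {f : F[X]} (hf : f.Monic) (e : ℕ) (u : F[X]) :
    (mulEnd (f ^ e) u).det = Algebra.norm F (AdjoinRoot.mk f u) ^ e := by
  rw [det_mulEnd, norm_mk_eq_det (hf.pow e), norm_mk_eq_det hf,
    det_aeval_eq_pow _ (Algebra.leftMulMatrix (AdjoinRoot.powerBasis hf.ne_zero).basis (AdjoinRoot.root f)) e
      (by rw [charpoly_root (hf.pow e), charpoly_root hf]) u]

theorem exists_norm_eq [Finite F] {f : F[X]} (hf : f.Monic) (hfi : Irreducible f) (δ : F) :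
    ∃ u : F[X], Algebra.norm F (AdjoinRoot.mk f u) = δ := by
  have : Fact (Irreducible f) := ⟨hfi⟩
  have : FiniteDimensional F (AdjoinRoot f) := (AdjoinRoot.powerBasis hf.ne_zero).finite
  have : Finite (AdjoinRoot f) := Module.finite_of_finite F
  obtain ⟨x, hx⟩ := FiniteField.norm_surjective F (AdjoinRoot f) δ
  obtain ⟨u, rfl⟩ := AdjoinRoot.mk_surjective x
  exact ⟨u, hx⟩

variable {n : ℕ}

/-- A family of polynomials acting componentwise gives a matrix commuting with `A`. -/
theorem exists_commute_of_family {A : Matrix (Fin n) (Fin n) F} {N : ℕ} {p : Fin N → F[X]} {e : Fin N → ℕ}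
    (hp : ∀ i, (p i).Monic) (φ : Module.AEval' (Matrix.toLin' A) ≃ₗ[F[X]] Model p e) (u : Fin N → F[X]) :
    ∃ B : Matrix (Fin n) (Fin n) F, Commute B A ∧ B.det = ∏ i, (mulEnd (p i ^ e i) (u i)).det ∧
      ((∀ i, u i = X) → B = A) := by
  have : ∀ i, FiniteDimensional F (F[X] ⧸ Submodule.span F[X] {p i ^ e i}) := fun i =>
    (AdjoinRoot.powerBasis ((hp i).pow (e i)).ne_zero).finite
  let S : Model p e →ₗ[F[X]] Model p e := LinearMap.piMap fun i => u i • LinearMap.id
  let J : (Fin n → F) ≃ₗ[F] Model p e :=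
    (Module.AEval'.of (Matrix.toLin' A)).trans (φ.restrictScalars F)
  let T : (Fin n → F) →ₗ[F] (Fin n → F) := J.symm.toLinearMap ∘ₗ S.restrictScalars F ∘ₗ J.toLinearMap
  have hJ : ∀ v, J (Matrix.toLin' A v) = (X : F[X]) • J v := by
    intro v
    show φ (Module.AEval'.of (Matrix.toLin' A) (Matrix.toLin' A v)) = _
    rw [← Module.AEval'.X_smul_of, map_smul]
    rfl
  refine ⟨LinearMap.toMatrix' T, ?_, ?_, ?_⟩
  · apply Matrix.toLin'.injective
    rw [Matrix.toLin'_mul, Matrix.toLin'_mul, Matrix.toLin'_toMatrix']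
    refine LinearMap.ext fun v => J.injective ?_
    simp only [LinearMap.comp_apply, hJ]
    show J (J.symm (S (J (Matrix.toLin' A v)))) = (X : F[X]) • J (J.symm (S (J v)))
    rw [J.apply_symm_apply, J.apply_symm_apply, hJ, map_smul]
  · rw [LinearMap.det_toMatrix']
    have h1 : LinearMap.det T = LinearMap.det (S.restrictScalars F) := by
      have h2 := LinearMap.det_conj (S.restrictScalars F) J.symm
      simpa [T] using h2
    rw [h1, ← det_piMap_fin N fun i => mulEnd (p i ^ e i) (u i)]
    rfl
  · intro hu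
    apply Matrix.toLin'.injective
    rw [Matrix.toLin'_toMatrix']
    refine LinearMap.ext fun v => J.injective ?_
    rw [hJ]
    show J (J.symm (S (J v))) = _
    rw [J.apply_symm_apply]
    funext i
    show u i • J v i = (X : F[X]) • J v i
    rw [hu i]

/-- The determinant from the elementary divisors. -/
theorem det_eq_prod_elemDiv (A : Matrix (Fin n) (Fin n) F) :
    A.det = ((elemDiv A).map fun x => nrm x.1 ^ x.2).prod := by
  obtain ⟨N, p, e, hd, h, ⟨φ⟩⟩ := exists_data_eq A
  obtain ⟨B, -, hdet, hB⟩ := exists_commute_of_family (fun i => (h i).1) φ fun _ => X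
  rw [hB fun _ => rfl] at hdet
  rw [hdet, hd, Multiset.map_map]
  exact Finset.prod_congr rfl fun i _ => by
    rw [det_mulEnd_X ((h i).1.pow _), nrm_pow (h i).1]; rfl

/-- Every `e`-th power of a unit is a determinant on the centraliser. -/
theorem exists_commute_det_pow [Finite F] {A : Matrix (Fin n) (Fin n) F} {x : F[X] × ℕ} (hx : x ∈ elemDiv A)
    (δ : F) : ∃ B : Matrix (Fin n) (Fin n) F, Commute B A ∧ B.det = δ ^ x.2 := by
  classical
  obtain ⟨N, p, e, hd, h, ⟨φ⟩⟩ := exists_data_eq A
  rw [hd, Multiset.mem_map] at hx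
  obtain ⟨i, -, rfl⟩ := hx
  obtain ⟨u, hu⟩ := exists_norm_eq (h i).1 (h i).2.1 δ
  obtain ⟨B, hc, hdet, -⟩ := exists_commute_of_family (fun i => (h i).1) φ fun k => if k = i then u else 1
  refine ⟨B, hc, ?_⟩
  rw [hdet, Finset.prod_eq_single i (fun k _ hk => ?_) (by simp), if_pos rfl, det_mulEnd_pow (h i).1, hu]
  rw [if_neg hk, det_mulEnd, map_one, map_one]

end CfsgLib.GLClass
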