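import Cfsg.Agent.GLClass.Uniqueness
import Cfsg.Agent.Geo.USemisimple
import Cfsg.Agent.GraphInv.Classify
import Cfsg.Agent.Classical.SemisimpleSymp

/-!
Forms fixed by a matrix `g`: the Gram matrices on the layers of the eigenvalues `1` and `-1`.
-/

set_option autoImplicit false
set_option linter.unusedSectionVars false

namespace CfsgLib.GLClass.Layers

open Polynomial Matrix
open scoped Classical

variable {F : Type*} [Field F] {n N : ℕ} {g : GL (Fin n) F} {p : Fin N → F[X]} {e : Fin N → ℕ}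

/-- Elementary divisor data of `g`. -/
structure Data (g : GL (Fin n) F) (p : Fin N → F[X]) (e : Fin N → ℕ) where
  valid : ∀ i, (p i).Monic ∧ Irreducible (p i) ∧ 0 < e i
  exp_le : ∀ i, e i ≤ n
  equiv : Module.AEval' (Matrix.toLin' g.val) ≃ₗ[F[X]] Model p e

variable (D : Data g p e)

/-- The coordinates. -/
noncomputable def Data.coord : (Fin n → F) ≃ₗ[F] Model p e :=
  (Module.AEval'.of (Matrix.toLin' g.val)).trans (D.equiv.restrictScalars F)

/-- The generators. -/
noncomputable def Data.gen (i : Fin N) : Fin n → F :=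
  D.coord.symm (Pi.single i (Submodule.Quotient.mk 1))

theorem coord_aeval (r : F[X]) (v : Fin n → F) : D.coord (aeval g.val r *ᵥ v) = r • D.coord v := by
  show D.equiv (Module.AEval'.of (Matrix.toLin' g.val) (aeval g.val r *ᵥ v)) = _
  rw [← Matrix.toLin'_apply, ← aeval_toLin', ← Module.End.smul_def, Module.AEval'.of, Module.AEval.of_aeval_smul,
    map_smul]
  rfl

theorem coord_gen (i : Fin N) : D.coord (D.gen i) = Pi.single i (Submodule.Quotient.mk 1) :=
  D.coord.apply_symm_apply _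

/-- The type of an index. -/
def typ (p : Fin N → F[X]) (e : Fin N → ℕ) (i : Fin N) : F[X] × ℕ := (p i, e i)

/-- The indices of a type. -/
abbrev Idx (p : Fin N → F[X]) (e : Fin N → ℕ) (t : F[X] × ℕ) : Type := {i : Fin N // typ p e i = t}

/-- `(g - s) ^ k`. -/
noncomputable def lay (g : GL (Fin n) F) (s : F) (k : ℕ) : Matrix (Fin n) (Fin n) F :=
  aeval g.val ((X - C s) ^ k)

theorem lay_add (g : GL (Fin n) F) (s : F) (j k : ℕ) : lay g s (j + k) = lay g s j * lay g s k := by
  rw [lay, lay, lay, pow_add, map_mul]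

theorem commute_lay {M : Matrix (Fin n) (Fin n) F} (h : Commute g.val M) (s : F) (k : ℕ) :
    Commute (lay g s k) M :=
  CfsgLib.Geo.USemi.commute_aeval h _

/-- The combination of the generators of one type. -/
noncomputable def Data.comb {t : F[X] × ℕ} (a : Idx p e t → F) : Fin n → F := ∑ i, a i • D.gen i.1

theorem coord_comb {t : F[X] × ℕ} (a : Idx p e t → F) (j : Fin N) :
    D.coord (D.comb a) j = if h : typ p e j = t then a ⟨j, h⟩ • Submodule.Quotient.mk (1 : F[X]) else 0 := by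
  rw [Data.comb, map_sum, Finset.sum_apply]
  simp only [map_smul, coord_gen, Pi.smul_apply]
  split_ifs with h
  · rw [Finset.sum_eq_single ⟨j, h⟩ (fun b _ hb => ?_) (by simp), Pi.single_eq_same]
    rw [Pi.single_eq_of_ne (fun e' => hb (Subtype.ext e'.symm)), smul_zero]
  · refine Finset.sum_eq_zero fun b _ => ?_
    rw [Pi.single_eq_of_ne (fun e' => h (by rw [e']; exact b.2)), smul_zero]

theorem coord_lay (s : F) (k : ℕ) (v : Fin n → F) (j : Fin N) :
    D.coord (lay g s k *ᵥ v) j = (X - C s) ^ k • D.coord v j := by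
  rw [lay, coord_aeval, Pi.smul_apply]

/-- Every vector of `ker L ^ (k + 1)` is a combination of the generators of exponent `k + 1` up to `L`. -/
theorem layer_decomp {s : F} {k : ℕ} {x : Fin n → F} (hx : lay g s (k + 1) *ᵥ x = 0) :
    ∃ (a : Idx p e (X - C s, k + 1) → F) (z : Fin n → F),
      lay g s k *ᵥ x = lay g s k *ᵥ D.comb a + lay g s (k + 1) *ᵥ z := by
  classical
  have hcomp : ∀ i, ∃ (c : F) (z : F[X] ⧸ Submodule.span F[X] {p i ^ e i}), (typ p e i ≠ (X - C s, k + 1) → c = 0) ∧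
      (X - C s) ^ k • D.coord x i = (X - C s) ^ k • (c • Submodule.Quotient.mk (1 : F[X])) + (X - C s) ^ (k + 1) • z := by
    intro i
    obtain ⟨hm, hirr, he⟩ := D.valid i
    obtain ⟨r, hr⟩ := Submodule.Quotient.mk_surjective _ (D.coord x i)
    have h0 := congrArg (fun v => D.coord v i) hx
    simp only [coord_lay, map_zero, Pi.zero_apply] at h0
    rw [← hr, ← Submodule.Quotient.mk_smul, Submodule.Quotient.mk_eq_zero, Ideal.mem_span_singleton, smul_eq_mul] at h0
    by_cases hp : p i = X - C s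
    · rcases lt_trichotomy (e i) (k + 1) with hlt | heq | hgt
      · refine ⟨0, 0, fun _ => rfl, ?_⟩
        rw [← hr, zero_smul, smul_zero, smul_zero, add_zero, ← Submodule.Quotient.mk_smul, Submodule.Quotient.mk_eq_zero,
          Ideal.mem_span_singleton, smul_eq_mul, hp]
        exact Dvd.dvd.mul_right (pow_dvd_pow _ (by omega)) r
      · obtain ⟨r', hr'⟩ := X_sub_C_dvd_sub_C_eval (a := s) (p := r)
        refine ⟨r.eval s, Submodule.Quotient.mk r', fun h => absurd (Prod.ext hp heq) h, ?_⟩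
        rw [← hr, ← Submodule.Quotient.mk_smul, ← Submodule.Quotient.mk_smul, ← Submodule.Quotient.mk_smul,
          ← Submodule.Quotient.mk_smul, ← Submodule.Quotient.mk_add]
        congr 1
        rw [smul_eq_mul, smul_eq_mul, smul_eq_mul, smul_eq_C_mul]
        linear_combination (X - C s) ^ k * hr'
      · rw [hp, show e i = (k + 1) + (e i - (k + 1)) by omega, pow_add] at h0
        obtain ⟨r', hr'⟩ := (mul_dvd_mul_iff_left (pow_ne_zero _ (X_sub_C_ne_zero s))).1 h0
        obtain ⟨j, hj⟩ : ∃ j, e i - (k + 1) = j + 1 := ⟨e i - (k + 1) - 1, by omega⟩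
        refine ⟨0, Submodule.Quotient.mk ((X - C s) ^ j * r'), fun _ => rfl, ?_⟩
        rw [← hr, zero_smul, smul_zero, zero_add, ← Submodule.Quotient.mk_smul, ← Submodule.Quotient.mk_smul]
        congr 1
        rw [hr', hj, smul_eq_mul, smul_eq_mul, pow_succ, pow_succ]
        ring
    · refine ⟨0, 0, fun _ => rfl, ?_⟩
      have hcop : IsCoprime (p i ^ e i) ((X - C s) ^ (k + 1)) :=
        (hirr.coprime_iff_not_dvd.2 fun h => hp (eq_of_monic_of_associated hm (monic_X_sub_C s)
          (hirr.associated_of_dvd (irreducible_X_sub_C s) h))).pow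
      rw [← hr, zero_smul, smul_zero, smul_zero, add_zero, ← Submodule.Quotient.mk_smul,
        Submodule.Quotient.mk_eq_zero, Ideal.mem_span_singleton, smul_eq_mul]
      exact Dvd.dvd.mul_left (hcop.dvd_of_dvd_mul_left h0) _
  choose c z hc hz using hcomp
  refine ⟨fun i => c i.1, D.coord.symm z, D.coord.injective (funext fun j => ?_)⟩
  rw [map_add, Pi.add_apply, coord_lay, coord_lay, coord_lay, D.coord.apply_symm_apply, coord_comb, hz j]
  congr 2
  split_ifs with h
  · rfl
  · rw [hc j h, zero_smul]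

/-- The generators of one exponent are independent modulo `L`. -/
theorem layer_indep {s : F} {k : ℕ} {a : Idx p e (X - C s, k + 1) → F} {z : Fin n → F}
    (h : lay g s k *ᵥ D.comb a = lay g s (k + 1) *ᵥ z) : a = 0 := by
  classical
  funext ⟨j, hj⟩
  have h1 := congrArg (fun v => D.coord v j) h
  simp only [coord_lay, coord_comb, dif_pos hj] at h1
  obtain ⟨r, hr⟩ := Submodule.Quotient.mk_surjective _ (D.coord z j)
  rw [← hr, ← Submodule.Quotient.mk_smul, ← Submodule.Quotient.mk_smul, ← Submodule.Quotient.mk_smul,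
    Submodule.Quotient.eq, Ideal.mem_span_singleton, show p j = X - C s from congrArg Prod.fst hj,
    show e j = k + 1 from congrArg Prod.snd hj, smul_eq_mul, smul_eq_mul, smul_eq_C_mul, mul_one] at h1
  obtain ⟨w, hw⟩ := h1
  have h2 : C (a ⟨j, hj⟩) = (X - C s) * (r + w) :=
    mul_left_cancel₀ (pow_ne_zero k (X_sub_C_ne_zero s)) (by rw [pow_succ] at hw; linear_combination hw)
  simpa using congrArg (eval s) h2

theorem lay_comb {s : F} {k : ℕ} (a : Idx p e (X - C s, k + 1) → F) : lay g s (k + 1) *ᵥ D.comb a = 0 := by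
  classical
  refine D.coord.injective (funext fun j => ?_)
  rw [coord_lay, coord_comb, map_zero, Pi.zero_apply]
  split_ifs with h
  · rw [← Submodule.Quotient.mk_smul, ← Submodule.Quotient.mk_smul, Submodule.Quotient.mk_eq_zero,
      Ideal.mem_span_singleton, smul_eq_mul, show p j = X - C s from congrArg Prod.fst h,
      show e j = k + 1 from congrArg Prod.snd h]
    exact dvd_mul_right _ _
  · rw [smul_zero]

include D in
theorem lay_stable {s : F} {k : ℕ} (hk : n ≤ k) {x : Fin n → F} (hx : lay g s (k + 1) *ᵥ x = 0) :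
    lay g s k *ᵥ x = 0 := by
  classical
  refine D.coord.injective (funext fun j => ?_)
  have h0 := congrArg (fun v => D.coord v j) hx
  simp only [coord_lay, map_zero, Pi.zero_apply] at h0 ⊢
  obtain ⟨hm, hirr, he⟩ := D.valid j
  obtain ⟨r, hr⟩ := Submodule.Quotient.mk_surjective _ (D.coord x j)
  rw [← hr, ← Submodule.Quotient.mk_smul, Submodule.Quotient.mk_eq_zero, Ideal.mem_span_singleton, smul_eq_mul]
    at h0 ⊢
  by_cases hp : p j = X - C s
  · rw [hp]; exact Dvd.dvd.mul_right (pow_dvd_pow _ ((D.exp_le j).trans hk)) r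
  · exact Dvd.dvd.mul_left ((IsCoprime.dvd_of_dvd_mul_left ((hirr.coprime_iff_not_dvd.2 fun h =>
      hp (eq_of_monic_of_associated hm (monic_X_sub_C s)
        (hirr.associated_of_dvd (irreducible_X_sub_C s) h))).pow) h0)) _

/-- A matrix commuting with `g` is determined by the generators. -/
theorem eq_of_gen {M M' : Matrix (Fin n) (Fin n) F} (hM : Commute g.val M) (hM' : Commute g.val M')
    (h : ∀ i, M *ᵥ D.gen i = M' *ᵥ D.gen i) : M = M' := by
  classical
  have hc : ∀ r : F[X], ∀ i, M *ᵥ (aeval g.val r *ᵥ D.gen i) = M' *ᵥ (aeval g.val r *ᵥ D.gen i) := fun r i => by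
    rw [mulVec_mulVec, mulVec_mulVec, ← (CfsgLib.Geo.USemi.commute_aeval hM r).eq,
      ← (CfsgLib.Geo.USemi.commute_aeval hM' r).eq, ← mulVec_mulVec, ← mulVec_mulVec, h]
  apply Matrix.ext_of_mulVec_single
  intro b
  generalize (Pi.single b 1 : Fin n → F) = v
  choose r hr using fun i => Submodule.Quotient.mk_surjective _ (D.coord v i)
  have hv : v = ∑ i, aeval g.val (r i) *ᵥ D.gen i := by
    refine D.coord.injective (funext fun j => ?_)
    rw [map_sum, Finset.sum_apply, Finset.sum_eq_single j (fun b _ hb => ?_) (by simp), coord_aeval, coord_gen,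
      Pi.smul_apply, Pi.single_eq_same, ← Submodule.Quotient.mk_smul, smul_eq_mul, mul_one, hr]
    rw [coord_aeval, coord_gen, Pi.smul_apply, Pi.single_eq_of_ne hb.symm, smul_zero]
  rw [hv, mulVec_sum, mulVec_sum]
  exact Finset.sum_congr rfl fun i _ => hc _ i

/-- Base change of the generators inside the types extends to the centraliser. -/
theorem exists_lift (U : Matrix (Fin N) (Fin N) F) (hU : ∀ i j, U i j ≠ 0 → typ p e i = typ p e j) :
    ∃ M : Matrix (Fin n) (Fin n) F, Commute g.val M ∧ ∀ j, M *ᵥ D.gen j = ∑ i, U i j • D.gen i := by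
  let cast : ∀ i j, (F[X] ⧸ Submodule.span F[X] {p j ^ e j}) →ₗ[F[X]] F[X] ⧸ Submodule.span F[X] {p i ^ e i} :=
    fun i j => if h : Submodule.span F[X] {p j ^ e j} = Submodule.span F[X] {p i ^ e i} then
      (Submodule.quotEquivOfEq _ _ h).toLinearMap
    else 0
  let S : Model p e →ₗ[F[X]] Model p e :=
    LinearMap.pi fun i => ∑ j, C (U i j) • (cast i j).comp (LinearMap.proj j)
  let T : (Fin n → F) →ₗ[F] (Fin n → F) :=
    D.coord.symm.toLinearMap ∘ₗ S.restrictScalars F ∘ₗ D.coord.toLinearMap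
  have hT : ∀ v, D.coord (LinearMap.toMatrix' T *ᵥ v) = S (D.coord v) := fun v => by
    rw [← Matrix.toLin'_apply, Matrix.toLin'_toMatrix']
    exact D.coord.apply_symm_apply _
  refine ⟨LinearMap.toMatrix' T, Matrix.ext_of_mulVec_single fun b => ?_, fun j => D.coord.injective (funext fun i => ?_)⟩
  · rw [← mulVec_mulVec, ← mulVec_mulVec]
    refine D.coord.injective ?_
    have hX : ∀ v, D.coord (g.val *ᵥ v) = (X : F[X]) • D.coord v := fun v => by
      have := coord_aeval D X v
      rwa [aeval_X] at this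
    rw [hX, hT, hT, hX, map_smul]
  · rw [hT, coord_gen, map_sum, Finset.sum_apply]
    simp only [map_smul, coord_gen, Pi.smul_apply, S, LinearMap.pi_apply, LinearMap.sum_apply, LinearMap.smul_apply,
      LinearMap.comp_apply, LinearMap.proj_apply]
    rw [Finset.sum_eq_single j (fun b _ hb => by rw [Pi.single_eq_of_ne hb, map_zero, smul_zero]) (by simp),
      Finset.sum_eq_single i (fun b _ hb => by rw [Pi.single_eq_of_ne hb.symm, smul_zero]) (by simp),
      Pi.single_eq_same, Pi.single_eq_same]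
    by_cases h : typ p e j = typ p e i
    · have hs : Submodule.span F[X] {p j ^ e j} = Submodule.span F[X] {p i ^ e i} :=
        congrArg (fun t : F[X] × ℕ => Submodule.span F[X] {t.1 ^ t.2}) h
      simp only [cast, dif_pos hs, LinearEquiv.coe_coe, Submodule.quotEquivOfEq_mk]
      rw [← Submodule.Quotient.mk_smul, ← Submodule.Quotient.mk_smul, smul_eq_C_mul, smul_eq_mul]
    · have hz : U i j = 0 := by
        by_contra hne
        exact h (hU i j hne).symm
      simp [hz]

section form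

variable {B : Matrix (Fin n) (Fin n) F} {ε : F}
variable (hB : g.valᵀ * B * g.val = B) (hε : Bᵀ = ε • B)

include hB in
theorem transpose_aeval_mul (r : F[X]) : (aeval g.val r)ᵀ * B = B * aeval (g⁻¹).val r := by
  have h1 : g.valᵀ * B = B * (g⁻¹).val := by
    conv_rhs => rw [← hB, mul_assoc, Units.mul_inv, mul_one]
  induction r using Polynomial.induction_on' with
  | add a b ha hb => rw [map_add, map_add, transpose_add, add_mul, ha, hb, mul_add]
  | monomial k c =>
    rw [aeval_monomial, aeval_monomial, Algebra.algebraMap_eq_smul_one, smul_mul_assoc, one_mul, smul_mul_assoc,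
      one_mul, transpose_smul, smul_mul_assoc, mul_smul_comm]
    congr 1
    induction k with
    | zero => simp
    | succ k ih =>
      rw [pow_succ, transpose_mul, mul_assoc, ih, ← mul_assoc, h1, mul_assoc, ← pow_succ']

theorem aeval_inv_lay (g : GL (Fin n) F) {s : F} (hs : s * s = 1) (k : ℕ) :
    aeval (g⁻¹).val ((X - C s) ^ k) = (-s) ^ k • ((g⁻¹).val ^ k * lay g s k) := by
  rw [lay]
  simp only [map_pow, map_sub, aeval_X, aeval_C]
  have h1 : (g⁻¹).val - algebraMap F _ s = (-s) • ((g⁻¹).val * (g.val - algebraMap F _ s)) := by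
    rw [mul_sub, Units.inv_mul, Algebra.algebraMap_eq_smul_one, mul_smul_comm, mul_one, smul_sub, smul_smul,
      neg_mul, hs, neg_smul, neg_smul, one_smul]
    abel
  rw [h1, _root_.smul_pow, Commute.mul_pow]
  refine Commute.sub_right ?_ ((Algebra.commutes s _).symm)
  rw [Commute, SemiconjBy, Units.inv_mul, Units.mul_inv]

include hB in
theorem dot_lay {s : F} (hs : s * s = 1) (k : ℕ) (u w : Fin n → F) :
    (lay g s k *ᵥ u) ⬝ᵥ (B *ᵥ w) = (-s) ^ k * (u ⬝ᵥ (B *ᵥ ((g⁻¹).val ^ k *ᵥ (lay g s k *ᵥ w)))) := by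
  rw [← vecMul_transpose, ← dotProduct_mulVec, mulVec_mulVec, lay, transpose_aeval_mul hB, aeval_inv_lay g hs,
    mul_smul_comm, smul_mulVec, dotProduct_smul, smul_eq_mul, ← mulVec_mulVec, ← mulVec_mulVec]
  rfl

/-- The Gram matrix on a layer. -/
noncomputable def gram (B : Matrix (Fin n) (Fin n) F) (s : F) (k : ℕ) :
    Matrix (Idx p e (X - C s, k + 1)) (Idx p e (X - C s, k + 1)) F :=
  Matrix.of fun i j => D.gen i.1 ⬝ᵥ (B *ᵥ (lay g s k *ᵥ D.gen j.1))

theorem lay_inv_pow (g : GL (Fin n) F) (s : F) (k m : ℕ) :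
    Commute (lay g s k) ((g⁻¹).val ^ m) :=
  CfsgLib.Geo.USemi.commute_aeval (Commute.pow_right (by rw [Commute, SemiconjBy, Units.mul_inv, Units.inv_mul]) m) _

theorem dot_comb_right {s : F} {k : ℕ} (a : Idx p e (X - C s, k + 1) → F) (i : Idx p e (X - C s, k + 1)) :
    D.gen i.1 ⬝ᵥ (B *ᵥ (lay g s k *ᵥ D.comb a)) = (gram D B s k *ᵥ a) i := by
  rw [Data.comb, mulVec_sum, mulVec_sum, dotProduct_sum, Matrix.mulVec, dotProduct]
  refine Finset.sum_congr rfl fun j _ => ?_
  rw [mulVec_smul, mulVec_smul, dotProduct_smul, smul_eq_mul, mul_comm]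
  rfl

include hB in
theorem dot_range {s : F} (hs : s * s = 1) (k : ℕ) (z u : Fin n → F) (hu : lay g s k *ᵥ u = 0) :
    (lay g s k *ᵥ z) ⬝ᵥ (B *ᵥ u) = 0 := by
  rw [dot_lay hB hs, hu, mulVec_zero, mulVec_zero, dotProduct_zero, mul_zero]

include hB hε in
theorem dot_swap (u v : Fin n → F) : u ⬝ᵥ (B *ᵥ v) = ε * (v ⬝ᵥ (B *ᵥ u)) := by
  rw [dotProduct_mulVec, ← mulVec_transpose, hε, smul_mulVec, smul_dotProduct, dotProduct_comm, smul_eq_mul]

include hB hε in
theorem gram_transpose (hεε : ε * ε = 1) {s : F} (hs : s * s = 1) (k : ℕ) :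
    (gram D B s k)ᵀ = ((-1) ^ k * ε) • gram D B s k := by
  classical
  ext i j
  rw [transpose_apply, Matrix.smul_apply, smul_eq_mul]
  show D.gen j.1 ⬝ᵥ (B *ᵥ (lay g s k *ᵥ D.gen i.1)) = (-1) ^ k * ε * (D.gen i.1 ⬝ᵥ (B *ᵥ (lay g s k *ᵥ D.gen j.1)))
  have hkill : ∀ m : Idx p e (X - C s, k + 1), lay g s (k + 1) *ᵥ D.gen m.1 = 0 := fun m => by
    have := lay_comb D (Pi.single m 1)
    rwa [Data.comb, Finset.sum_eq_single m (fun b _ hb => by rw [Pi.single_eq_of_ne hb, zero_smul]) (by simp),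
      Pi.single_eq_same, one_smul] at this
  have hfix : ∀ m, (g⁻¹).val ^ m *ᵥ (lay g s k *ᵥ D.gen i.1) = s ^ m • (lay g s k *ᵥ D.gen i.1) := by
    intro m
    induction m with
    | zero => simp
    | succ m ih =>
      have h1 : g.val *ᵥ (lay g s k *ᵥ D.gen i.1) = s • (lay g s k *ᵥ D.gen i.1) := by
        have := hkill i
        rw [show lay g s (k + 1) = lay g s 1 * lay g s k by rw [← lay_add, Nat.add_comm], ← mulVec_mulVec, show lay g s 1 = g.val - s • 1 by
          simp [lay, Algebra.algebraMap_eq_smul_one], sub_mulVec, sub_eq_zero, smul_mulVec, one_mulVec] at this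
        exact this
      have h2 : (g⁻¹).val *ᵥ (lay g s k *ᵥ D.gen i.1) = s • (lay g s k *ᵥ D.gen i.1) := by
        have := congrArg ((g⁻¹).val *ᵥ ·) h1
        simp only [mulVec_mulVec, Units.inv_mul_cancel_left, mulVec_smul] at this
        calc (g⁻¹).val *ᵥ (lay g s k *ᵥ D.gen i.1) = (s * s) • ((g⁻¹).val *ᵥ (lay g s k *ᵥ D.gen i.1)) := by
              rw [hs, one_smul]
          _ = s • (lay g s k *ᵥ D.gen i.1) := by rw [mul_smul, mulVec_mulVec, ← this]
      rw [pow_succ, ← mulVec_mulVec, h2, mulVec_smul, ih, smul_smul, pow_succ']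
  have hmove : (lay g s k *ᵥ D.gen j.1) ⬝ᵥ (B *ᵥ D.gen i.1) = (-1) ^ k * (D.gen j.1 ⬝ᵥ (B *ᵥ (lay g s k *ᵥ D.gen i.1))) := by
    rw [dot_lay hB hs, hfix, mulVec_smul, dotProduct_smul, smul_eq_mul, ← mul_assoc, ← mul_pow, neg_mul, hs]
  rw [dot_swap hB hε (D.gen i.1), hmove]
  have hk : (-1 : F) ^ k * (-1) ^ k = 1 := by rw [← mul_pow, neg_one_mul, neg_neg, one_pow]
  linear_combination (-(D.gen j.1 ⬝ᵥ (B *ᵥ (lay g s k *ᵥ D.gen i.1))) * ε * ε) * hk -
    (D.gen j.1 ⬝ᵥ (B *ᵥ (lay g s k *ᵥ D.gen i.1))) * hεε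

/-- A vector orthogonal to a kernel is in the range of the transpose. -/
theorem exists_eq_transpose {M : Matrix (Fin n) (Fin n) F} {v : Fin n → F}
    (h : ∀ x, M *ᵥ x = 0 → x ⬝ᵥ v = 0) : ∃ z, v = Mᵀ *ᵥ z := by
  let φ : Module.Dual F (Fin n → F) :=
    { toFun := fun x => x ⬝ᵥ v
      map_add' := fun x y => add_dotProduct x y v
      map_smul' := fun c x => smul_dotProduct c x v }
  have hφ : φ ∈ LinearMap.range M.mulVecLin.dualMap := by
    rw [LinearMap.range_dualMap_eq_dualAnnihilator_ker, Submodule.mem_dualAnnihilator]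
    exact fun x hx => h x (by simpa using hx)
  obtain ⟨η, hη⟩ := hφ
  refine ⟨fun i => η (Pi.single i 1), funext fun j => ?_⟩
  have h1 := LinearMap.congr_fun hη (Pi.single j 1)
  simp only [LinearMap.dualMap_apply, mulVecLin_apply, φ, LinearMap.coe_mk, AddHom.coe_mk, single_dotProduct,
    one_mul] at h1
  rw [← h1]
  conv_lhs => rw [show M *ᵥ Pi.single j 1 = ∑ i, M i j • (Pi.single i 1 : Fin n → F) by
    ext a; simp [Pi.single_apply]]
  simp [Matrix.mulVec, dotProduct]

include hB in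
theorem gram_det_ne_zero (hdet : B.det ≠ 0) {s : F} (hs : s * s = 1) (k : ℕ) :
    (gram D B s k).det ≠ 0 := by
  classical
  intro hzero
  obtain ⟨a, ha0, ha⟩ := Matrix.exists_mulVec_eq_zero_iff.2 hzero
  apply ha0
  set w := lay g s k *ᵥ D.comb a with hw
  have horth : ∀ x, lay g s (k + 1) *ᵥ x = 0 → x ⬝ᵥ (B *ᵥ w) = 0 := by
    intro x hx
    obtain ⟨b, z, hxz⟩ := layer_decomp D hx
    obtain ⟨G', hG1, hG2⟩ : ∃ G' : Matrix (Fin n) (Fin n) F, G' * (g⁻¹).val ^ k = 1 ∧ Commute G' (lay g s k) :=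
      ⟨g.val ^ k, by rw [← Units.val_pow_eq_pow_val, ← Units.val_pow_eq_pow_val, ← Units.val_mul, inv_pow,
        mul_inv_cancel, Units.val_one], ((CfsgLib.Geo.USemi.commute_aeval (Commute.refl g.val) _).pow_right k).symm⟩
    have hrev : ∀ v : Fin n → F, v ⬝ᵥ (B *ᵥ w) = (-s) ^ k * ((lay g s k *ᵥ v) ⬝ᵥ (B *ᵥ (G' *ᵥ D.comb a))) := by
      intro v
      rw [dot_lay hB hs, ← mul_assoc, ← mul_pow, neg_mul_neg, hs, one_pow, one_mul, hw]
      congr 2
      rw [mulVec_mulVec, mulVec_mulVec, mul_assoc, ← hG2.eq, ← mul_assoc, mul_eq_one_comm.1 hG1, one_mul]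
    rw [hrev, hxz, add_dotProduct, mul_add, ← hrev (D.comb b)]
    have h1 : D.comb b ⬝ᵥ (B *ᵥ w) = 0 := by
      rw [Data.comb, sum_dotProduct]
      refine Finset.sum_eq_zero fun i _ => ?_
      rw [smul_dotProduct, hw, dot_comb_right, ha, Pi.zero_apply, smul_zero]
    rw [h1, zero_add, dot_range hB hs (k + 1) z (G' *ᵥ D.comb a), mul_zero]
    rw [mulVec_mulVec, show lay g s (k + 1) * G' = G' * lay g s (k + 1) by
      have : Commute g.val G' := by
        have h' : Commute g.val (g⁻¹).val := by rw [Commute, SemiconjBy, Units.mul_inv, Units.inv_mul]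
        have hG : G' = g.val ^ k := by
          refine left_inv_eq_right_inv hG1 ?_
          rw [← Units.val_pow_eq_pow_val, ← Units.val_pow_eq_pow_val, ← Units.val_mul, inv_pow, inv_mul_cancel,
            Units.val_one]
        rw [hG]
        exact (Commute.refl _).pow_right k
      exact (commute_lay this s _).eq, ← mulVec_mulVec, lay_comb, mulVec_zero]
  obtain ⟨z, hz⟩ := exists_eq_transpose horth
  obtain ⟨z', rfl⟩ : ∃ z', B *ᵥ z' = z := by
    refine ⟨B⁻¹ *ᵥ z, ?_⟩
    rw [mulVec_mulVec, Matrix.mul_nonsing_inv _ (Ne.isUnit hdet), one_mulVec]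
  have hT : (lay g s (k + 1))ᵀ * B = B * ((-s) ^ (k + 1) • ((g⁻¹).val ^ (k + 1) * lay g s (k + 1))) := by
    rw [lay, transpose_aeval_mul hB, aeval_inv_lay g hs]
    rfl
  have hz' : B *ᵥ w = B *ᵥ (((-s) ^ (k + 1) • ((g⁻¹).val ^ (k + 1) * lay g s (k + 1))) *ᵥ z') :=
    hz.trans (by rw [mulVec_mulVec, hT, ← mulVec_mulVec])
  have hw' := (Matrix.mulVec_injective_iff_isUnit.2 ((Matrix.isUnit_iff_isUnit_det B).2 (Ne.isUnit hdet))) hz'
  rw [← (lay_inv_pow g s (k + 1) (k + 1)).eq, smul_mulVec, ← mulVec_mulVec, ← mulVec_smul] at hw'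
  exact layer_indep D hw'

include hB in
theorem gram_congr {Cm : Matrix (Fin n) (Fin n) F} (hC : Commute g.val Cm) {U : Matrix (Fin N) (Fin N) F}
    (hU : ∀ i j, U i j ≠ 0 → typ p e i = typ p e j) (hCg : ∀ j, Cm *ᵥ D.gen j = ∑ i, U i j • D.gen i) (s : F) (k : ℕ) :
    gram D (Cmᵀ * B * Cm) s k =
      (U.submatrix Subtype.val Subtype.val)ᵀ * gram D B s k * U.submatrix Subtype.val Subtype.val := by
  classical
  ext i j
  have hcol : ∀ m : Idx p e (X - C s, k + 1), Cm *ᵥ D.gen m.1 = D.comb fun l : Idx p e (X - C s, k + 1) => U l.1 m.1 := by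
    intro m
    rw [hCg, Data.comb]
    refine ((Finset.sum_subtype (Finset.univ.filter fun l => typ p e l = (X - C s, k + 1))
      (fun l => by simp) fun l => U l m.1 • D.gen l).symm.trans (Finset.sum_filter_of_ne fun l _ hne => ?_)).symm
    refine (hU l m.1 fun h0 => hne ?_).trans m.2
    rw [h0, zero_smul]
  show D.gen i.1 ⬝ᵥ ((Cmᵀ * B * Cm) *ᵥ (lay g s k *ᵥ D.gen j.1)) = _
  rw [← mulVec_mulVec, ← mulVec_mulVec, dotProduct_mulVec, vecMul_transpose, hcol i,
    mulVec_mulVec (D.gen j.1) Cm, ← (commute_lay hC s k).eq, ← mulVec_mulVec, hcol j, Data.comb, sum_dotProduct]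
  simp only [smul_dotProduct, smul_eq_mul, dot_comb_right]
  simp only [mul_assoc, Matrix.mul_apply, transpose_apply, submatrix_apply, Matrix.mulVec, dotProduct]
  simp only [Finset.mul_sum, Finset.sum_mul, mul_assoc]
  exact Finset.sum_comm

end form

end CfsgLib.GLClass.Layers
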