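import Cfsg.Agent.GLClass.IsometryLayers

/-!
Forms fixed by `g` with congruent layers are congruent under the centraliser of `g`.
-/

set_option autoImplicit false
set_option linter.unusedSectionVars false
set_option linter.style.haveILetI false

namespace CfsgLib.GLClass.Layers

open Polynomial Matrix CfsgLib.SemiConj
open scoped Classical

variable {F : Type*} [Field F] {n N : ℕ} {g : GL (Fin n) F} {p : Fin N → F[X]} {e : Fin N → ℕ}
  (D : Data g p e) {B B' : Matrix (Fin n) (Fin n) F} {ε : F}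

/-- A matrix on every type, as one matrix. -/
noncomputable def glueT (T : ∀ t, Matrix (Idx p e t) (Idx p e t) F) : Matrix (Fin N) (Fin N) F :=
  Matrix.of fun i j => if h : typ p e j = typ p e i then T (typ p e i) ⟨i, rfl⟩ ⟨j, h⟩ else 0

theorem glueT_apply (T : ∀ t, Matrix (Idx p e t) (Idx p e t) F) {t : F[X] × ℕ} (i j : Idx p e t) :
    glueT T i.1 j.1 = T t i j := by
  obtain ⟨i, rfl⟩ := i
  exact dif_pos j.2

theorem glueT_ne (T : ∀ t, Matrix (Idx p e t) (Idx p e t) F) (i j : Fin N) (h : glueT T i j ≠ 0) :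
    typ p e i = typ p e j := by
  by_contra hne
  exact h (dif_neg fun h' => hne h'.symm)

theorem glueT_mul (T T' : ∀ t, Matrix (Idx p e t) (Idx p e t) F) :
    glueT T * glueT T' = glueT fun t => T t * T' t := by
  ext i j
  rw [Matrix.mul_apply]
  by_cases h : typ p e j = typ p e i
  · rw [show glueT (fun t => T t * T' t) i j = _ from glueT_apply _ (⟨i, rfl⟩ : Idx p e (typ p e i)) ⟨j, h⟩,
      Matrix.mul_apply, ← Finset.sum_filter_of_ne (p := fun l => typ p e l = typ p e i) (fun l _ hne =>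
        (glueT_ne T i l (left_ne_zero_of_mul hne)).symm),
      Finset.sum_subtype (p := fun l => typ p e l = typ p e i) _ (fun l => by simp)]
    refine Finset.sum_congr rfl fun l _ => ?_
    exact congrArg₂ (· * ·) (glueT_apply T ⟨i, rfl⟩ l) (glueT_apply T' l ⟨j, h⟩)
  · rw [show glueT (fun t => T t * T' t) i j = 0 from dif_neg h]
    refine Finset.sum_eq_zero fun l _ => ?_
    by_contra hne
    exact h ((glueT_ne T i l (left_ne_zero_of_mul hne)).trans (glueT_ne T' l j (right_ne_zero_of_mul hne))).symm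

theorem glueT_one : glueT (fun t => (1 : Matrix (Idx p e t) (Idx p e t) F)) = 1 := by
  ext i j
  by_cases h : typ p e j = typ p e i
  · rw [show glueT _ i j = _ from glueT_apply _ (⟨i, rfl⟩ : Idx p e (typ p e i)) ⟨j, h⟩, Matrix.one_apply,
      Matrix.one_apply]
    simp [Subtype.ext_iff]
  · rw [show glueT (fun t => (1 : Matrix (Idx p e t) (Idx p e t) F)) i j = 0 from dif_neg h, Matrix.one_apply_ne fun e' => h (by rw [e'])]

/-- The centraliser changes the Gram matrices of the layers arbitrarily. -/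
theorem exists_change (T : ∀ t, Matrix (Idx p e t) (Idx p e t) F) (hT : ∀ t, (T t).det ≠ 0)
    (hB : g.valᵀ * B * g.val = B) :
    ∃ C : Matrix (Fin n) (Fin n) F, Commute g.val C ∧ C.det ≠ 0 ∧
      ∀ s k, gram D (Cᵀ * B * C) s k = (T (X - Polynomial.C s, k + 1))ᵀ * gram D B s k * T (X - Polynomial.C s, k + 1) := by
  obtain ⟨C, hC, hCg⟩ := exists_lift D (glueT T) (glueT_ne T)
  obtain ⟨C', hC', hCg'⟩ := exists_lift D (glueT fun t => (T t)⁻¹) (glueT_ne _)
  have h1 : C * C' = 1 := by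
    refine eq_of_gen D (hC.mul_right hC') (Commute.one_right _) fun j => ?_
    rw [← mulVec_mulVec, hCg', mulVec_sum, one_mulVec]
    simp only [mulVec_smul, hCg, Finset.smul_sum, smul_smul]
    rw [Finset.sum_comm]
    have hone : glueT T * glueT (fun t => (T t)⁻¹) = 1 := by
      rw [glueT_mul, ← glueT_one]
      congr 1
      funext t
      exact Matrix.mul_nonsing_inv _ (Ne.isUnit (hT t))
    have hsum : ∀ l, ∑ i, (glueT (fun t => (T t)⁻¹) i j * glueT T l i) • D.gen l =
        ((glueT T * glueT fun t => (T t)⁻¹) l j) • D.gen l := fun l => by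
      rw [Matrix.mul_apply, Finset.sum_smul]
      exact Finset.sum_congr rfl fun i _ => by rw [mul_comm]
    simp only [hsum, hone]
    rw [Finset.sum_eq_single j (fun b _ hb => by rw [Matrix.one_apply_ne hb, zero_smul]) (by simp),
      Matrix.one_apply_eq, one_smul]
  refine ⟨C, hC, left_ne_zero_of_mul (by rw [← Matrix.det_mul, h1, Matrix.det_one]; exact one_ne_zero), fun s k => ?_⟩
  rw [gram_congr D hB hC (glueT_ne T) hCg]
  have hsub : (glueT T).submatrix Subtype.val Subtype.val = T (X - Polynomial.C s, k + 1) :=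
    Matrix.ext fun i j => glueT_apply T i j
  rw [hsub]

/-- Symmetric matrices with the same discriminant are congruent. -/
theorem exists_congr_symm [Finite F] (h2 : (2 : F) ≠ 0) {ι : Type} [Fintype ι] [DecidableEq ι] {S T : Matrix ι ι F}
    (hS : Sᵀ = S) (hT : Tᵀ = T) (hS0 : S.det ≠ 0) (hT0 : T.det ≠ 0) (hsq : IsSquare (S.det * T.det)) :
    ∃ P : Matrix ι ι F, P.det ≠ 0 ∧ Pᵀ * S * P = T := by
  cases nonempty_fintype F
  rcases isEmpty_or_nonempty ι with h | ⟨⟨i₀⟩⟩
  · exact ⟨1, by simp, Subsingleton.elim _ _⟩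
  obtain ⟨α, hα⟩ := FiniteField.exists_nonsquare (F := F) (by
    intro hchar
    have := ringChar.charP F
    rw [hchar] at this
    exact h2 (CharTwo.two_eq_zero))
  obtain ⟨P, δ, hδ, eP⟩ := CfsgLib.GraphInv.exists_diag h2 hα hS hS0 i₀
  obtain ⟨R, δ', hδ', eR⟩ := CfsgLib.GraphInv.exists_diag h2 hα hT hT0 i₀
  have hd : ∀ x : F, (Matrix.diagonal (Function.update (1 : ι → F) i₀ x)).det = x := fun x => by
    rw [det_diagonal, Finset.prod_update_of_mem (Finset.mem_univ i₀)]
    simp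
  have hdS := congrArg Matrix.det eP
  have hdT := congrArg Matrix.det eR
  rw [det_mul, det_mul, det_transpose, hd] at hdS hdT
  obtain ⟨r, hr⟩ := hsq
  have hsq' : IsSquare (δ * δ') :=
    ⟨(P : Matrix ι ι F).det * (R : Matrix ι ι F).det * r, by
      rw [← hdS, ← hdT]
      linear_combination ((P : Matrix ι ι F).det ^ 2 * (R : Matrix ι ι F).det ^ 2) * hr⟩
  have hδδ : δ = δ' := by
    rcases hδ with rfl | rfl <;> rcases hδ' with rfl | rfl
    · rfl
    · exact absurd (one_mul δ' ▸ hsq') hα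
    · exact absurd (mul_one δ ▸ hsq') hα
    · rfl
  subst hδδ
  refine ⟨P.val * (R⁻¹).val, by rw [← Units.val_mul]; exact det_ne_zero_of_right_inverse (Units.mul_inv _), ?_⟩
  rw [transpose_mul, show (R⁻¹).valᵀ * P.valᵀ * S * (P.val * (R⁻¹).val) = (R⁻¹).valᵀ * (P.valᵀ * S * P.val) * (R⁻¹).val by
    simp only [mul_assoc], eP, ← eR,
    show (R⁻¹).valᵀ * (R.valᵀ * T * R.val) * (R⁻¹).val = ((R⁻¹).valᵀ * R.valᵀ) * T * (R.val * (R⁻¹).val) by
      simp only [mul_assoc], ← transpose_mul, Units.mul_inv, transpose_one, one_mul, mul_one]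

/-- Alternating matrices are congruent. -/
theorem exists_congr_skew (h2 : (2 : F) ≠ 0) {ι : Type} [Fintype ι] [DecidableEq ι] {S T : Matrix ι ι F}
    (hS : Sᵀ = -S) (hT : Tᵀ = -T) (hS0 : S.det ≠ 0) (hT0 : T.det ≠ 0) :
    ∃ P : Matrix ι ι F, P.det ≠ 0 ∧ Pᵀ * S * P = T := by
  obtain ⟨φ, hφ⟩ := exists_alt_equiv (Matrix.toBilin' S) (Matrix.toBilin' T)
    (CfsgLib.GraphInv.isAltM_of_skew h2 hS).isAlt (CfsgLib.GraphInv.isAltM_of_skew h2 hT).isAlt
    (LinearMap.BilinForm.nondegenerate_toBilin'_of_det_ne_zero' S hS0).1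
    (LinearMap.BilinForm.nondegenerate_toBilin'_of_det_ne_zero' T hT0).1
  refine ⟨LinearMap.toMatrix' φ.toLinearMap, ?_, Matrix.ext fun i j => ?_⟩
  · refine det_ne_zero_of_right_inverse (B := LinearMap.toMatrix' φ.symm.toLinearMap) ?_
    rw [← LinearMap.toMatrix'_comp, LinearEquiv.comp_symm, LinearMap.toMatrix'_id]
  · have := hφ (Pi.single i 1) (Pi.single j 1)
    rw [Matrix.toBilin'_single, Matrix.toBilin'_apply', dotProduct_mulVec] at this
    rw [← this, mul_assoc, Matrix.mul_apply, dotProduct_comm]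
    simp only [dotProduct, transpose_apply, LinearMap.toMatrix'_apply, Matrix.mul_apply, LinearEquiv.coe_coe,
      Matrix.vecMul, Finset.sum_mul, Finset.mul_sum]
    rw [Finset.sum_comm]
    refine Finset.sum_congr rfl fun a _ => Finset.sum_congr rfl fun b _ => ?_
    ring

section equalGrams

variable (hεε : ε * ε = 1) (hB : g.valᵀ * B * g.val = B) (hB' : g.valᵀ * B' * g.val = B')
  (hBε : Bᵀ = ε • B) (hBε' : B'ᵀ = ε • B') (hdet : B.det ≠ 0)

include D hεε hB hB' hBε hdet in
/-- With equal layers, `B⁻¹ B'` is unipotent on the kernel of `g - g⁻¹`. -/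
theorem sub_one_pow_mulVec (h2 : (2 : F) ≠ 0) (heq : ∀ s : F, s * s = 1 → ∀ k, gram D B s k = gram D B' s k)
    {x : Fin n → F} (hx : (g.val - (g⁻¹).val) *ᵥ x = 0) : (B⁻¹ * B' - 1) ^ n *ᵥ x = 0 := by
  set y := B⁻¹ * B'
  have hBy : B * y = B' := by rw [← mul_assoc, Matrix.mul_nonsing_inv _ (Ne.isUnit hdet), one_mul]
  have hgy : Commute g.val y := by
    have e1 : B * g.val = (g⁻¹).valᵀ * B := by
      calc B * g.val = ((g⁻¹).valᵀ * g.valᵀ) * (B * g.val) := by
            rw [← transpose_mul, Units.mul_inv, transpose_one, one_mul]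
        _ = (g⁻¹).valᵀ * B := by rw [mul_assoc, ← mul_assoc g.valᵀ, hB]
    have e2 : B' * g.val = (g⁻¹).valᵀ * B' := by
      calc B' * g.val = ((g⁻¹).valᵀ * g.valᵀ) * (B' * g.val) := by
            rw [← transpose_mul, Units.mul_inv, transpose_one, one_mul]
        _ = (g⁻¹).valᵀ * B' := by rw [mul_assoc, ← mul_assoc g.valᵀ, hB']
    refine ((Matrix.isUnit_iff_isUnit_det B).2 (Ne.isUnit hdet)).mul_left_cancel ?_
    rw [← mul_assoc, e1, mul_assoc, hBy, ← e2, ← mul_assoc B, hBy]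
  have hc : ∀ s k, Commute (lay g s k) (y - 1) := fun s k =>
    (commute_lay hgy s k).sub_right (Commute.one_right _)
  have hstep : ∀ s : F, s * s = 1 → ∀ k x, lay g s (k + 1) *ᵥ x = 0 →
      ∃ x', (y - 1) *ᵥ (lay g s k *ᵥ x) = lay g s (k + 1) *ᵥ x' := by
    intro s hs k x hx
    obtain ⟨a, z, haz⟩ := layer_decomp D hx
    have hx2 : lay g s (k + 1) *ᵥ ((y - 1) *ᵥ D.comb a) = 0 := by
      rw [mulVec_mulVec, (hc s _).eq, ← mulVec_mulVec, lay_comb, mulVec_zero]
    obtain ⟨b, z2, hbz⟩ := layer_decomp D hx2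
    have hb : b = 0 := by
      refine Matrix.eq_zero_of_mulVec_eq_zero (gram_det_ne_zero D hB hdet hs k) (funext fun i => ?_)
      have h1 := congrArg (fun v => D.gen i.1 ⬝ᵥ (B *ᵥ v)) hbz
      simp only [mulVec_add, dotProduct_add] at h1
      have hi : lay g s (k + 1) *ᵥ D.gen i.1 = 0 := by
        have := lay_comb D (Pi.single i 1)
        rwa [Data.comb, Finset.sum_eq_single i (fun b _ hb => by rw [Pi.single_eq_of_ne hb, zero_smul]) (by simp),
          Pi.single_eq_same, one_smul] at this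
      have hl : D.gen i.1 ⬝ᵥ (B *ᵥ (lay g s k *ᵥ ((y - 1) *ᵥ D.comb a))) = 0 := by
        rw [mulVec_mulVec (D.comb a), (hc s k).eq, ← mulVec_mulVec, sub_mulVec, one_mulVec, mulVec_sub,
          dotProduct_sub, mulVec_mulVec _ B, hBy, dot_comb_right, dot_comb_right, heq s hs k, sub_self]
      rw [hl, dot_comb_right, dot_swap hB hBε (D.gen i.1) (lay g s (k + 1) *ᵥ z2),
        dot_range hB hs (k + 1) z2 (D.gen i.1) hi, mul_zero, add_zero] at h1
      exact h1.symm
    refine ⟨z2 + (y - 1) *ᵥ z, ?_⟩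
    rw [haz, mulVec_add, mulVec_add]
    congr 1
    · rw [mulVec_mulVec, ← (hc s k).eq, ← mulVec_mulVec, hbz, hb]
      simp [Data.comb]
    · rw [mulVec_mulVec, mulVec_mulVec, (hc s (k + 1)).eq]
  have hker : ∀ s : F, s * s = 1 → ∀ x, lay g s 1 *ᵥ x = 0 → (y - 1) ^ n *ᵥ x = 0 := by
    intro s hs x hx
    have h : ∀ k, ∃ x', (y - 1) ^ k *ᵥ x = lay g s k *ᵥ x' := by
      intro k
      induction k with
      | zero => exact ⟨x, by simp [lay]⟩
      | succ k ih =>
        obtain ⟨x', hx'⟩ := ih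
        have hk : lay g s (k + 1) *ᵥ x' = 0 := by
          rw [Nat.add_comm, lay_add, ← mulVec_mulVec, ← hx', mulVec_mulVec, ((hc s 1).pow_right k).eq, ← mulVec_mulVec,
            hx, mulVec_zero]
        obtain ⟨x'', hx''⟩ := hstep s hs k x' hk
        exact ⟨x'', by rw [pow_succ', ← mulVec_mulVec, hx', hx'']⟩
    obtain ⟨x', hx'⟩ := h n
    rw [hx']
    refine lay_stable D le_rfl ?_
    rw [Nat.add_comm, lay_add, ← mulVec_mulVec, ← hx', mulVec_mulVec, ((hc s 1).pow_right n).eq, ← mulVec_mulVec,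
      hx, mulVec_zero]
  have hgg : g.val *ᵥ (g.val *ᵥ x) = x := by
    have := congrArg (g.val *ᵥ ·) hx
    simp only [mulVec_mulVec, mulVec_zero] at this
    rw [mul_sub, Units.mul_inv, sub_mulVec, one_mulVec] at this
    rw [mulVec_mulVec]
    exact sub_eq_zero.1 this
  have hl : ∀ s : F, lay g s 1 = g.val - s • 1 := fun s => by simp [lay, Algebra.algebraMap_eq_smul_one]
  have h1 := hker 1 (one_mul 1) (g.val *ᵥ x + x) (by
    rw [hl, one_smul, sub_mulVec, one_mulVec, mulVec_add, hgg]; abel)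
  have h2' := hker (-1) (by norm_num) (g.val *ᵥ x - x) (by
    rw [hl, neg_smul, one_smul, sub_neg_eq_add, add_mulVec, one_mulVec, mulVec_sub, hgg]; abel)
  rw [mulVec_add] at h1
  rw [mulVec_sub] at h2'
  have h3 : (2 : F) • ((y - 1) ^ n *ᵥ x) = 0 := by
    rw [two_smul]
    linear_combination (norm := abel) h1 - h2'
  exact (smul_eq_zero.1 h3).resolve_left h2

/-- A power of an element of a finite monoid is idempotent. -/
theorem exists_pow_idem {M : Type*} [Monoid M] [Finite M] (x : M) : ∃ k, 0 < k ∧ x ^ k * x ^ k = x ^ k := by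
  obtain ⟨i, j, hij, he⟩ : ∃ i j, i < j ∧ x ^ i = x ^ j := by
    obtain ⟨i, j, hne, e⟩ := Finite.exists_ne_map_eq_of_infinite fun i : ℕ => x ^ i
    rcases Nat.lt_or_gt_of_ne hne with h' | h'
    · exact ⟨i, j, h', e⟩
    · exact ⟨j, i, h', e.symm⟩
  obtain ⟨d, rfl⟩ := Nat.exists_eq_add_of_le hij.le
  have hd : 0 < d := by omega
  have hper : ∀ m a, i ≤ a → x ^ (a + d * m) = x ^ a := by
    intro m
    induction m with
    | zero => simp
    | succ m ih =>
      intro a ha
      obtain ⟨b, rfl⟩ := Nat.exists_eq_add_of_le ha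
      rw [show i + b + d * (m + 1) = i + d + (b + d * m) by ring, pow_add, ← he, ← pow_add, ← add_assoc]
      exact ih _ (Nat.le_add_right _ _)
  refine ⟨d * (i + 1), Nat.mul_pos hd (Nat.succ_pos _), ?_⟩
  rw [← pow_add]
  exact hper (i + 1) _ (le_trans (Nat.le_succ _) (Nat.le_mul_of_pos_left _ hd))

include D hεε hB hB' hBε hBε' hdet in
set_option maxHeartbeats 1000000 in
/-- With equal layers the forms are congruent under the centraliser. -/
theorem exists_congr_of_grams_eq [Finite F] (h2 : (2 : F) ≠ 0) (hdet' : B'.det ≠ 0)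
    (heq : ∀ s : F, s * s = 1 → ∀ k, gram D B s k = gram D B' s k) :
    ∃ C : Matrix (Fin n) (Fin n) F, Commute g.val C ∧ Cᵀ * B * C = B' := by
  set y := B⁻¹ * B' with hy
  have hG : B * B⁻¹ = 1 := Matrix.mul_nonsing_inv _ (Ne.isUnit hdet)
  have hGi : B⁻¹ * B = 1 := Matrix.nonsing_inv_mul _ (Ne.isUnit hdet)
  have hBy : B * y = B' := by rw [hy, ← mul_assoc, hG, one_mul]
  have hJy : adjG B B⁻¹ y = y := by
    have h1 : yᵀ * B = B' := by
      have : (Bᵀ * y)ᵀ = (ε • B')ᵀ := by rw [hBε, smul_mul_assoc, hBy]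
      rw [transpose_mul, transpose_transpose, transpose_smul, hBε', smul_smul, hεε, one_smul] at this
      exact this
    rw [adjG, mul_assoc, h1]
  have hJg : adjG B B⁻¹ g.val = (g⁻¹).val := by
    have h1 := transpose_aeval_mul hB X
    rw [aeval_X, aeval_X] at h1
    rw [adjG, mul_assoc, h1, ← mul_assoc, hGi, one_mul]
  have hgy : Commute g.val y := by
    have e1 : B * g.val = (g⁻¹).valᵀ * B := by
      calc B * g.val = ((g⁻¹).valᵀ * g.valᵀ) * (B * g.val) := by
            rw [← transpose_mul, Units.mul_inv, transpose_one, one_mul]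
        _ = (g⁻¹).valᵀ * B := by rw [mul_assoc, ← mul_assoc g.valᵀ, hB]
    have e2 : B' * g.val = (g⁻¹).valᵀ * B' := by
      calc B' * g.val = ((g⁻¹).valᵀ * g.valᵀ) * (B' * g.val) := by
            rw [← transpose_mul, Units.mul_inv, transpose_one, one_mul]
        _ = (g⁻¹).valᵀ * B' := by rw [mul_assoc, ← mul_assoc g.valᵀ, hB']
    refine ((Matrix.isUnit_iff_isUnit_det B).2 (Ne.isUnit hdet)).mul_left_cancel ?_
    rw [← mul_assoc, e1, mul_assoc, hBy, ← e2, ← mul_assoc B, hBy]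
  set s : Set (Matrix (Fin n) (Fin n) F) := {g.val, y} with hs
  have hcomm : ∀ a ∈ s, ∀ b ∈ s, a * b = b * a := by
    rintro a (rfl | rfl) b (rfl | rfl)
    · rfl
    · exact hgy.eq
    · exact hgy.eq.symm
    · rfl
  set R := Algebra.adjoin F s
  letI : CommRing R := Algebra.adjoinCommRingOfComm F hcomm
  haveI : Finite (Matrix (Fin n) (Fin n) F) := inferInstanceAs (Finite (Fin n → Fin n → F))
  have hgR : g.val ∈ R := Algebra.subset_adjoin (Or.inl rfl)
  have hyR : y ∈ R := Algebra.subset_adjoin (Or.inr rfl)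
  have hinvR : ∀ u : GL (Fin n) F, u.val ∈ R → (u⁻¹).val ∈ R := fun u hu => by
    have h : u⁻¹ = u ^ (orderOf u - 1) := by
      rw [inv_eq_iff_mul_eq_one, ← pow_succ', Nat.sub_add_cancel (orderOf_pos u), pow_orderOf_eq_one]
    rw [h, Units.val_pow_eq_pow_val]
    exact pow_mem hu _
  have hJR : ∀ M ∈ R, adjG B B⁻¹ M ∈ R := by
    intro M hM
    induction hM using Algebra.adjoin_induction with
    | mem x hx =>
      rcases hx with rfl | rfl
      · rw [hJg]; exact hinvR g hgR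
      · rw [hJy]; exact hyR
    | algebraMap c =>
      rw [Algebra.algebraMap_eq_smul_one, adjG_smul, adjG_one hG]
      exact R.smul_mem (one_mem R) _
    | add x y _ _ hx hy => rw [adjG_add]; exact add_mem hx hy
    | mul x y _ _ hx hy => rw [adjG_mul hG]; exact mul_mem hy hx
  let τ : R ≃+* R :=
    { toFun := fun a => ⟨adjG B B⁻¹ a.1, hJR _ a.2⟩
      invFun := fun a => ⟨adjG B B⁻¹ a.1, hJR _ a.2⟩
      left_inv := fun a => Subtype.ext (adjG_adjG hG hBε hεε _)
      right_inv := fun a => Subtype.ext (adjG_adjG hG hBε hεε _)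
      map_mul' := fun a b => Subtype.ext ((adjG_mul hG a.1 b.1).trans
        (congrArg Subtype.val (mul_comm (⟨_, hJR _ b.2⟩ : R) ⟨_, hJR _ a.2⟩)))
      map_add' := fun a b => Subtype.ext (adjG_add a.1 b.1) }
  have hτ : ∀ x, τ (τ x) = x := fun x => Subtype.ext (adjG_adjG hG hBε hεε _)
  set a : R := ⟨g.val, hgR⟩ with ha
  set ai : R := ⟨(g⁻¹).val, hinvR g hgR⟩ with hai
  set w : R := ⟨y, hyR⟩ with hw
  have hτw : τ w = w := Subtype.ext hJy
  have hτa : τ a = ai := Subtype.ext hJg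
  have hτai : τ ai = a := by rw [← hτa, hτ]
  set m : R := a - ai with hm
  obtain ⟨k, hk, hidem⟩ := exists_pow_idem (m * m)
  set e : R := (m * m) ^ k with he
  have hee : e * e = e := hidem
  have hτm : τ (m * m) = m * m := by rw [map_mul, hm, map_sub, hτa, hτai]; ring
  have hτe : τ e = e := by rw [he, map_pow, hτm]
  -- nilpotent part
  have hkill : ∀ (j : ℕ) (x : Fin n → F), (m ^ j : R).1 *ᵥ x = 0 → (y - 1) ^ (n * j) *ᵥ x = 0 := by
    intro j
    induction j with
    | zero =>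
      intro x hx
      have : x = 0 := by simpa using hx
      simp [this]
    | succ j ih =>
      intro x hx
      have h1 : (m ^ j : R).1 *ᵥ ((g.val - (g⁻¹).val) *ᵥ x) = 0 := by
        rw [mulVec_mulVec]; rw [pow_succ] at hx; exact hx
      have h3 := ih _ h1
      have hcm : Commute ((y - 1) ^ (n * j)) (g.val - (g⁻¹).val) := by
        have : Commute y (g.val - (g⁻¹).val) := hgy.symm.sub_right
          (congrArg Subtype.val (mul_comm w ai) : Commute y (g⁻¹).val)
        exact (this.sub_left (Commute.one_left _)).pow_left _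
      rw [mulVec_mulVec, hcm.eq, ← mulVec_mulVec] at h3
      have h4 := sub_one_pow_mulVec D hεε hB hB' hBε hdet h2 heq h3
      rwa [mulVec_mulVec, ← pow_add, show n + n * j = n * (j + 1) by ring] at h4
  set η : R := (1 - e) * (w - 1) with hη
  have hff : (1 - e) * (1 - e) = 1 - e := by linear_combination hee
  have hfpow : ∀ j, (1 - e) ^ (j + 1) = 1 - e := by
    intro j
    induction j with
    | zero => rw [pow_one]
    | succ j ih => rw [pow_succ, ih, hff]
  have hηnil : η ^ (n * (2 * k) + 1) = 0 := by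
    have hmk : (m ^ (2 * k) : R) * (1 - e) = 0 := by
      rw [pow_mul, pow_two, ← he]; linear_combination -hee
    rw [hη, mul_pow, hfpow]
    refine Subtype.ext (Matrix.ext_of_mulVec_single fun b => ?_)
    show ((1 - e : R).1 * (y - 1) ^ (n * (2 * k) + 1)) *ᵥ Pi.single b 1 = (0 : Matrix (Fin n) (Fin n) F) *ᵥ Pi.single b 1
    rw [zero_mulVec, show (1 - e : R).1 * (y - 1) ^ (n * (2 * k) + 1) = (y - 1) ^ (n * (2 * k) + 1) * (1 - e : R).1 from
      congrArg Subtype.val (mul_comm (1 - e) ((w - 1) ^ (n * (2 * k) + 1))), pow_succ', ← mulVec_mulVec, ← mulVec_mulVec,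
      hkill (2 * k), mulVec_zero]
    rw [mulVec_mulVec, show (m ^ (2 * k) : R).1 * (1 - e : R).1 = 0 from congrArg Subtype.val hmk, zero_mulVec]
  have hτη : τ η = η := by rw [hη, map_mul, map_sub, map_sub, map_one, hτe, hτw]
  obtain ⟨half, hhalf⟩ : ∃ half : R, half + τ half = 1 := by
    refine ⟨algebraMap F R (2 : F)⁻¹, Subtype.ext ?_⟩
    show algebraMap F (Matrix (Fin n) (Fin n) F) (2 : F)⁻¹ + adjG B B⁻¹ (algebraMap F (Matrix (Fin n) (Fin n) F) (2 : F)⁻¹) = 1
    rw [Algebra.algebraMap_eq_smul_one, adjG_smul, adjG_one hG, ← add_smul, ← two_mul, mul_inv_cancel₀ h2, one_smul]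
  obtain ⟨u, hu⟩ := CfsgLib.InvolRing.exists_norm_one_add τ hτ hhalf (n * (2 * k) + 1) η hτη
    (pow_eq_zero_of_le Nat.lt_two_pow_self.le hηnil)
  -- the part where `g - g⁻¹` is invertible
  set I : Ideal R := Ideal.span {1 - e}
  have hI : I = Ideal.map (τ : R →+* R) I := by
    rw [Ideal.map_span, Set.image_singleton]
    exact congrArg (fun x => Ideal.span {x}) (by rw [RingHom.coe_coe, map_sub, map_one, hτe])
  let σ : R ⧸ I ≃+* R ⧸ I := Ideal.quotientEquiv I I τ hI
  have hσ : ∀ x, σ (Ideal.Quotient.mk I x) = Ideal.Quotient.mk I (τ x) := fun x =>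
    Ideal.quotientEquiv_mk _ _ _ _ _
  haveI : Finite (R ⧸ I) := Finite.of_surjective _ Ideal.Quotient.mk_surjective
  have hback : ∀ {x z : R}, Ideal.Quotient.mk I x = Ideal.Quotient.mk I z → x * e = z * e := by
    intro x z h
    obtain ⟨r, hr⟩ := Ideal.mem_span_singleton'.1 (Ideal.Quotient.eq.1 h)
    linear_combination e * hr.symm - r * hee
  have hd : IsUnit (Ideal.Quotient.mk I a - σ (Ideal.Quotient.mk I a)) := by
    refine IsUnit.of_mul_eq_one (Ideal.Quotient.mk I (m * (m * m) ^ (k - 1))) ?_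
    rw [hσ, ← map_sub, ← map_mul, hτa, ← hm, ← map_one (Ideal.Quotient.mk I), Ideal.Quotient.eq]
    refine Ideal.mem_span_singleton'.2 ⟨-1, ?_⟩
    rw [he, ← mul_assoc m m, ← pow_succ', Nat.sub_add_cancel hk]
    ring
  obtain ⟨v, hv⟩ : ∃ v : R, w * v = 1 := by
    obtain ⟨Y, hY⟩ : IsUnit y := (Matrix.isUnit_iff_isUnit_det y).2 (by
      rw [hy, det_mul]; exact (Matrix.isUnit_nonsing_inv_det _ (Ne.isUnit hdet)).mul (Ne.isUnit hdet'))
    exact ⟨⟨(Y⁻¹).val, hinvR Y (hY ▸ hyR)⟩, Subtype.ext (by show y * (Y⁻¹).val = 1; rw [← hY, Units.mul_inv])⟩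
  obtain ⟨z, hz⟩ := CfsgLib.InvolRing.exists_norm σ (fun x => by
      obtain ⟨x, rfl⟩ := Ideal.Quotient.mk_surjective x
      rw [hσ, hσ, hτ]) hd (h := Ideal.Quotient.mk I w) (by rw [hσ, hτw])
    ((IsUnit.of_mul_eq_one v hv).map _)
  obtain ⟨z, rfl⟩ := Ideal.Quotient.mk_surjective z
  rw [hσ, ← map_mul] at hz
  have hze := hback hz
  set c : R := (e * z + (1 - e)) * u with hc
  have hcc : τ c * c = w := by
    rw [hc, map_mul, map_add, map_mul, map_sub, map_one, hτe]
    calc (e * τ z + (1 - e)) * τ u * ((e * z + (1 - e)) * u)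
        = ((e * τ z + (1 - e)) * (e * z + (1 - e))) * (u * τ u) := by ring
      _ = (e * w + (1 - e)) * (1 + η) := by
          rw [hu]; congr 1
          linear_combination hze + (τ z * z - τ z - z + 1) * hee
      _ = w := by rw [hη]; linear_combination -(w - 1) ^ 2 * hee
  refine ⟨c.1, congrArg Subtype.val (mul_comm a c), ?_⟩
  have h5 : adjG B B⁻¹ c.1 * c.1 = y := congrArg Subtype.val hcc
  rw [← hBy, ← h5, adjG, ← mul_assoc, ← mul_assoc, ← mul_assoc, hG, one_mul]

end equalGrams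

include D in
/-- Forms with the same discriminants on the even layers are congruent under the centraliser. -/
theorem exists_congr_forms [Finite F] (h2 : (2 : F) ≠ 0) (hB : g.valᵀ * B * g.val = B) (hB' : g.valᵀ * B' * g.val = B')
    (hskew : Bᵀ = -B) (hskew' : B'ᵀ = -B') (hdet : B.det ≠ 0) (hdet' : B'.det ≠ 0)
    (hinv : ∀ s : F, s * s = 1 → ∀ k, Odd k → IsSquare ((gram D B s k).det * (gram D B' s k).det)) :
    ∃ C : Matrix (Fin n) (Fin n) F, Commute g.val C ∧ Cᵀ * B * C = B' := by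
  have hεε : (-1 : F) * -1 = 1 := by norm_num
  have hε : Bᵀ = (-1 : F) • B := by rw [neg_smul, one_smul, hskew]
  have hε' : B'ᵀ = (-1 : F) • B' := by rw [neg_smul, one_smul, hskew']
  let Γ : Matrix (Fin n) (Fin n) F → ∀ t : F[X] × ℕ, Matrix (Idx p e t) (Idx p e t) F := fun M t =>
    Matrix.of fun i j => D.gen i.1 ⬝ᵥ (M *ᵥ (lay g (-(t.1.coeff 0)) (t.2 - 1) *ᵥ D.gen j.1))
  have hΓ : ∀ M s k, Γ M (X - Polynomial.C s, k + 1) = gram D M s k := fun M s k => by
    ext i j; simp [Γ, gram]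
  have hT : ∀ t, ∃ T : Matrix (Idx p e t) (Idx p e t) F, T.det ≠ 0 ∧
      ∀ s : F, s * s = 1 → ∀ k, t = (X - Polynomial.C s, k + 1) → Tᵀ * Γ B t * T = Γ B' t := by
    intro t
    by_cases h : ∃ s : F, s * s = 1 ∧ ∃ k, t = (X - Polynomial.C s, k + 1)
    · obtain ⟨s, hs, k, rfl⟩ := h
      obtain ⟨T, hT, hTT⟩ : ∃ T, T.det ≠ 0 ∧ Tᵀ * gram D B s k * T = gram D B' s k := by
        rcases Nat.even_or_odd k with hk | hk
        · refine exists_congr_skew h2 ?_ ?_ (gram_det_ne_zero D hB hdet hs k) (gram_det_ne_zero D hB' hdet' hs k) <;>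
            [rw [gram_transpose D hB hε hεε hs]; rw [gram_transpose D hB' hε' hεε hs]] <;> simp [hk.neg_one_pow]
        · refine exists_congr_symm h2 ?_ ?_ (gram_det_ne_zero D hB hdet hs k) (gram_det_ne_zero D hB' hdet' hs k)
            (hinv s hs k hk) <;>
            [rw [gram_transpose D hB hε hεε hs]; rw [gram_transpose D hB' hε' hεε hs]] <;> simp [hk.neg_one_pow]
      exact ⟨T, hT, fun _ _ _ _ => by rw [hΓ, hΓ]; exact hTT⟩
    · exact ⟨1, by simp, fun s hs k hk => absurd ⟨s, hs, k, hk⟩ h⟩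
  choose T hT hTT using hT
  obtain ⟨C, hC, hCdet, hCgram⟩ := exists_change D T hT hB
  have hB2 : g.valᵀ * (Cᵀ * B * C) * g.val = Cᵀ * B * C := by
    calc g.valᵀ * (Cᵀ * B * C) * g.val = (C * g.val)ᵀ * B * (C * g.val) := by simp only [transpose_mul, mul_assoc]
      _ = (g.val * C)ᵀ * B * (g.val * C) := by rw [hC.eq]
      _ = Cᵀ * (g.valᵀ * B * g.val) * C := by simp only [transpose_mul, mul_assoc]
      _ = _ := by rw [hB]
  have hε2 : (Cᵀ * B * C)ᵀ = (-1 : F) • (Cᵀ * B * C) := by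
    rw [transpose_mul, transpose_mul, transpose_transpose, hε, smul_mul_assoc, mul_smul_comm, mul_assoc]
  obtain ⟨C', hC', hCC'⟩ := exists_congr_of_grams_eq D hεε hB2 hB' hε2 hε'
    (by rw [det_mul, det_mul, det_transpose]; exact mul_ne_zero (mul_ne_zero hCdet hdet) hCdet) h2 hdet'
    fun s hs k => by rw [hCgram, ← hΓ B, hTT _ s hs k rfl, hΓ]
  refine ⟨C * C', hC.mul_right hC', ?_⟩
  rw [← hCC']
  simp only [transpose_mul, mul_assoc]

end CfsgLib.GLClass.Layers
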