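import Mathlib

/-!
The number of nilpotent matrices of size `n` over a field with `q` elements is `q ^ (n (n - 1))`.
-/

set_option autoImplicit false

namespace CfsgLib.GLClass

open Matrix

variable (F : Type*) [Field F]

/-- The number of nilpotent matrices. -/
noncomputable def nilCount (ι : Type*) [Fintype ι] [DecidableEq ι] : ℕ :=
  Nat.card {N : Matrix ι ι F // IsNilpotent N}

theorem nilCount_congr {ι κ : Type*} [Fintype ι] [DecidableEq ι] [Fintype κ] [DecidableEq κ] (σ : ι ≃ κ) :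
    nilCount F ι = nilCount F κ :=
  Nat.card_congr ((Matrix.reindexAlgEquiv F F σ).toEquiv.subtypeEquiv fun N =>
    ⟨fun h => h.map (Matrix.reindexAlgEquiv F F σ), fun h => by
      have := h.map (Matrix.reindexAlgEquiv F F σ).symm
      simpa using this⟩)

variable {F}

/-- The nilpotent Jordan block. -/
def shiftMat (k : ℕ) : Matrix (Fin k) (Fin k) F := Matrix.of fun a c => if (a : ℕ) = (c : ℕ) + 1 then 1 else 0

theorem shiftMat_pow (k : ℕ) : ∀ (j : ℕ) (a c : Fin k), (a : ℕ) ≠ (c : ℕ) + j → ((shiftMat k : Matrix (Fin k) (Fin k) F) ^ j) a c = 0 := by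
  intro j
  induction j with
  | zero =>
    intro a c h
    rw [pow_zero, Matrix.one_apply_ne]
    exact fun e => h (by rw [e, Nat.add_zero])
  | succ j ih =>
    intro a c h
    rw [pow_succ, Matrix.mul_apply]
    refine Finset.sum_eq_zero fun b _ => ?_
    by_cases hb : (b : ℕ) = (c : ℕ) + 1
    · rw [ih a b (by omega), zero_mul]
    · simp [shiftMat, hb]

theorem isNilpotent_shiftMat (k : ℕ) : IsNilpotent (shiftMat k : Matrix (Fin k) (Fin k) F) :=
  ⟨k, Matrix.ext fun a c => shiftMat_pow k k a c (by have := a.2; omega)⟩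

theorem fromBlocks_pow {α β : Type*} [Fintype α] [DecidableEq α] [Fintype β] [DecidableEq β]
    (A : Matrix α α F) (B : Matrix α β F) (D : Matrix β β F) (j : ℕ) :
    ∃ Y, (Matrix.fromBlocks A B 0 D) ^ j = Matrix.fromBlocks (A ^ j) Y 0 (D ^ j) := by
  induction j with
  | zero => exact ⟨0, by rw [pow_zero, pow_zero, pow_zero, Matrix.fromBlocks_one]⟩
  | succ j ih =>
    obtain ⟨Y, hY⟩ := ih
    exact ⟨A ^ j * B + Y * D, by rw [pow_succ, hY, Matrix.fromBlocks_multiply]; simp [pow_succ]⟩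

theorem isNilpotent_fromBlocks {α β : Type*} [Fintype α] [DecidableEq α] [Fintype β] [DecidableEq β]
    {A : Matrix α α F} (hA : IsNilpotent A) (B : Matrix α β F) (D : Matrix β β F) :
    IsNilpotent (Matrix.fromBlocks A B 0 D) ↔ IsNilpotent D := by
  constructor
  · rintro ⟨j, hj⟩
    obtain ⟨Y, hY⟩ := fromBlocks_pow A B D j
    rw [hj, ← Matrix.fromBlocks_zero, Matrix.fromBlocks_inj] at hY
    exact ⟨j, hY.2.2.2.symm⟩
  · rintro ⟨b, hb⟩
    obtain ⟨a, ha⟩ := hA
    obtain ⟨Y, hY⟩ := fromBlocks_pow A B D (a + b)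
    refine ⟨(a + b) * 2, ?_⟩
    rw [pow_mul, hY, pow_add A, ha, zero_mul, pow_add D, hb, mul_zero, pow_two, Matrix.fromBlocks_multiply]
    simp

/-- A matrix acts as a shift on a tuple. -/
def ShiftOn {ι : Type*} [Fintype ι] {k : ℕ} (N : Matrix ι ι F) (b : Fin k → ι → F) : Prop :=
  ∀ i : Fin k, N *ᵥ b i = if h : (i : ℕ) + 1 < k then b ⟨(i : ℕ) + 1, h⟩ else 0

theorem std_shiftOn_iff {k m : ℕ} (N : Matrix (Fin k ⊕ Fin m) (Fin k ⊕ Fin m) F) :
    ShiftOn N (fun i => Pi.single (Sum.inl i) 1) ↔ N.toBlocks₁₁ = shiftMat k ∧ N.toBlocks₂₁ = 0 := by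
  have hcol : ∀ i : Fin k, N *ᵥ Pi.single (Sum.inl i) (1 : F) = fun a => N a (Sum.inl i) := fun i => by
    ext a; simp
  have hrhs : ∀ (i : Fin k) (a : Fin k ⊕ Fin m),
      (if h : (i : ℕ) + 1 < k then (Pi.single (Sum.inl (⟨(i : ℕ) + 1, h⟩ : Fin k)) 1 : Fin k ⊕ Fin m → F) else 0) a =
        Sum.elim (fun a' : Fin k => shiftMat k a' i) (fun _ => 0) a := by
    intro i a
    split_ifs with h
    · rcases a with a | a
      · simp [shiftMat, Pi.single_apply, Fin.ext_iff]
      · simp
    · rcases a with a | a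
      · have : ¬ (a : ℕ) = (i : ℕ) + 1 := fun e => h (e ▸ a.2)
        simp [shiftMat, this]
      · simp
  constructor
  · intro h
    refine ⟨Matrix.ext fun a i => ?_, Matrix.ext fun a i => ?_⟩
    · have h1 := congrFun ((hcol i).symm.trans (h i)) (Sum.inl a)
      rw [hrhs] at h1
      exact h1
    · have h1 := congrFun ((hcol i).symm.trans (h i)) (Sum.inr a)
      rw [hrhs] at h1
      exact h1
  · rintro ⟨h1, h2⟩ i
    rw [hcol]
    ext a
    rw [hrhs]
    rcases a with a | a
    · exact congrFun (congrFun h1 a) i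
    · exact congrFun (congrFun h2 a) i

variable [Finite F]

theorem card_std (k m : ℕ) :
    Nat.card {N : Matrix (Fin k ⊕ Fin m) (Fin k ⊕ Fin m) F //
      IsNilpotent N ∧ ShiftOn N (fun i => Pi.single (Sum.inl i) 1)} = Nat.card F ^ (k * m) * nilCount F (Fin m) := by
  let e : {N : Matrix (Fin k ⊕ Fin m) (Fin k ⊕ Fin m) F //
      IsNilpotent N ∧ ShiftOn N (fun i => Pi.single (Sum.inl i) 1)} ≃
      Matrix (Fin k) (Fin m) F × {M : Matrix (Fin m) (Fin m) F // IsNilpotent M} :=
    { toFun := fun N => (N.1.toBlocks₁₂, ⟨N.1.toBlocks₂₂, by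
        obtain ⟨h1, h2⟩ := (std_shiftOn_iff N.1).1 N.2.2
        have h3 := N.2.1
        rw [← Matrix.fromBlocks_toBlocks N.1, h1, h2] at h3
        exact (isNilpotent_fromBlocks (isNilpotent_shiftMat k) _ _).1 h3⟩)
      invFun := fun x => ⟨Matrix.fromBlocks (shiftMat k) x.1 0 x.2.1,
        (isNilpotent_fromBlocks (isNilpotent_shiftMat k) _ _).2 x.2.2,
        (std_shiftOn_iff _).2 ⟨Matrix.toBlocks_fromBlocks₁₁ _ _ _ _, Matrix.toBlocks_fromBlocks₂₁ _ _ _ _⟩⟩
      left_inv := fun N => by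
        obtain ⟨h1, h2⟩ := (std_shiftOn_iff N.1).1 N.2.2
        apply Subtype.ext
        conv_rhs => rw [← Matrix.fromBlocks_toBlocks N.1, h1, h2]
      right_inv := fun x => by simp }
  rw [Nat.card_congr e, Nat.card_prod]
  congr 1
  show Nat.card (Fin k → Fin m → F) = _
  rw [Nat.card_fun, Nat.card_fun, Nat.card_fin, Nat.card_fin, ← pow_mul, mul_comm]

theorem card_fibre {ι : Type*} [Fintype ι] [DecidableEq ι] {k : ℕ} {b : Fin k → ι → F} (hb : LinearIndependent F b) :
    Nat.card {N : Matrix ι ι F // IsNilpotent N ∧ ShiftOn N b} =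
      Nat.card F ^ (k * (Fintype.card ι - k)) * nilCount F (Fin (Fintype.card ι - k)) := by
  classical
  let B := Module.Basis.sumExtend hb
  haveI : Fintype (Module.Basis.sumExtendIndex hb) := Fintype.ofFinite _
  have hc : Fintype.card (Module.Basis.sumExtendIndex hb) = Fintype.card ι - k := by
    have h1 := Module.finrank_eq_card_basis B
    rw [Module.finrank_fintype_fun_eq_card, Fintype.card_sum, Fintype.card_fin] at h1
    omega
  let σ : Fin k ⊕ Module.Basis.sumExtendIndex hb ≃ Fin k ⊕ Fin (Fintype.card ι - k) :=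
    Equiv.sumCongr (Equiv.refl _) (Fintype.equivFinOfCardEq hc)
  let L : (Fin k ⊕ Fin (Fintype.card ι - k) → F) ≃ₗ[F] (ι → F) :=
    (Pi.basisFun F _).equiv (B.reindex σ) (Equiv.refl _)
  have hL : ∀ i : Fin k, L (Pi.single (Sum.inl i) 1) = b i := by
    intro i
    rw [← Pi.basisFun_apply F, Module.Basis.equiv_apply, Module.Basis.reindex_apply]
    show B (Sum.inl i) = b i
    simp [B, Module.Basis.sumExtend, Equiv.Set.sumDiffSubset]
    rfl
  let C : Matrix ι ι F ≃ₐ[F] Matrix (Fin k ⊕ Fin (Fintype.card ι - k)) (Fin k ⊕ Fin (Fintype.card ι - k)) F :=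
    (Matrix.toLinAlgEquiv'.trans (L.symm.conjAlgEquiv F)).trans Matrix.toLinAlgEquiv'.symm
  have hC : ∀ (N : Matrix ι ι F) v, C N *ᵥ v = L.symm (N *ᵥ L v) := by
    intro N v
    rw [← Matrix.toLinAlgEquiv'_apply]
    simp [C]
  rw [← card_std]
  refine Nat.card_congr (C.toEquiv.subtypeEquiv fun N => and_congr
    ⟨fun h => h.map C, fun h => by simpa using h.map C.symm⟩ (forall_congr' fun i => ?_))
  show _ ↔ C N *ᵥ _ = _
  rw [hC, hL, LinearEquiv.symm_apply_eq]
  split_ifs with h
  · rw [hL]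
  · rw [map_zero]

variable {n : ℕ}

theorem exists_pow_zero (x : {N : Matrix (Fin n) (Fin n) F // IsNilpotent N} × (Fin n → F)) :
    ∃ j, (x.1.1 ^ j) *ᵥ x.2 = 0 := by
  obtain ⟨j, hj⟩ := x.1.2
  exact ⟨j, by rw [hj, Matrix.zero_mulVec]⟩

open scoped Classical in
/-- The dimension of the cyclic subspace. -/
noncomputable def cycDeg (x : {N : Matrix (Fin n) (Fin n) F // IsNilpotent N} × (Fin n → F)) : ℕ :=
  Nat.find (exists_pow_zero x)

theorem cyc_linearIndependent (x : {N : Matrix (Fin n) (Fin n) F // IsNilpotent N} × (Fin n → F)) :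
    LinearIndependent F (fun i : Fin (cycDeg x) => (x.1.1 ^ (i : ℕ)) *ᵥ x.2) := by
  classical
  rw [Fintype.linearIndependent_iff]
  intro g hg
  by_contra hne
  push Not at hne
  obtain ⟨i0, hi0⟩ := hne
  obtain ⟨i, hi, hmin⟩ := (Finset.univ.filter fun i => g i ≠ 0).exists_min_image id
    ⟨i0, by simp [hi0]⟩
  rw [Finset.mem_filter] at hi
  have hz : (x.1.1 ^ cycDeg x) *ᵥ x.2 = 0 := Nat.find_spec (exists_pow_zero x)
  have h1 := congrArg (fun w => (x.1.1 ^ (cycDeg x - 1 - (i : ℕ))) *ᵥ w) hg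
  simp only [Matrix.mulVec_sum, Matrix.mulVec_smul, Matrix.mulVec_mulVec, ← pow_add, Matrix.mulVec_zero] at h1
  rw [Finset.sum_eq_single i] at h1
  · rw [show cycDeg x - 1 - (i : ℕ) + (i : ℕ) = cycDeg x - 1 by have := i.2; omega, smul_eq_zero] at h1
    refine h1.elim hi.2 fun h2 => ?_
    exact Nat.find_min (exists_pow_zero x) (by have := i.2; show _ < cycDeg x; omega) h2
  · intro j _ hji
    by_cases hgj : g j = 0
    · rw [hgj, zero_smul]
    · have h3 : i ≤ j := hmin j (by simp [hgj])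
      have h4 : (i : ℕ) < j := by
        rcases lt_or_eq_of_le h3 with h | h
        · exact h
        · exact absurd h.symm hji
      rw [show cycDeg x - 1 - (i : ℕ) + (j : ℕ) = ((j : ℕ) - i - 1) + cycDeg x by have := i.2; omega,
        pow_add, ← Matrix.mulVec_mulVec, hz, Matrix.mulVec_zero, smul_zero]
  · simp

theorem cycDeg_le (x : {N : Matrix (Fin n) (Fin n) F // IsNilpotent N} × (Fin n → F)) : cycDeg x ≤ n := by
  have h := (cyc_linearIndependent x).fintype_card_le_finrank
  simpa using h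

theorem iterate_shiftOn {k : ℕ} {N : Matrix (Fin n) (Fin n) F} {b : Fin (k + 1) → Fin n → F} (h : ShiftOn N b) :
    ∀ (j : ℕ) (hj : j < k + 1), (N ^ j) *ᵥ b 0 = b ⟨j, hj⟩ := by
  intro j
  induction j with
  | zero => intro hj; rw [pow_zero, Matrix.one_mulVec]; rfl
  | succ j ih =>
    intro hj
    rw [pow_succ', ← Matrix.mulVec_mulVec, ih (by omega), h ⟨j, _⟩, dif_pos hj]

theorem card_deg_succ (k : ℕ) :
    Nat.card {x : {N : Matrix (Fin n) (Fin n) F // IsNilpotent N} × (Fin n → F) // cycDeg x = k + 1} =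
      Nat.card {b : Fin (k + 1) → Fin n → F // LinearIndependent F b} *
        (Nat.card F ^ ((k + 1) * (n - (k + 1))) * nilCount F (Fin (n - (k + 1)))) := by
  classical
  let f : {x : {N : Matrix (Fin n) (Fin n) F // IsNilpotent N} × (Fin n → F) // cycDeg x = k + 1} →
      (b : {b : Fin (k + 1) → Fin n → F // LinearIndependent F b}) ×
        {N : Matrix (Fin n) (Fin n) F // IsNilpotent N ∧ ShiftOn N b.1} := fun x =>
    ⟨⟨fun i => (x.1.1.1 ^ (i : ℕ)) *ᵥ x.1.2,
      (cyc_linearIndependent x.1).comp (Fin.cast x.2.symm) (Fin.cast_injective x.2.symm)⟩,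
      ⟨x.1.1.1, x.1.1.2, fun i => by
        rw [Matrix.mulVec_mulVec, ← pow_succ']
        split_ifs with h
        · rfl
        · have h1 : (x.1.1.1 ^ cycDeg x.1) *ᵥ x.1.2 = 0 := Nat.find_spec (exists_pow_zero x.1)
          rwa [x.2.trans (show k + 1 = (i : ℕ) + 1 by have := i.2; omega)] at h1⟩⟩
  have hf : Function.Bijective f := by
    refine ⟨fun x y hxy => ?_, fun z => ?_⟩
    · apply Subtype.ext
      have hN := congrArg (fun z => z.2.1) hxy
      have hb := congrFun (congrArg (fun z => z.1.1) hxy) 0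
      simp only [f, Fin.val_zero, pow_zero, Matrix.one_mulVec] at hN hb
      exact Prod.ext (Subtype.ext hN) hb
    · obtain ⟨⟨b, hb⟩, N, hN, hS⟩ := z
      have hit := iterate_shiftOn hS
      have hlast : (N ^ (k + 1)) *ᵥ b 0 = 0 := by
        rw [pow_succ', ← Matrix.mulVec_mulVec, hit k (Nat.lt_succ_self k), hS ⟨k, _⟩, dif_neg (lt_irrefl _)]
      have hdeg : cycDeg ((⟨N, hN⟩, b 0) : {N : Matrix (Fin n) (Fin n) F // IsNilpotent N} × (Fin n → F)) = k + 1 := by
        refine (Nat.find_eq_iff _).2 ⟨hlast, fun j hj hz => hb.ne_zero ⟨j, hj⟩ ((hit j hj).symm.trans hz)⟩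
      refine ⟨⟨(⟨N, hN⟩, b 0), hdeg⟩, ?_⟩
      have hb' : (fun i : Fin (k + 1) => (N ^ (i : ℕ)) *ᵥ b 0) = b := funext fun i => hit i.1 i.2
      exact Sigma.subtype_ext (Subtype.ext hb') rfl
  haveI := Fintype.ofFinite {b : Fin (k + 1) → Fin n → F // LinearIndependent F b}
  rw [Nat.card_eq_of_bijective f hf, Nat.card_sigma, Finset.sum_congr rfl fun b _ => card_fibre b.2,
    Finset.sum_const, Finset.card_univ, smul_eq_mul, ← Nat.card_eq_fintype_card, Fintype.card_fin]

theorem card_deg_zero :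
    Nat.card {x : {N : Matrix (Fin n) (Fin n) F // IsNilpotent N} × (Fin n → F) // cycDeg x = 0} =
      nilCount F (Fin n) := by
  classical
  refine Nat.card_congr
    { toFun := fun x => x.1.1
      invFun := fun N => ⟨(N, 0), (Nat.find_eq_zero _).2 (Matrix.mulVec_zero _)⟩
      left_inv := fun x => by
        apply Subtype.ext
        refine Prod.ext rfl ?_
        have h := (Nat.find_eq_zero (exists_pow_zero x.1)).1 x.2
        rw [pow_zero, Matrix.one_mulVec] at h
        exact h.symm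
      right_inv := fun N => rfl }

theorem nil_recursion (n : ℕ) :
    Nat.card F ^ n * nilCount F (Fin n) = nilCount F (Fin n) + ∑ k ∈ Finset.range n,
      Nat.card {b : Fin (k + 1) → Fin n → F // LinearIndependent F b} *
        (Nat.card F ^ ((k + 1) * (n - (k + 1))) * nilCount F (Fin (n - (k + 1)))) := by
  classical
  let deg : {N : Matrix (Fin n) (Fin n) F // IsNilpotent N} × (Fin n → F) → Fin (n + 1) :=
    fun x => ⟨cycDeg x, Nat.lt_succ_of_le (cycDeg_le x)⟩
  have h := Nat.card_congr (Equiv.sigmaFiberEquiv deg)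
  rw [Nat.card_sigma, Nat.card_prod, Nat.card_fun, Nat.card_fin, Fin.sum_univ_succ] at h
  rw [← Fin.sum_univ_eq_sum_range, mul_comm]
  refine h.symm.trans (congrArg₂ (· + ·) ?_ (Finset.sum_congr rfl fun k _ => ?_))
  · rw [← card_deg_zero]
    exact Nat.card_congr (Equiv.subtypeEquivRight fun x => by simp [deg, Fin.ext_iff])
  · rw [← card_deg_succ]
    exact Nat.card_congr (Equiv.subtypeEquivRight fun x => by simp [deg, Fin.ext_iff])

theorem li_sum (q n : ℕ) (hq : 1 ≤ q) : ∀ d j, j + d = n →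
    ∑ t ∈ Finset.range (d + 1), (∏ i ∈ Finset.range (j + t), (q ^ n - q ^ i)) * q ^ ((n - 1) * (d - t)) =
      (∏ i ∈ Finset.range j, (q ^ n - q ^ i)) * q ^ (n * d) := by
  intro d
  induction d with
  | zero => intro j _; simp
  | succ d ih =>
    intro j hj
    rw [Finset.sum_range_succ']
    rw [Nat.add_zero, Nat.sub_zero, Finset.sum_congr rfl
      (g := fun t => (∏ i ∈ Finset.range (j + 1 + t), (q ^ n - q ^ i)) * q ^ ((n - 1) * (d - t)))
      (fun t _ => by rw [show j + (t + 1) = j + 1 + t by omega, show d + 1 - (t + 1) = d - t by omega])]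
    rw [ih (j + 1) (by omega), Finset.prod_range_succ, mul_assoc, Nat.add_zero, ← mul_add]
    congr 1
    have hle : q ^ j ≤ q ^ n := Nat.pow_le_pow_right hq (by omega)
    have e : q ^ ((n - 1) * (d + 1)) = q ^ j * q ^ (n * d) := by
      rw [← pow_add]
      congr 1
      obtain ⟨m, rfl⟩ : ∃ m, n = m + 1 := ⟨n - 1, by omega⟩
      simp only [Nat.add_sub_cancel]
      nlinarith
    rw [e, ← add_mul, Nat.sub_add_cancel hle, ← pow_add]
    congr 1
    ring

theorem nilCount_eq : ∀ n : ℕ, nilCount F (Fin n) = Nat.card F ^ (n * (n - 1)) := by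
  intro n
  induction n using Nat.strong_induction_on with
  | _ n IH =>
    rcases Nat.eq_zero_or_pos n with rfl | hn
    · rw [zero_mul, pow_zero]
      haveI : Nonempty {N : Matrix (Fin 0) (Fin 0) F // IsNilpotent N} := ⟨⟨0, IsNilpotent.zero⟩⟩
      exact Nat.card_unique
    obtain ⟨m, rfl⟩ : ∃ m, n = m + 1 := ⟨n - 1, by omega⟩
    have hq : 1 < Nat.card F := Finite.one_lt_card
    set q := Nat.card F with hqdef
    have h1 := nil_recursion (F := F) (m + 1)
    have h2 := li_sum q (m + 1) hq.le m 1 (by omega)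
    rw [Finset.prod_range_one, pow_zero] at h2
    haveI := Fintype.ofFinite F
    have h3 : ∀ k ∈ Finset.range (m + 1),
        Nat.card {b : Fin (k + 1) → Fin (m + 1) → F // LinearIndependent F b} *
          (q ^ ((k + 1) * (m + 1 - (k + 1))) * nilCount F (Fin (m + 1 - (k + 1)))) =
        (∏ i ∈ Finset.range (1 + k), (q ^ (m + 1) - q ^ i)) * q ^ ((m + 1 - 1) * (m - k)) := by
      intro k hk
      rw [Finset.mem_range] at hk
      rw [card_linearIndependent (by rw [Module.finrank_fintype_fun_eq_card, Fintype.card_fin]; omega),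
        IH _ (by omega), Module.finrank_fintype_fun_eq_card, Fintype.card_fin,
        Nat.add_comm 1 k, ← hqdef.trans Nat.card_eq_fintype_card, Fin.prod_univ_eq_prod_range (fun i => q ^ (m + 1) - q ^ i),
        ← pow_add]
      congr 2
      obtain ⟨r, rfl⟩ : ∃ r, m = k + r := ⟨m - k, by omega⟩
      simp only [Nat.add_sub_cancel, Nat.add_sub_cancel_left, show k + r + 1 - (k + 1) = r by omega]
      rcases r with _ | r
      · simp
      · simp only [Nat.add_sub_cancel]; ring
    rw [Finset.sum_congr rfl h3, h2] at h1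
    have hpos : 0 < q ^ (m + 1) - 1 := Nat.sub_pos_of_lt (Nat.one_lt_pow (by omega) hq)
    refine Nat.eq_of_mul_eq_mul_left hpos ?_
    rw [Nat.sub_mul, one_mul, h1, Nat.add_sub_cancel_left, Nat.add_sub_cancel]

end CfsgLib.GLClass
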