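import Mathlib
import Cfsg.Agent.GLClass.DetCentralizer

/-!
Classes of `SL n`: at most `gcd (q - 1, exponents)` of them lie over one weighted tuple of
determinant `1`, and there are more than `q ^ (n - 1)` of them.
-/

set_option autoImplicit false

namespace CfsgLib.GLClass

open Polynomial

variable {F : Type*} [Field F] {n : ℕ}

/-- The determinant attached to a weighted tuple. -/
noncomputable def tdet {J m : ℕ} (t : Tup F J m) : F := ∏ i, nrm (t.1 i) ^ ((i : ℕ) + 1)

open scoped Classical in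
/-- The indices occurring in a tuple. -/
noncomputable def tsupp {J m : ℕ} (t : Tup F J m) : Finset (Fin J) :=
  Finset.univ.filter fun i => 0 < (t.1 i).natDegree

/-- The bound for the number of classes of `SL` over a tuple. -/
noncomputable def tgcd {J m : ℕ} (t : Tup F J m) : ℕ :=
  Nat.gcd (Nat.card Fˣ) ((tsupp t).gcd fun i => (i : ℕ) + 1)

theorem prod_nrm_polys {J : ℕ} (D : Multiset (F[X] × ℕ)) (h : ∀ x ∈ D, x.1.Monic ∧ 0 < x.2 ∧ x.2 ≤ J) :
    ∏ i : Fin J, nrm (polys D ((i : ℕ) + 1)) ^ ((i : ℕ) + 1) = (D.map fun x => nrm x.1 ^ x.2).prod := by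
  classical
  induction D using Multiset.induction_on with
  | empty => simp [polys, nrm_one]
  | cons a D ih =>
    obtain ⟨h1, h2, h3⟩ := h a (Multiset.mem_cons_self a D)
    have hD := fun x hx => h x (Multiset.mem_cons_of_mem hx)
    rw [Multiset.map_cons, Multiset.prod_cons, ← ih hD]
    have hm : ∀ j, (polys D j).Monic := polys_monic fun x hx => (hD x hx).1
    have hstep : ∀ i : Fin J, nrm (polys (a ::ₘ D) ((i : ℕ) + 1)) ^ ((i : ℕ) + 1) =
        (if i = ⟨a.2 - 1, by omega⟩ then nrm a.1 ^ a.2 else 1) * nrm (polys D ((i : ℕ) + 1)) ^ ((i : ℕ) + 1) := by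
      intro i
      by_cases hi : a.2 = (i : ℕ) + 1
      · rw [if_pos (Fin.ext (show (i : ℕ) = a.2 - 1 by omega))]
        unfold polys
        rw [Multiset.filter_cons_of_pos D (p := fun x : F[X] × ℕ => x.2 = (i : ℕ) + 1) hi, Multiset.map_cons,
          Multiset.prod_cons,
          nrm_mul h1 (show (Multiset.map Prod.fst (Multiset.filter (fun x : F[X] × ℕ => x.2 = (i : ℕ) + 1) D)).prod.Monic from
            hm _), mul_pow, ← hi]
      · rw [if_neg (fun e => hi (by have := congrArg Fin.val e; simp only at this; omega)), one_mul]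
        unfold polys
        rw [Multiset.filter_cons_of_neg D (p := fun x : F[X] × ℕ => x.2 = (i : ℕ) + 1) hi]
    rw [Finset.prod_congr rfl fun i _ => hstep i, Finset.prod_mul_distrib, Finset.prod_ite_eq']
    simp

theorem tdet_tupOf (g : GL (Fin n) F) : tdet (tupOf g) = (g : Matrix (Fin n) (Fin n) F).det := by
  rw [det_eq_prod_elemDiv, ← prod_nrm_polys _ fun x hx => ⟨(elemDiv_spec _ hx).1, (elemDiv_spec _ hx).2.2, exp_le _ hx⟩]
  rfl

theorem exists_elemDiv_of_deg {D : Multiset (F[X] × ℕ)} {j : ℕ} (hj : 0 < (polys D j).natDegree) :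
    ∃ x ∈ D, x.2 = j := by
  classical
  by_contra h
  push Not at h
  rw [polys, Multiset.filter_eq_nil.2 fun x hx => h x hx] at hj
  simp at hj

/-- The determinants of the centraliser. -/
noncomputable def centDet (h : GL (Fin n) F) : Subgroup Fˣ :=
  (Subgroup.centralizer ({h} : Set (GL (Fin n) F))).map Matrix.GeneralLinearGroup.det

theorem range_pow_le_centDet [Finite F] (h : GL (Fin n) F) {i : Fin n} (hi : i ∈ tsupp (tupOf h)) :
    (powMonoidHom ((i : ℕ) + 1) : Fˣ →* Fˣ).range ≤ centDet h := by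
  classical
  have hi' : 0 < (polys (elemDiv (h : Matrix (Fin n) (Fin n) F)) ((i : ℕ) + 1)).natDegree := by
    exact (Finset.mem_filter.1 hi).2
  obtain ⟨x, hx, hxi⟩ := exists_elemDiv_of_deg hi'
  rintro _ ⟨δ, rfl⟩
  obtain ⟨B, hc, hB⟩ := exists_commute_det_pow hx (δ : F)
  rw [hxi] at hB
  have hne : B.det ≠ 0 := hB ▸ pow_ne_zero _ δ.ne_zero
  refine ⟨Matrix.GeneralLinearGroup.mkOfDetNeZero B hne, ?_, Units.ext ?_⟩
  · exact Subgroup.mem_centralizer_singleton_iff.2 (Units.ext hc.eq)
  · simpa using hB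

theorem pow_gcd_mem {G : Type*} [CommGroup G] (D : Subgroup G) {a b : ℕ} (ha : ∀ x : G, x ^ a ∈ D)
    (hb : ∀ x : G, x ^ b ∈ D) (x : G) : x ^ (Nat.gcd a b) ∈ D := by
  rw [← zpow_natCast x (Nat.gcd a b), Nat.gcd_eq_gcd_ab, zpow_add, zpow_mul, zpow_mul, zpow_natCast, zpow_natCast]
  exact D.mul_mem (D.zpow_mem (ha x) _) (D.zpow_mem (hb x) _)

theorem index_centDet_le [Finite F] (h : GL (Fin n) F) : (centDet h).index ≤ tgcd (tupOf h) := by
  classical
  have hle : (powMonoidHom ((tsupp (tupOf h)).gcd fun i => (i : ℕ) + 1) : Fˣ →* Fˣ).range ≤ centDet h := by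
    have hall : ∀ s : Finset (Fin n), s ⊆ tsupp (tupOf h) → ∀ x : Fˣ, x ^ (s.gcd fun i => (i : ℕ) + 1) ∈ centDet h := by
      intro s
      induction s using Finset.induction_on with
      | empty => intro _ x; simp
      | insert a s _ ih =>
        intro hs x
        rw [Finset.gcd_insert, gcd_eq_nat_gcd]
        exact pow_gcd_mem _ (fun y => range_pow_le_centDet h (hs (Finset.mem_insert_self a s)) ⟨y, rfl⟩)
          (ih fun j hj => hs (Finset.mem_insert_of_mem hj)) x
    rintro _ ⟨x, rfl⟩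
    exact hall _ le_rfl x
  refine (Nat.le_of_dvd ?_ (Subgroup.index_dvd_of_le hle)).trans_eq (IsCyclic.index_powMonoidHom_range (G := Fˣ) _)
  rw [IsCyclic.index_powMonoidHom_range]
  exact Nat.gcd_pos_of_pos_left _ Nat.card_pos

/-- An element of `SL` in a class. -/
noncomputable def clsGL (c : ConjClasses (Matrix.SpecialLinearGroup (Fin n) F)) : GL (Fin n) F :=
  Matrix.SpecialLinearGroup.toGL (Quotient.out c)

theorem det_clsGL (c : ConjClasses (Matrix.SpecialLinearGroup (Fin n) F)) :
    (clsGL c : Matrix (Fin n) (Fin n) F).det = 1 :=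
  (Quotient.out c).2

theorem tdet_clsGL (c : ConjClasses (Matrix.SpecialLinearGroup (Fin n) F)) : tdet (tupOf (clsGL c)) = 1 := by
  rw [tdet_tupOf, det_clsGL]

theorem card_fibre_le [Finite F] (t : Tup F n n) :
    Nat.card {c : ConjClasses (Matrix.SpecialLinearGroup (Fin n) F) // tupOf (clsGL c) = t} ≤ tgcd t := by
  classical
  rcases isEmpty_or_nonempty {c : ConjClasses (Matrix.SpecialLinearGroup (Fin n) F) // tupOf (clsGL c) = t} with
    hE | ⟨⟨c₀, hc₀⟩⟩
  · rw [Nat.card_of_isEmpty]; exact Nat.zero_le _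
  subst hc₀
  set h := clsGL c₀
  have hex : ∀ c : {c : ConjClasses (Matrix.SpecialLinearGroup (Fin n) F) // tupOf (clsGL c) = tupOf h},
      ∃ x : GL (Fin n) F, x * h * x⁻¹ = clsGL c.1 := fun c => isConj_iff.1 (isConj_of_tupOf_eq c.2.symm)
  choose x hx using hex
  refine le_trans ?_ (index_centDet_le h)
  refine Nat.card_le_card_of_injective
    (fun c => (QuotientGroup.mk (Matrix.GeneralLinearGroup.det (x c)) : Fˣ ⧸ centDet h)) fun c d hcd => ?_
  obtain ⟨z, hz, hzd⟩ := QuotientGroup.eq.1 hcd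
  have hzh : z * h = h * z := Subgroup.mem_centralizer_singleton_iff.1 hz
  let y : GL (Fin n) F := x d * z⁻¹ * (x c)⁻¹
  have hydet : Matrix.GeneralLinearGroup.det y = 1 := by
    simp only [y, map_mul, map_inv, hzd]
    rw [mul_inv_rev, inv_inv]
    simp [mul_comm, mul_left_comm]
  let s : Matrix.SpecialLinearGroup (Fin n) F := ⟨(y : Matrix (Fin n) (Fin n) F), by
    simpa using congrArg Units.val hydet⟩
  have hs : Matrix.SpecialLinearGroup.toGL s = y := Units.ext rfl
  apply Subtype.ext
  rw [← Quotient.out_eq c.1, ← Quotient.out_eq d.1]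
  apply Quotient.sound
  refine isConj_iff.2 ⟨s, ?_⟩
  have key : y * clsGL c.1 * y⁻¹ = clsGL d.1 := by
    rw [← hx c, ← hx d]
    simp only [y, mul_inv_rev, inv_inv, mul_assoc, inv_mul_cancel_left, mul_inv_cancel_left]
    rw [← mul_assoc h z, ← hzh, mul_assoc z h, inv_mul_cancel_left]
  apply Matrix.SpecialLinearGroup.toGL_injective
  rw [map_mul, map_mul, map_inv, hs]
  exact key

theorem card_classes_SL_le [Fintype F] [Fintype (Tup F n n)] [DecidableEq F] :
    Nat.card (ConjClasses (Matrix.SpecialLinearGroup (Fin n) F)) ≤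
      ∑ t ∈ Finset.univ.filter (fun t : Tup F n n => tdet t = 1), tgcd t := by
  classical
  haveI : Fintype (ConjClasses (Matrix.SpecialLinearGroup (Fin n) F)) := Fintype.ofFinite _
  rw [Nat.card_eq_fintype_card, ← Finset.card_univ, Finset.card_eq_sum_card_fiberwise
    (f := fun c => tupOf (clsGL c)) (t := Finset.univ.filter fun t : Tup F n n => tdet t = 1)
    fun c _ => Finset.mem_coe.2 (Finset.mem_filter.2 ⟨Finset.mem_univ _, tdet_clsGL c⟩)]
  refine Finset.sum_le_sum fun t _ => (le_of_eq ?_).trans (card_fibre_le t)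
  rw [Nat.subtype_card (Finset.univ.filter fun c => tupOf (clsGL c) = t) fun c => by simp]

theorem lt_card_classes_SL [Fintype F] (hn : 2 ≤ n) :
    Fintype.card F ^ (n - 1) < Nat.card (ConjClasses (Matrix.SpecialLinearGroup (Fin n) F)) := by
  classical
  obtain ⟨m, rfl⟩ : ∃ m, n = m + 2 := ⟨n - 2, by omega⟩
  let P := {f : F[X] // f.Monic ∧ f.natDegree = m + 1 + 1 ∧ f.coeff 0 = (-1) ^ (m + 2)}
  have hP : Nat.card P = Fintype.card F ^ (m + 1) := card_constPoly (m + 1) _
  have hex : ∀ f : P, ∃ s : Matrix.SpecialLinearGroup (Fin (m + 2)) F,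
      (s : Matrix (Fin (m + 2)) (Fin (m + 2)) F).charpoly = f.1 ∧ s ≠ 1 := by
    intro f
    by_cases h1 : f.1 = (1 : Matrix (Fin (m + 2)) (Fin (m + 2)) F).charpoly
    · refine ⟨Matrix.SpecialLinearGroup.transvection (show (0 : Fin (m + 2)) ≠ 1 by simp) 1, ?_, ?_⟩
      · rw [h1]
        have htri : (Matrix.transvection (0 : Fin (m + 2)) 1 (1 : F)).BlockTriangular id := by
          intro i j hij
          have hne : i ≠ j := (ne_of_lt hij).symm
          have : ¬ (0 = i ∧ (1 : Fin (m + 2)) = j) := by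
            rintro ⟨rfl, rfl⟩
            exact absurd hij (by simp)
          simp [Matrix.transvection, Matrix.one_apply_ne hne, Matrix.single_apply, this]
        show (Matrix.transvection (0 : Fin (m + 2)) 1 (1 : F)).charpoly = _
        rw [Matrix.charpoly_of_isUpperTriangular _ htri, Matrix.charpoly_one]
        have hdiag : ∀ i : Fin (m + 2), Matrix.transvection (0 : Fin (m + 2)) 1 (1 : F) i i = 1 := by
          intro i
          have : ¬ (0 = i ∧ (1 : Fin (m + 2)) = i) := fun h => absurd (h.1.trans h.2.symm) (by simp)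
          simp [Matrix.transvection, Matrix.single_apply, this]
        simp [hdiag]
      · intro h
        have := congrArg (fun s : Matrix.SpecialLinearGroup (Fin (m + 2)) F =>
          (s : Matrix (Fin (m + 2)) (Fin (m + 2)) F) 0 1) h
        simp [Matrix.transvection, Matrix.SpecialLinearGroup.transvection] at this
    · obtain ⟨g, hg⟩ := exists_gl_charpoly (n := m + 2)
        (⟨f.1, f.2.1, f.2.2.1, by rw [f.2.2.2]; exact pow_ne_zero _ (neg_ne_zero.2 one_ne_zero)⟩ : GoodPoly F (m + 2))
      have hdet : (g : Matrix (Fin (m + 2)) (Fin (m + 2)) F).det = 1 := by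
        rw [Matrix.det_eq_sign_charpoly_coeff, hg, f.2.2.2, Fintype.card_fin, ← mul_pow]
        simp
      refine ⟨⟨(g : Matrix (Fin (m + 2)) (Fin (m + 2)) F), hdet⟩, hg, fun h => h1 ?_⟩
      rw [← hg, show (g : Matrix (Fin (m + 2)) (Fin (m + 2)) F) = 1 from congrArg Subtype.val h]
  choose s hs hs1 using hex
  have hinj : Function.Injective (fun o : Option P => ConjClasses.mk (o.elim 1 s)) := by
    rintro (_ | a) (_ | b) hab <;> simp only [Option.elim, ConjClasses.mk_eq_mk_iff_isConj] at hab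
    · rfl
    · exact absurd (isConj_one_right.1 hab) (hs1 b)
    · exact absurd (isConj_one_left.1 hab) (hs1 a)
    · obtain ⟨x, hx⟩ := isConj_iff.1 hab
      refine congrArg some (Subtype.ext ?_)
      rw [← hs a, ← hs b, ← hx]
      exact (charpoly_eq_of_isConj (isConj_iff.2
        ⟨Matrix.SpecialLinearGroup.toGL x, by rw [← map_inv, ← map_mul, ← map_mul]⟩)
        : (Matrix.SpecialLinearGroup.toGL (s a) : Matrix (Fin (m + 2)) (Fin (m + 2)) F).charpoly = _)
  have h1 := Nat.card_le_card_of_injective _ hinj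
  haveI : Finite P := Nat.finite_of_card_ne_zero (by rw [hP]; exact pow_ne_zero _ Fintype.card_ne_zero)
  rw [Finite.card_option, hP] at h1
  simpa using h1

end CfsgLib.GLClass
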