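import Mathlib
import Cfsg.Agent.GLClass.SLClasses

/-!
Weighted tuples split at their first entry: shifted tuples (weights `2, 3, …`), their number, and
bounds for the sum that controls the class number of `SL n`.
-/

set_option autoImplicit false

namespace CfsgLib.GLClass

open Polynomial

/-- The number of tuples `f 2, …, f (J + 1)` with `∑ i * deg (f i) = n`. -/
def twCount (q : ℕ) : ℕ → ℕ → ℕ
  | 0, n => if n = 0 then 1 else 0
  | J + 1, n => ∑ m ∈ Finset.range (n / (J + 2) + 1), cnt q m * twCount q J (n - (J + 2) * m)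

variable (F : Type*) [Field F]

/-- Shifted weighted tuples. -/
abbrev Tw (J n : ℕ) : Type _ :=
  {h : Fin J → F[X] // (∀ i, (h i).Monic ∧ (h i).coeff 0 ≠ 0) ∧ ∑ i : Fin J, ((i : ℕ) + 2) * (h i).natDegree = n}

variable {F}

theorem tw_last_le {J n : ℕ} (h : Tw F (J + 1) n) : (h.1 (Fin.last J)).natDegree ≤ n / (J + 2) := by
  rw [Nat.le_div_iff_mul_le (show 0 < J + 2 by omega)]
  have h1 := h.2.2
  rw [Fin.sum_univ_castSucc, Fin.val_last] at h1
  rw [mul_comm]
  omega

theorem tw_split_ext {J n : ℕ} (x y : (m : Fin (n / (J + 2) + 1)) × (GoodPoly F m × Tw F J (n - (J + 2) * m)))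
    (h1 : x.2.1.1 = y.2.1.1) (h2 : x.2.2.1 = y.2.2.1) : x = y := by
  obtain ⟨m, ⟨f, hf⟩, ⟨g, hg⟩⟩ := x
  obtain ⟨m', ⟨f', hf'⟩, ⟨g', hg'⟩⟩ := y
  simp only at h1 h2
  subst h1 h2
  obtain rfl : m = m' := Fin.ext (hf.2.1.symm.trans hf'.2.1)
  rfl

/-- Split off the last polynomial. -/
noncomputable def twEquiv (J n : ℕ) :
    Tw F (J + 1) n ≃ (m : Fin (n / (J + 2) + 1)) × (GoodPoly F m × Tw F J (n - (J + 2) * m)) where
  toFun h := ⟨⟨(h.1 (Fin.last J)).natDegree, Nat.lt_succ_of_le (tw_last_le h)⟩,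
    ⟨⟨h.1 (Fin.last J), (h.2.1 _).1, rfl, (h.2.1 _).2⟩, ⟨fun i => h.1 i.castSucc, fun i => h.2.1 _, by
      have h1 := h.2.2
      rw [Fin.sum_univ_castSucc, Fin.val_last] at h1
      simp only [Fin.val_castSucc] at h1
      simp only
      omega⟩⟩⟩
  invFun x := ⟨Fin.snoc x.2.2.1 x.2.1.1, fun i => by
      refine Fin.lastCases ?_ (fun j => ?_) i
      · rw [Fin.snoc_last]; exact ⟨x.2.1.2.1, x.2.1.2.2.2⟩
      · rw [Fin.snoc_castSucc]; exact x.2.2.2.1 j, by
      rw [Fin.sum_univ_castSucc]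
      simp only [Fin.snoc_last, Fin.snoc_castSucc, Fin.val_castSucc, Fin.val_last, x.2.2.2.2, x.2.1.2.2.1]
      have h1 : (J + 2) * (x.1 : ℕ) ≤ n :=
        (Nat.mul_le_mul_left _ (Nat.le_of_lt_succ x.1.2)).trans (Nat.mul_div_le n (J + 2))
      omega⟩
  left_inv h := Subtype.ext (funext fun i => by
    refine Fin.lastCases ?_ (fun j => ?_) i
    · simp only [Fin.snoc_last]
    · simp only [Fin.snoc_castSucc])
  right_inv x := tw_split_ext _ _ (by simp) (funext fun i => by simp)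

variable [Fintype F]

instance instFiniteTw : ∀ J n : ℕ, Finite (Tw F J n)
  | 0, _ => inferInstance
  | J + 1, n => by
    have : ∀ k, Finite (Tw F J k) := fun k => instFiniteTw J k
    exact Finite.of_equiv _ (twEquiv J n).symm

theorem card_tw : ∀ J n : ℕ, Nat.card (Tw F J n) = twCount (Fintype.card F) J n
  | 0, n => by
    rw [twCount]
    split
    · subst n
      have : Nonempty (Tw F 0 0) := ⟨⟨fun i => i.elim0, fun i => i.elim0, by simp⟩⟩
      exact Nat.card_unique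
    · have : IsEmpty (Tw F 0 n) := ⟨fun h => by have := h.2.2; simp at this; omega⟩
      exact Nat.card_of_isEmpty
  | J + 1, n => by
    rw [Nat.card_congr (twEquiv J n), Nat.card_sigma, twCount, ← Fin.sum_univ_eq_sum_range
      (fun m => cnt (Fintype.card F) m * twCount (Fintype.card F) J (n - (J + 2) * m))]
    exact Finset.sum_congr rfl fun m _ => by rw [Nat.card_prod, card_goodPoly, card_tw J]

omit [Fintype F] in
theorem head_split_ext {J n : ℕ} (x y : (d : Fin (n + 1)) × (GoodPoly F d × Tw F J (n - d)))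
    (h1 : x.2.1.1 = y.2.1.1) (h2 : x.2.2.1 = y.2.2.1) : x = y := by
  obtain ⟨m, ⟨f, hf⟩, ⟨g, hg⟩⟩ := x
  obtain ⟨m', ⟨f', hf'⟩, ⟨g', hg'⟩⟩ := y
  simp only at h1 h2
  subst h1 h2
  obtain rfl : m = m' := Fin.ext (hf.2.1.symm.trans hf'.2.1)
  rfl

/-- Split off the first polynomial. -/
noncomputable def headEquiv (J n : ℕ) :
    Tup F (J + 1) n ≃ (d : Fin (n + 1)) × (GoodPoly F d × Tw F J (n - d)) where
  toFun h := ⟨⟨(h.1 0).natDegree, by
      have h1 := h.2.2
      rw [Fin.sum_univ_succ, Fin.val_zero] at h1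
      omega⟩,
    ⟨⟨h.1 0, (h.2.1 _).1, rfl, (h.2.1 _).2⟩, ⟨fun i => h.1 i.succ, fun i => h.2.1 _, by
      have h1 := h.2.2
      rw [Fin.sum_univ_succ, Fin.val_zero] at h1
      simp only [Fin.val_succ, zero_add, one_mul, add_assoc, show (1 : ℕ) + 1 = 2 from rfl] at h1
      simp only
      omega⟩⟩⟩
  invFun x := ⟨Fin.cons x.2.1.1 x.2.2.1, fun i => by
      refine Fin.cases ?_ (fun j => ?_) i
      · rw [Fin.cons_zero]; exact ⟨x.2.1.2.1, x.2.1.2.2.2⟩
      · rw [Fin.cons_succ]; exact x.2.2.2.1 j, by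
      rw [Fin.sum_univ_succ]
      simp only [Fin.cons_zero, Fin.cons_succ, Fin.val_succ, Fin.val_zero, zero_add, one_mul, add_assoc,
        show (1 : ℕ) + 1 = 2 from rfl, x.2.2.2.2, x.2.1.2.2.1]
      have h1 := x.1.2
      omega⟩
  left_inv h := Subtype.ext (funext fun i => by refine Fin.cases ?_ (fun j => ?_) i <;> simp)
  right_inv x := head_split_ext _ _ (by simp) (funext fun i => by simp)

theorem tupCount_head (J n : ℕ) :
    tupCount (Fintype.card F) (J + 1) n =
      ∑ d ∈ Finset.range (n + 1), cnt (Fintype.card F) d * twCount (Fintype.card F) J (n - d) := by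
  rw [← card_tup (F := F), Nat.card_congr (headEquiv J n), Nat.card_sigma,
    ← Fin.sum_univ_eq_sum_range (fun d => cnt (Fintype.card F) d * twCount (Fintype.card F) J (n - d))]
  exact Finset.sum_congr rfl fun d _ => by rw [Nat.card_prod, card_goodPoly, card_tw J]

omit [Fintype F] in
/-- A shifted tuple gives two tuples, by the parity of the index. -/
theorem tw_parity {J n : ℕ} (w : Tw F J n) :
    ∃ a b : ℕ, a + b ≤ n / 2 ∧ ∃ (g : Tup F J a) (g' : Tup F J b), ∀ j : Fin J, ∀ (i : Fin J),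
      ((i : ℕ) = 2 * j → w.1 i = g.1 j) ∧ ((i : ℕ) = 2 * j + 1 → w.1 i = g'.1 j) := by
  classical
  let f : ℕ → F[X] := fun k => if hk : k < J then w.1 ⟨k, hk⟩ else 1
  have hf : ∀ k, (f k).Monic ∧ (f k).coeff 0 ≠ 0 := by
    intro k
    simp only [f]
    split
    · exact w.2.1 _
    · exact ⟨monic_one, by simp⟩
  refine ⟨_, _, ?_, ⟨fun j => f (2 * j), fun j => hf _, rfl⟩, ⟨fun j => f (2 * j + 1), fun j => hf _, rfl⟩,
    fun j i => ⟨fun hi => ?_, fun hi => ?_⟩⟩
  · rw [Nat.le_div_iff_mul_le (by norm_num), ← Finset.sum_add_distrib, Finset.sum_mul]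
    have hn : n = ∑ k ∈ Finset.range J, (k + 2) * (f k).natDegree := by
      rw [← Fin.sum_univ_eq_sum_range (fun k => (k + 2) * (f k).natDegree)]
      refine w.2.2.symm.trans (Finset.sum_congr rfl fun i _ => ?_)
      simp [f]
    have hpair : ∀ m : ℕ, (∑ j ∈ Finset.range m, ((j + 1) * (f (2 * j)).natDegree + (j + 1) * (f (2 * j + 1)).natDegree) * 2) ≤
        ∑ k ∈ Finset.range (2 * m), (k + 2) * (f k).natDegree := by
      intro m
      induction m with
      | zero => simp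
      | succ m ih =>
        rw [show 2 * (m + 1) = 2 * m + 1 + 1 by ring, Finset.sum_range_succ, Finset.sum_range_succ,
          Finset.sum_range_succ]
        nlinarith [Nat.zero_le ((f (2 * m + 1)).natDegree)]
    refine le_trans (le_of_eq (Fin.sum_univ_eq_sum_range
      (fun j => ((j + 1) * (f (2 * j)).natDegree + (j + 1) * (f (2 * j + 1)).natDegree) * 2) J))
      ((hpair J).trans (le_of_eq ?_))
    rw [hn, ← Finset.sum_subset (Finset.range_mono (show J ≤ 2 * J by omega)) fun k _ hk => ?_]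
    have : ¬ k < J := fun h => hk (Finset.mem_range.2 h)
    simp [f, this]
  · simp [f, ← hi]
  · simp [f, ← hi]

theorem twCount_le_sum (J n : ℕ) :
    twCount (Fintype.card F) J n ≤
      ∑ a ∈ Finset.range (n / 2 + 1), ∑ b ∈ Finset.range (n / 2 + 1 - a),
        Fintype.card F ^ (a + b) := by
  classical
  have h : ∀ w : Tw F J n, ∃ x : (a : Fin (n / 2 + 1)) × ((b : Fin (n / 2 + 1 - a)) × (Tup F J a × Tup F J b)),
      ∀ j i : Fin J, ((i : ℕ) = 2 * j → w.1 i = x.2.2.1.1 j) ∧ ((i : ℕ) = 2 * j + 1 → w.1 i = x.2.2.2.1 j) := by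
    intro w
    obtain ⟨a, b, hab, g, g', hg⟩ := tw_parity w
    exact ⟨⟨⟨a, by omega⟩, ⟨⟨b, by simp only; omega⟩, (g, g')⟩⟩, hg⟩
  choose Φ hΦ using h
  have hinj : Function.Injective Φ := by
    intro w w' he
    refine Subtype.ext (funext fun i => ?_)
    rcases Nat.even_or_odd (i : ℕ) with ⟨k, hk⟩ | ⟨k, hk⟩
    · have hkJ : k < J := by omega
      rw [(hΦ w ⟨k, hkJ⟩ i).1 (by simp only; omega), (hΦ w' ⟨k, hkJ⟩ i).1 (by simp only; omega), he]
    · have hkJ : k < J := by omega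
      rw [(hΦ w ⟨k, hkJ⟩ i).2 (by simp only; omega), (hΦ w' ⟨k, hkJ⟩ i).2 (by simp only; omega), he]
  rw [← card_tw (F := F)]
  refine (Nat.card_le_card_of_injective Φ hinj).trans ?_
  rw [Nat.card_sigma, ← Fin.sum_univ_eq_sum_range
    (fun a => ∑ b ∈ Finset.range (n / 2 + 1 - a), Fintype.card F ^ (a + b))]
  refine Finset.sum_le_sum fun a _ => ?_
  rw [Nat.card_sigma, ← Fin.sum_univ_eq_sum_range (fun b => Fintype.card F ^ ((a : ℕ) + b))]
  refine Finset.sum_le_sum fun b _ => ?_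
  rw [Nat.card_prod, card_tup, card_tup, pow_add]
  exact Nat.mul_le_mul (tupCount_le Fintype.card_pos _ _) (tupCount_le Fintype.card_pos _ _)

theorem sub_one_mul_twCount_le (J n : ℕ) :
    (Fintype.card F - 1) * twCount (Fintype.card F) J n ≤ (n / 2 + 1) * Fintype.card F ^ (n / 2 + 1) := by
  refine (Nat.mul_le_mul_left _ (twCount_le_sum (F := F) J n)).trans ?_
  rw [Finset.mul_sum]
  refine (Finset.sum_le_card_nsmul _ _ (Fintype.card F ^ (n / 2 + 1)) fun a ha => ?_).trans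
    (by rw [Finset.card_range, smul_eq_mul])
  have ha' := Finset.mem_range.1 ha
  obtain ⟨r, hr⟩ : ∃ r, Fintype.card F = r + 1 := ⟨Fintype.card F - 1, (Nat.succ_pred_eq_of_pos Fintype.card_pos).symm⟩
  rw [hr, Nat.add_sub_cancel]
  have hgeom : ∀ m : ℕ, r * ∑ b ∈ Finset.range m, (r + 1) ^ b + 1 = (r + 1) ^ m := by
    intro m
    induction m with
    | zero => simp
    | succ m ih => rw [Finset.sum_range_succ, pow_succ, ← ih]; ring
  calc r * ∑ b ∈ Finset.range (n / 2 + 1 - a), (r + 1) ^ (a + b)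
      = (r + 1) ^ a * (r * ∑ b ∈ Finset.range (n / 2 + 1 - a), (r + 1) ^ b) := by
        simp only [pow_add, ← Finset.mul_sum]; ring
    _ ≤ (r + 1) ^ a * (r + 1) ^ (n / 2 + 1 - a) := Nat.mul_le_mul_left _ (by rw [← hgeom]; exact Nat.le_succ _)
    _ = (r + 1) ^ (n / 2 + 1) := by rw [← pow_add]; congr 1; omega

end CfsgLib.GLClass
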