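import Mathlib
import Cfsg.Agent.GLClass.ShiftCount

/-!
The sum over weighted tuples of determinant `1` that bounds the class number of `SL n`.
-/

set_option autoImplicit false

namespace CfsgLib.GLClass

open Polynomial

variable {F : Type*} [Field F] [Fintype F]

theorem card_units_eq : Nat.card Fˣ = Fintype.card F - 1 := by
  rw [Nat.card_units, Nat.card_eq_fintype_card]

theorem tgcd_le_card_sub_one {J m : ℕ} (t : Tup F J m) : tgcd t ≤ Fintype.card F - 1 := by
  rw [← card_units_eq]
  exact Nat.le_of_dvd Nat.card_pos (Nat.gcd_dvd_left _ _)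

omit [Fintype F] in
theorem tgcd_le_index [Finite F] {J m : ℕ} (t : Tup F J m) {i : Fin J} (hi : 0 < (t.1 i).natDegree) :
    tgcd t ≤ (i : ℕ) + 1 := by
  classical
  refine Nat.le_of_dvd (Nat.succ_pos _) ((Nat.gcd_dvd_right _ _).trans (Finset.gcd_dvd ?_))
  exact Finset.mem_filter.2 ⟨Finset.mem_univ _, hi⟩

/-- Polynomials of degree `d + 1` whose norm is a `k`-th root of unity. -/
abbrev RootPoly (F : Type*) [Field F] (d k : ℕ) : Type _ :=
  {f : F[X] // f.Monic ∧ f.natDegree = d + 1 ∧ nrm f ^ k = 1}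

instance instFiniteRootPoly (d k : ℕ) [NeZero k] : Finite (RootPoly F d k) :=
  Finite.of_injective (fun f => (⟨f.1, f.2.1, f.2.2.1, fun h => by
    have := f.2.2.2
    rw [nrm, h, mul_zero, zero_pow (NeZero.ne k)] at this
    exact zero_ne_one this⟩ : GoodPoly F (d + 1))) fun f g h => Subtype.ext (congrArg (fun x : GoodPoly F (d + 1) => x.1) h)

theorem card_rootPoly_le (d k : ℕ) [NeZero k] :
    Nat.card (RootPoly F d k) ≤ min k (Fintype.card F - 1) * Fintype.card F ^ d := by
  classical
  let R := {c : Fˣ // c ^ k = 1}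
  have hR : Nat.card R ≤ min k (Fintype.card F - 1) := by
    refine le_min ?_ ?_
    · rw [Nat.card_eq_fintype_card, Fintype.card_subtype]
      exact IsCyclic.card_pow_eq_one_le (NeZero.pos k)
    · rw [← card_units_eq]
      exact Nat.card_le_card_of_injective Subtype.val Subtype.val_injective
  have : Finite R := Subtype.finite
  have : ∀ a : F, Finite {f : F[X] // f.Monic ∧ f.natDegree = d + 1 ∧ f.coeff 0 = a} := fun a =>
    Nat.finite_of_card_ne_zero (by rw [card_constPoly]; exact pow_ne_zero _ Fintype.card_ne_zero)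
  let Φ : RootPoly F d k → (c : R) × {f : F[X] // f.Monic ∧ f.natDegree = d + 1 ∧
      f.coeff 0 = (-1) ^ (d + 1) * ((c.1 : Fˣ) : F)} := fun f =>
    have hu : IsUnit (nrm f.1) := isUnit_iff_ne_zero.2 fun h => by
      have := f.2.2.2
      rw [h, zero_pow (NeZero.ne k)] at this
      exact zero_ne_one this
    ⟨⟨hu.unit, Units.ext (by simpa using f.2.2.2)⟩, f.1, f.2.1, f.2.2.1, by
      show f.1.coeff 0 = (-1) ^ (d + 1) * nrm f.1
      rw [nrm, f.2.2.1, ← mul_assoc, ← mul_pow]
      simp⟩
  refine (Nat.card_le_card_of_injective Φ fun f g h => Subtype.ext ?_).trans ?_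
  · exact congrArg (fun x => x.2.1) h
  · have : Fintype R := Fintype.ofFinite R
    rw [Nat.card_sigma]
    refine (Finset.sum_le_card_nsmul _ _ (Fintype.card F ^ d) fun c _ => (card_constPoly d _).le).trans ?_
    rw [Finset.card_univ, ← Nat.card_eq_fintype_card, smul_eq_mul]
    exact Nat.mul_le_mul_right _ hR

variable [DecidableEq F]

/-- Tuples of determinant `1` with non-constant first entry. -/
abbrev HeadTup (F : Type*) [Field F] (J n : ℕ) : Type _ :=
  {t : Tup F (J + 1) n // tdet t = 1 ∧ 0 < (t.1 0).natDegree}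

/-- Tuples of determinant `1` with constant first entry. -/
abbrev TailTup (F : Type*) [Field F] (J n : ℕ) : Type _ :=
  {t : Tup F (J + 1) n // tdet t = 1 ∧ (t.1 0).natDegree = 0}

omit [DecidableEq F] in
theorem sub_one_mul_sum_head (J n : ℕ) :
    (Fintype.card F - 1) * ∑ d ∈ Finset.range n, Fintype.card F ^ d * twCount (Fintype.card F) J (n - (d + 1)) +
      twCount (Fintype.card F) J n = tupCount (Fintype.card F) (J + 1) n := by
  rw [tupCount_head, Finset.sum_range_succ', Finset.mul_sum]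
  congr 1
  · exact Finset.sum_congr rfl fun d _ => by rw [cnt]; ring
  · simp [cnt]

omit [DecidableEq F] in
theorem card_headTup_le (J n : ℕ) :
    Nat.card (HeadTup F J n) ≤ ∑ d ∈ Finset.range n, Fintype.card F ^ d * twCount (Fintype.card F) J (n - (d + 1)) := by
  classical
  let wd : ∀ {m : ℕ}, Tw F J m → F := fun w => ∏ i, nrm (w.1 i) ^ ((i : ℕ) + 2)
  have : ∀ (d : ℕ) (a : F), Finite {f : F[X] // f.Monic ∧ f.natDegree = d + 1 ∧ f.coeff 0 = a} := fun d a =>
    Nat.finite_of_card_ne_zero (by rw [card_constPoly]; exact pow_ne_zero _ Fintype.card_ne_zero)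
  have hex : ∀ t : HeadTup F J n, ∃ x : (d : Fin n) × ((w : Tw F J (n - ((d : ℕ) + 1))) ×
      {f : F[X] // f.Monic ∧ f.natDegree = (d : ℕ) + 1 ∧ f.coeff 0 = (-1) ^ ((d : ℕ) + 1) * (wd w)⁻¹}),
      x.2.2.1 = t.1.1 0 ∧ ∀ i : Fin J, x.2.1.1 i = t.1.1 i.succ := by
    rintro ⟨⟨h, hmon, hsum⟩, hdet, hpos⟩
    simp only at hpos
    obtain ⟨e, he⟩ : ∃ e, (h 0).natDegree = e + 1 := ⟨(h 0).natDegree - 1, by omega⟩
    have hs := hsum
    rw [Fin.sum_univ_succ, Fin.val_zero, zero_add, one_mul, he] at hs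
    simp only [Fin.val_succ, add_assoc, show (1 : ℕ) + 1 = 2 from rfl] at hs
    refine ⟨⟨⟨e, by omega⟩, ⟨fun i => h i.succ, fun i => hmon _, by simp only; omega⟩, h 0, (hmon 0).1, he, ?_⟩,
      rfl, fun i => rfl⟩
    rw [tdet, Fin.prod_univ_succ] at hdet
    simp only [Fin.val_zero, zero_add, pow_one, Fin.val_succ, add_assoc, show (1 : ℕ) + 1 = 2 from rfl] at hdet
    rw [← eq_inv_of_mul_eq_one_left hdet, nrm, he, ← mul_assoc, ← mul_pow]
    simp
  choose Φ hΦ1 hΦ2 using hex
  have hinj : Function.Injective Φ := by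
    intro t t' he
    refine Subtype.ext (Subtype.ext (funext fun i => ?_))
    refine Fin.cases ?_ (fun j => ?_) i
    · rw [← hΦ1 t, ← hΦ1 t', he]
    · rw [← hΦ2 t j, ← hΦ2 t' j, he]
  refine (Nat.card_le_card_of_injective Φ hinj).trans (le_of_eq ?_)
  rw [Nat.card_sigma, ← Fin.sum_univ_eq_sum_range
    (fun d => Fintype.card F ^ d * twCount (Fintype.card F) J (n - (d + 1)))]
  refine Finset.sum_congr rfl fun d _ => ?_
  have : Fintype (Tw F J (n - ((d : ℕ) + 1))) := Fintype.ofFinite _
  rw [Nat.card_sigma, Finset.sum_congr rfl (fun w _ => card_constPoly (d : ℕ) _), Finset.sum_const,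
    Finset.card_univ, ← Nat.card_eq_fintype_card, card_tw, smul_eq_mul, mul_comm]

omit [DecidableEq F] in
theorem card_tailTup_le (J n : ℕ) : Nat.card (TailTup F J n) ≤ twCount (Fintype.card F) J n := by
  rw [← card_tw (F := F)]
  refine Nat.card_le_card_of_injective (fun t => (⟨fun i => t.1.1 i.succ, fun i => t.1.2.1 _, by
    have h1 := t.1.2.2
    rw [Fin.sum_univ_succ, t.2.2, mul_zero, zero_add] at h1
    simpa only [Fin.val_succ, add_assoc, show (1 : ℕ) + 1 = 2 from rfl] using h1⟩ : Tw F J n)) fun t t' h => ?_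
  refine Subtype.ext (Subtype.ext (funext fun i => ?_))
  refine Fin.cases ?_ (fun j => ?_) i
  · rw [(t.1.2.1 0).1.natDegree_eq_zero.1 t.2.2, (t'.1.2.1 0).1.natDegree_eq_zero.1 t'.2.2]
  · exact congrFun (congrArg Subtype.val h) j

theorem card_classes_SL_split (J : ℕ) [Fintype (Tup F (J + 1) (J + 1))] [Fintype (TailTup F J (J + 1))] :
    Nat.card (ConjClasses (Matrix.SpecialLinearGroup (Fin (J + 1)) F)) ≤
      Nat.card (HeadTup F J (J + 1)) + ∑ t : TailTup F J (J + 1), tgcd t.1 := by
  classical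
  refine card_classes_SL_le.trans ?_
  rw [← Finset.sum_filter_add_sum_filter_not _ (fun t : Tup F (J + 1) (J + 1) => 0 < (t.1 0).natDegree)]
  refine Nat.add_le_add ?_ (le_of_eq ?_)
  · rw [Finset.filter_filter]
    refine (Finset.sum_le_card_nsmul _ _ 1 fun t ht => ?_).trans (le_of_eq ?_)
    · exact (tgcd_le_index t (Finset.mem_filter.1 ht).2.2).trans_eq (by simp)
    · rw [smul_eq_mul, mul_one, Nat.subtype_card _ fun t => Finset.mem_filter.trans (and_iff_right (Finset.mem_univ t))]
  · rw [Finset.filter_filter]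
    refine (Finset.sum_subtype _ (fun t => ?_) fun t => tgcd t)
    simp [Nat.pos_iff_ne_zero]

/-- The general bound. -/
theorem card_classes_SL_general (J : ℕ) :
    ∃ A W : ℕ, Nat.card (ConjClasses (Matrix.SpecialLinearGroup (Fin (J + 1)) F)) ≤ A + W ∧
      (Fintype.card F - 1) * A + twCount (Fintype.card F) J (J + 1) ≤ Fintype.card F ^ (J + 1) ∧
      W ≤ (Fintype.card F - 1) * twCount (Fintype.card F) J (J + 1) := by
  have : Fintype (Tup F (J + 1) (J + 1)) := Fintype.ofFinite _
  have : Fintype (TailTup F J (J + 1)) := Fintype.ofFinite _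
  refine ⟨_, _, card_classes_SL_split J, ?_, ?_⟩
  · exact ((Nat.add_le_add_right (Nat.mul_le_mul_left _ (card_headTup_le J _)) _).trans_eq
      (sub_one_mul_sum_head J _)).trans (tupCount_le Fintype.card_pos _ _)
  · refine (Finset.sum_le_card_nsmul _ _ (Fintype.card F - 1) fun t _ => tgcd_le_card_sub_one _).trans ?_
    rw [smul_eq_mul, mul_comm, Finset.card_univ]
    exact Nat.mul_le_mul_left _ ((Nat.card_eq_fintype_card).symm.trans_le (card_tailTup_le J _))

omit [DecidableEq F] in
theorem eq_one_of_deg {J n : ℕ} (t : Tup F J n) {i : Fin J} (h : (t.1 i).natDegree = 0) : t.1 i = 1 :=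
  (t.2.1 i).1.natDegree_eq_zero.1 h

omit [DecidableEq F] in
theorem tdet_eq_single {J n : ℕ} (t : Tup F J n) (i : Fin J) (h : ∀ j, j ≠ i → (t.1 j).natDegree = 0) :
    tdet t = nrm (t.1 i) ^ ((i : ℕ) + 1) := by
  rw [tdet]
  refine Finset.prod_eq_single i (fun j _ hj => ?_) (by simp)
  rw [eq_one_of_deg t (h j hj), nrm_one, one_pow]

omit [DecidableEq F] in
/-- The tuples supported at one index contribute at most `m * m * q ^ d`. -/
theorem sum_single_le {J n : ℕ} (i : Fin (J + 1)) (d : ℕ) [Fintype (TailTup F J n)] (s : Finset (TailTup F J n))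
    (hs : ∀ t ∈ s, (t.1.1 i).natDegree = d + 1 ∧ ∀ j, j ≠ i → (t.1.1 j).natDegree = 0) :
    ∑ t ∈ s, tgcd t.1 ≤
      min ((i : ℕ) + 1) (Fintype.card F - 1) * (min ((i : ℕ) + 1) (Fintype.card F - 1) * Fintype.card F ^ d) := by
  refine (Finset.sum_le_card_nsmul _ _ (min ((i : ℕ) + 1) (Fintype.card F - 1)) fun t ht =>
    le_min (tgcd_le_index _ (by rw [(hs t ht).1]; omega)) (tgcd_le_card_sub_one _)).trans ?_
  rw [smul_eq_mul, mul_comm]
  refine Nat.mul_le_mul_left _ ((le_of_eq (Nat.card_eq_finsetCard s).symm).trans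
    ((Nat.card_le_card_of_injective (fun t : s => (⟨t.1.1.1 i, (t.1.1.2.1 i).1, (hs t.1 t.2).1, by
        rw [← tdet_eq_single t.1.1 i (hs t.1 t.2).2]; exact t.1.2.1⟩ : RootPoly F d ((i : ℕ) + 1))) ?_).trans
      (card_rootPoly_le d _)))
  intro t t' h
  refine Subtype.ext (Subtype.ext (Subtype.ext (funext fun j => ?_)))
  by_cases hj : j = i
  · subst hj; exact congrArg Subtype.val h
  · rw [eq_one_of_deg t.1.1 ((hs t.1 t.2).2 j hj), eq_one_of_deg t'.1.1 ((hs t'.1 t'.2).2 j hj)]

theorem card_classes_SL_two :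
    Nat.card (ConjClasses (Matrix.SpecialLinearGroup (Fin 2) F)) ≤ Fintype.card F + 4 := by
  classical
  have : Fintype (Tup F (1 + 1) (1 + 1)) := Fintype.ofFinite _
  have : Fintype (TailTup F 1 (1 + 1)) := Fintype.ofFinite _
  refine (card_classes_SL_split 1).trans (Nat.add_le_add ((card_headTup_le 1 _).trans ?_) ?_)
  · simp [Finset.sum_range_succ, twCount, cnt]
  · refine (sum_single_le (n := 1 + 1) (1 : Fin 2) 0 Finset.univ fun t _ => ?_).trans ?_
    · have h := t.1.2.2
      have h0 : (t.1.1 0).natDegree = 0 := t.2.2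
      rw [Fin.sum_univ_two] at h
      simp only [Fin.val_zero, Fin.val_one] at h
      refine ⟨by omega, fun j hj => ?_⟩
      fin_cases j
      · exact h0
      · exact absurd rfl hj
    · rw [pow_zero, mul_one]
      exact Nat.mul_le_mul (min_le_left _ _) (min_le_left _ _)

theorem card_classes_SL_three :
    Nat.card (ConjClasses (Matrix.SpecialLinearGroup (Fin 3) F)) ≤
      Fintype.card F ^ 2 + (Fintype.card F - 1) + min 3 (Fintype.card F - 1) * min 3 (Fintype.card F - 1) := by
  classical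
  have : Fintype (Tup F (2 + 1) (2 + 1)) := Fintype.ofFinite _
  have : Fintype (TailTup F 2 (2 + 1)) := Fintype.ofFinite _
  refine (card_classes_SL_split 2).trans (Nat.add_le_add ((card_headTup_le 2 _).trans ?_) ?_)
  · simp [Finset.sum_range_succ, twCount, cnt]
    omega
  · refine (sum_single_le (n := 2 + 1) (2 : Fin 3) 0 Finset.univ fun t _ => ?_).trans (le_of_eq ?_)
    · have h := t.1.2.2
      have h0 : (t.1.1 0).natDegree = 0 := t.2.2
      rw [Fin.sum_univ_three] at h
      simp only [Fin.val_zero, Fin.val_one, Fin.val_two] at h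
      refine ⟨by omega, fun j hj => ?_⟩
      fin_cases j
      · exact h0
      · show (t.1.1 1).natDegree = 0
        omega
      · exact absurd rfl hj
    · simp

theorem card_classes_SL_four :
    Nat.card (ConjClasses (Matrix.SpecialLinearGroup (Fin 4) F)) ≤
      Fintype.card F ^ 3 + (Fintype.card F - 1) * Fintype.card F + (Fintype.card F - 1) +
        (4 * Fintype.card F + min 4 (Fintype.card F - 1) * min 4 (Fintype.card F - 1)) := by
  classical
  have : Fintype (Tup F (3 + 1) (3 + 1)) := Fintype.ofFinite _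
  have : Fintype (TailTup F 3 (3 + 1)) := Fintype.ofFinite _
  refine (card_classes_SL_split 3).trans (Nat.add_le_add ((card_headTup_le 3 _).trans ?_) ?_)
  · simp [Finset.sum_range_succ, twCount, cnt]
    nlinarith
  · rw [← Finset.sum_filter_add_sum_filter_not _ (fun t : TailTup F 3 (3 + 1) => 0 < (t.1.1 1).natDegree)]
    have hdeg : ∀ t : TailTup F 3 (3 + 1),
        2 * (t.1.1 1).natDegree + 3 * (t.1.1 2).natDegree + 4 * (t.1.1 3).natDegree = 4 := by
      intro t
      have h := t.1.2.2
      have h0 : (t.1.1 0).natDegree = 0 := t.2.2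
      rw [Fin.sum_univ_four] at h
      simp only [Fin.val_zero, Fin.val_one, Fin.val_two, show ((3 : Fin (3 + 1)) : ℕ) = 3 from rfl, h0] at h
      omega
    refine Nat.add_le_add ((sum_single_le (n := 3 + 1) (1 : Fin 4) 1 _ fun t ht => ?_).trans ?_)
      ((sum_single_le (n := 3 + 1) (3 : Fin 4) 0 _ fun t ht => ?_).trans (le_of_eq ?_))
    · have h1 := (Finset.mem_filter.1 ht).2
      have h2 := hdeg t
      refine ⟨by omega, fun j hj => ?_⟩
      fin_cases j
      · exact t.2.2
      · exact absurd rfl hj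
      · show (t.1.1 2).natDegree = 0
        omega
      · show (t.1.1 3).natDegree = 0
        omega
    · rw [pow_one, ← mul_assoc]
      exact Nat.mul_le_mul_right _ (Nat.mul_le_mul (min_le_left _ _) (min_le_left _ _))
    · have h1 := (Finset.mem_filter.1 ht).2
      have h2 := hdeg t
      refine ⟨by omega, fun j hj => ?_⟩
      fin_cases j
      · exact t.2.2
      · show (t.1.1 1).natDegree = 0
        omega
      · show (t.1.1 2).natDegree = 0
        omega
      · exact absurd rfl hj
    · simp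

end CfsgLib.GLClass
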