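import Mathlib
import Cfsg.Agent.GLClass.Modules

/-!
Unipotent classes of `GL n` correspond to the partitions of `n`.
-/

set_option autoImplicit false

namespace CfsgLib.GLClass

open Polynomial Module

theorem multiset_eq_of_sums {s t : Multiset ℕ} (hs : ∀ x ∈ s, 0 < x) (ht : ∀ x ∈ t, 0 < x)
    (h : ∀ k, (s.map fun x => x - k).sum = (t.map fun x => x - k).sum) : s = t := by
  have hrec : ∀ (u : Multiset ℕ) (k : ℕ), (u.map fun x => x - k).sum =
      (u.map fun x => x - (k + 1)).sum + u.countP (fun x => k < x) := by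
    intro u k
    induction u using Multiset.induction_on with
    | empty => simp
    | cons a u ih =>
      simp only [Multiset.map_cons, Multiset.sum_cons, Multiset.countP_cons]
      split <;> omega
  have hcnt : ∀ (u : Multiset ℕ) (k : ℕ),
      u.countP (fun x => k < x) = u.count (k + 1) + u.countP (fun x => k + 1 < x) := by
    intro u k
    induction u using Multiset.induction_on with
    | empty => simp
    | cons a u ih =>
      simp only [Multiset.count_cons, Multiset.countP_cons]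
      split_ifs <;> omega
  ext x
  rcases x with _ | x
  · rw [Multiset.count_eq_zero.2 fun h0 => (hs 0 h0).false, Multiset.count_eq_zero.2 fun h0 => (ht 0 h0).false]
  · have e1 := hrec s x; have e2 := hrec t x; have e3 := hrec s (x + 1); have e4 := hrec t (x + 1)
    have e5 := hcnt s x; have e6 := hcnt t x
    have f1 := h x; have f2 := h (x + 1); have f3 := h (x + 1 + 1)
    omega

variable {F : Type*} [Field F]

theorem natCard_quotient {f : F[X]} (hf : f ≠ 0) :
    Nat.card (F[X] ⧸ Submodule.span F[X] {f}) = Nat.card F ^ f.natDegree := by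
  haveI : Module.Finite F (F[X] ⧸ Submodule.span F[X] {f}) := (AdjoinRoot.powerBasis hf).finite
  rw [Module.natCard_eq_pow_finrank (K := F)]
  congr 1
  exact finrank_quotient_span_eq_natDegree

theorem card_smul_image {a : F[X]} (ha : a ≠ 0) (l k : ℕ) :
    Nat.card (Set.range fun x : F[X] ⧸ Submodule.span F[X] {a ^ l} => a ^ k • x) =
      Nat.card F ^ ((l - k) * a.natDegree) := by
  let f : F[X] →ₗ[F[X]] F[X] ⧸ Submodule.span F[X] {a ^ l} :=
    (Submodule.mkQ _).comp (LinearMap.lsmul F[X] F[X] (a ^ k))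
  have hset : (LinearMap.range f : Set (F[X] ⧸ Submodule.span F[X] {a ^ l})) =
      Set.range fun x : F[X] ⧸ Submodule.span F[X] {a ^ l} => a ^ k • x := by
    ext x
    simp only [SetLike.mem_coe, LinearMap.mem_range, Set.mem_range]
    constructor
    · rintro ⟨y, rfl⟩; exact ⟨Submodule.Quotient.mk y, rfl⟩
    · rintro ⟨y, rfl⟩
      obtain ⟨y, rfl⟩ := Submodule.Quotient.mk_surjective _ y
      exact ⟨y, rfl⟩
  have hker : LinearMap.ker f = Submodule.span F[X] {a ^ (l - k)} := by
    ext y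
    rw [LinearMap.mem_ker, LinearMap.comp_apply, Submodule.mkQ_apply, Submodule.Quotient.mk_eq_zero,
      LinearMap.lsmul_apply, smul_eq_mul]
    show a ^ k * y ∈ Ideal.span {a ^ l} ↔ y ∈ Ideal.span {a ^ (l - k)}
    rw [Ideal.mem_span_singleton, Ideal.mem_span_singleton]
    rcases le_total l k with hlk | hlk
    · rw [Nat.sub_eq_zero_of_le hlk, pow_zero]
      exact ⟨fun _ => one_dvd _, fun _ => (pow_dvd_pow a hlk).trans (dvd_mul_right _ _)⟩
    · conv_lhs => rw [show a ^ l = a ^ k * a ^ (l - k) by rw [← pow_add, Nat.add_sub_cancel' hlk]]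
      exact mul_dvd_mul_iff_left (pow_ne_zero _ ha)
  rw [← Nat.card_congr (Equiv.setCongr hset), SetLike.coe_sort_coe,
    ← Nat.card_congr (f.quotKerEquivRange).toEquiv,
    Nat.card_congr (Submodule.quotEquivOfEq _ _ hker).toEquiv, natCard_quotient (pow_ne_zero _ ha),
    natDegree_pow]

theorem card_smul_image_model {ι : Type*} [Fintype ι] {a : F[X]} (ha : a ≠ 0) (e : ι → ℕ) (k : ℕ) :
    Nat.card (Set.range fun x : Model (fun _ : ι => a) e => a ^ k • x) =
      Nat.card F ^ (∑ i, (e i - k) * a.natDegree) := by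
  rw [← Finset.prod_pow_eq_pow_sum, ← Finset.prod_congr rfl fun i _ => card_smul_image ha (e i) k, ← Nat.card_pi]
  refine Nat.card_congr
    { toFun := fun x i => ⟨x.1 i, by obtain ⟨y, hy⟩ := x.2; exact ⟨y i, congrFun hy i⟩⟩
      invFun := fun x => ⟨fun i => (x i).1, ⟨fun i => (x i).2.choose, funext fun i => (x i).2.choose_spec⟩⟩
      left_inv := fun _ => rfl
      right_inv := fun _ => rfl }

theorem model_exponents_eq [Finite F] {ι κ : Type*} [Fintype ι] [Fintype κ] {a : F[X]} (ha : a.natDegree = 1)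
    {e : ι → ℕ} {e' : κ → ℕ} (he : ∀ i, 0 < e i) (he' : ∀ i, 0 < e' i)
    (φ : Model (fun _ : ι => a) e ≃ₗ[F[X]] Model (fun _ : κ => a) e') :
    Finset.univ.val.map e = Finset.univ.val.map e' := by
  have h0 : a ≠ 0 := fun h => by rw [h, natDegree_zero] at ha; omega
  refine multiset_eq_of_sums (fun x hx => ?_) (fun x hx => ?_) fun k => ?_
  · obtain ⟨i, -, rfl⟩ := Multiset.mem_map.1 hx; exact he i
  · obtain ⟨i, -, rfl⟩ := Multiset.mem_map.1 hx; exact he' i
  · have h1 : φ.toEquiv '' (Set.range fun x : Model (fun _ : ι => a) e => a ^ k • x) =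
        Set.range fun x : Model (fun _ : κ => a) e' => a ^ k • x := by
      ext y
      constructor
      · rintro ⟨_, ⟨x, rfl⟩, rfl⟩; exact ⟨φ x, (map_smul φ _ x).symm⟩
      · rintro ⟨z, rfl⟩
        exact ⟨_, ⟨φ.symm z, rfl⟩, (map_smul φ _ _).trans (by rw [φ.apply_symm_apply])⟩
    have h2 := Nat.card_congr ((φ.toEquiv.image _).trans (Equiv.setCongr h1))
    rw [card_smul_image_model h0, card_smul_image_model h0] at h2
    have h3 := Nat.pow_right_injective (Finite.one_lt_card (α := F)) h2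
    rw [ha] at h3
    simp only [mul_one] at h3
    rw [Multiset.map_map, Multiset.map_map]
    exact h3

variable {n : ℕ}

theorem sub_one_pow_iff (p : ℕ) [Fact p.Prime] [CharP F p] (g : GL (Fin n) F) :
    (∃ k : ℕ, orderOf g = p ^ k) ↔ ((g : Matrix (Fin n) (Fin n) F) - 1) ^ n = 0 := by
  rcases Nat.eq_zero_or_pos n with rfl | hn
  · exact ⟨fun _ => Subsingleton.elim _ _, fun _ => ⟨0, by rw [pow_zero, orderOf_eq_one_iff]; exact Subsingleton.elim _ _⟩⟩
  haveI : Nonempty (Fin n) := ⟨⟨0, hn⟩⟩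
  constructor
  · rintro ⟨k, hk⟩
    have hnil : IsNilpotent ((g : Matrix (Fin n) (Fin n) F) - 1) :=
      ⟨p ^ k, by rw [sub_pow_char_pow_of_commute p _ (Commute.one_right _), one_pow, ← hk,
        ← Units.val_pow_eq_pow_val, pow_orderOf_eq_one, Units.val_one, sub_self]⟩
    have h1 := Matrix.aeval_self_charpoly ((g : Matrix (Fin n) (Fin n) F) - 1)
    rw [sub_eq_zero.1 (Matrix.isNilpotent_charpoly_sub_pow_of_isNilpotent hnil).eq_zero, Fintype.card_fin] at h1
    simpa using h1
  · intro h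
    have hp : p.Prime := Fact.out
    have h1 : g ^ p ^ n = 1 := by
      apply Units.ext
      rw [Units.val_pow_eq_pow_val, Units.val_one, ← sub_eq_zero]
      have h2 := sub_pow_char_pow_of_commute p n (Commute.one_right (g : Matrix (Fin n) (Fin n) F))
      rw [one_pow] at h2
      rw [← h2, ← Nat.add_sub_cancel' (Nat.le_of_lt (Nat.lt_pow_self hp.one_lt) : n ≤ p ^ n), pow_add, h, zero_mul]
    obtain ⟨k, -, hk⟩ := (Nat.dvd_prime_pow hp).1 (orderOf_dvd_of_pow_eq_one h1)
    exact ⟨k, hk⟩

theorem aeval_sub_one (A : Matrix (Fin n) (Fin n) F) :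
    aeval A ((X - C (1 : F)) ^ n) = (A - 1) ^ n := by simp

theorem elemDiv_unipotent {A : Matrix (Fin n) (Fin n) F} (hA : (A - 1) ^ n = 0) {x : F[X] × ℕ}
    (hx : x ∈ elemDiv A) : x.1 = X - C 1 := by
  have h1 := pow_dvd_of_aeval ((aeval_sub_one A).trans hA) hx
  have h2 := elemDiv_spec A hx
  have h3 : x.1 ∣ X - C 1 := h2.2.1.prime.dvd_of_dvd_pow ((dvd_pow_self _ h2.2.2.ne').trans h1)
  exact eq_of_monic_of_associated h2.1 (monic_X_sub_C 1) (h2.2.1.associated_of_dvd (irreducible_X_sub_C 1) h3)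

/-- The partition of a unipotent matrix. -/
noncomputable def partOf {A : Matrix (Fin n) (Fin n) F} (hA : (A - 1) ^ n = 0) : Nat.Partition n where
  parts := (elemDiv A).map Prod.snd
  parts_pos {i} hi := by
    obtain ⟨x, hx, rfl⟩ := Multiset.mem_map.1 hi
    exact (elemDiv_spec A hx).2.2
  parts_sum := by
    conv_rhs => rw [← sum_elemDiv A]
    exact congrArg _ (Multiset.map_congr rfl fun x hx => by
      rw [elemDiv_unipotent hA hx, natDegree_X_sub_C, mul_one])

theorem elemDiv_eq_partOf {A : Matrix (Fin n) (Fin n) F} (hA : (A - 1) ^ n = 0) :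
    elemDiv A = (partOf hA).parts.map fun l => (X - C 1, l) := by
  show elemDiv A = Multiset.map _ ((elemDiv A).map Prod.snd)
  rw [Multiset.map_map]
  refine ((Multiset.map_congr rfl fun x hx => ?_).trans (Multiset.map_id _)).symm
  exact Prod.ext (elemDiv_unipotent hA hx).symm rfl

theorem exists_unipotent [Finite F] (lam : Nat.Partition n) :
    ∃ (g : GL (Fin n) F) (h : ((g : Matrix (Fin n) (Fin n) F) - 1) ^ n = 0), partOf h = lam := by
  classical
  obtain ⟨L, hL⟩ : ∃ L : List ℕ, (L : Multiset ℕ) = lam.parts := Quot.exists_rep lam.parts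
  let e : Fin L.length → ℕ := L.get
  have hparts : Finset.univ.val.map e = lam.parts := by
    rw [← hL, Fin.univ_val_map, List.ofFn_get]
  have hpos : ∀ i, 0 < e i := fun i => lam.parts_pos (by
    rw [← hparts]; exact Multiset.mem_map_of_mem _ (Finset.mem_univ i))
  have hsum : ∑ i, e i = n := by rw [← lam.parts_sum, ← hparts]; rfl
  let a : F[X] := X - C 1
  let M := Model (fun _ : Fin L.length => a) e
  have ha : a ≠ 0 := X_sub_C_ne_zero 1
  haveI : ∀ i, FiniteDimensional F (F[X] ⧸ Submodule.span F[X] {a ^ e i}) := fun i =>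
    (AdjoinRoot.powerBasis (pow_ne_zero (e i) ha)).finite
  have hdim : Module.finrank F M = n := by
    rw [finrank_model _ _ fun _ => ha]
    simp only [a, natDegree_X_sub_C, mul_one]
    exact hsum
  let b : Module.Basis (Fin n) F M := Module.finBasisOfFinrankEq F M hdim
  let mX : M →ₗ[F] M := (LinearMap.lsmul F[X] M X).restrictScalars F
  let A : Matrix (Fin n) (Fin n) F := LinearMap.toMatrix b b mX
  let f : (Fin n → F) ≃ₗ[F] M := b.equivFun.symm
  have hf : ∀ v, f (Matrix.toLin' A v) = (X : F[X]) • f v := by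
    intro v
    have h1 : Matrix.toLin' A v = b.equivFun (mX (f v)) := by
      have h0 : b.repr (f v) = Finsupp.equivFunOnFinite.symm v := by
        ext j
        rw [← Module.Basis.equivFun_apply, b.equivFun.apply_symm_apply]
        rfl
      rw [Matrix.toLin'_apply, Module.Basis.equivFun_apply, ← LinearMap.toMatrix_mulVec_repr b b mX (f v), h0]
      rfl
    rw [h1]
    exact b.equivFun.symm_apply_apply _
  let φ : AEval' (Matrix.toLin' A) ≃ₗ[F[X]] M := LinearEquiv.ofAEval (Matrix.toLin' A) f hf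
  have hker : (A - 1) ^ n = 0 := by
    have h1 : ∀ x : M, (a ^ n) • x = 0 := fun x => funext fun i => by
      obtain ⟨y, hy⟩ := Submodule.Quotient.mk_surjective _ (x i)
      rw [Pi.smul_apply, Pi.zero_apply, ← hy, ← Submodule.Quotient.mk_smul, Submodule.Quotient.mk_eq_zero]
      refine Ideal.mem_span_singleton.2 ((pow_dvd_pow a ?_).trans (dvd_mul_right _ _))
      rw [← hsum]
      exact Finset.single_le_sum (fun j _ => Nat.zero_le (e j)) (Finset.mem_univ i)
    rw [← aeval_sub_one]
    apply Matrix.toLin'.injective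
    rw [map_zero, ← aeval_toLin']
    refine LinearMap.ext fun v => ?_
    have h2 : a ^ n • AEval'.of (Matrix.toLin' A) v = 0 := φ.injective (by rw [map_smul, h1, map_zero])
    rw [← Module.AEval.of_aeval_smul, LinearEquiv.map_eq_zero_iff] at h2
    exact h2
  have hu : IsUnit A := by
    have h1 := IsNilpotent.isUnit_one_add (r := A - 1) ⟨n, hker⟩
    rwa [add_sub_cancel] at h1
  refine ⟨hu.unit, hker, ?_⟩
  obtain ⟨N, p, e', hd, hpe, ⟨ψ⟩⟩ := exists_data_eq A
  have hp : p = fun _ => a := funext fun i =>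
    elemDiv_unipotent hker (x := (p i, e' i)) (by rw [hd]; exact Multiset.mem_map_of_mem _ (Finset.mem_univ i))
  subst hp
  apply Nat.Partition.ext
  show (elemDiv A).map Prod.snd = lam.parts
  rw [hd, Multiset.map_map, ← hparts]
  exact model_exponents_eq (natDegree_X_sub_C 1) (fun i => (hpe i).2.2) hpos (ψ.symm.trans φ)

theorem card_unipotent_classes [Finite F] (p : ℕ) [Fact p.Prime] [CharP F p] :
    Nat.card {C : ConjClasses (GL (Fin n) F) //
      ∃ g : GL (Fin n) F, (∃ k : ℕ, orderOf g = p ^ k) ∧ ConjClasses.mk g = C} = Nat.card (Nat.Partition n) := by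
  have key : ∀ {g h : GL (Fin n) F} (hg : ((g : Matrix (Fin n) (Fin n) F) - 1) ^ n = 0)
      (hh : ((h : Matrix (Fin n) (Fin n) F) - 1) ^ n = 0), partOf hg = partOf hh → IsConj g h :=
    fun {g h} hg hh he => isConj_of_elemDiv_eq (by rw [elemDiv_eq_partOf hg, elemDiv_eq_partOf hh, he])
  choose g hg hgl using fun lam : Nat.Partition n => exists_unipotent (F := F) lam
  have inv : ∀ {g h : GL (Fin n) F} (hg : ((g : Matrix (Fin n) (Fin n) F) - 1) ^ n = 0)
      (hh : ((h : Matrix (Fin n) (Fin n) F) - 1) ^ n = 0), IsConj g h → partOf hg = partOf hh := by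
    intro g h hg hh hc
    obtain ⟨N, p1, e1, hd1, hpe1, ⟨ψ1⟩⟩ := exists_data_eq (g : Matrix (Fin n) (Fin n) F)
    obtain ⟨N', p2, e2, hd2, hpe2, ⟨ψ2⟩⟩ := exists_data_eq (h : Matrix (Fin n) (Fin n) F)
    have hp1 : p1 = fun _ => X - C 1 := funext fun i =>
      elemDiv_unipotent hg (x := (p1 i, e1 i)) (by rw [hd1]; exact Multiset.mem_map_of_mem _ (Finset.mem_univ i))
    have hp2 : p2 = fun _ => X - C 1 := funext fun i =>
      elemDiv_unipotent hh (x := (p2 i, e2 i)) (by rw [hd2]; exact Multiset.mem_map_of_mem _ (Finset.mem_univ i))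
    subst hp1 hp2
    obtain ⟨x, hx⟩ := isConj_iff.1 hc
    have hx' : (x : Matrix (Fin n) (Fin n) F) * g = h * x := by
      rw [← Units.val_mul, ← Units.val_mul, mul_inv_eq_iff_eq_mul.1 hx]
    let f : (Fin n → F) ≃ₗ[F] (Fin n → F) :=
      LinearEquiv.ofBijective (Matrix.toLin' (x : Matrix (Fin n) (Fin n) F)) (by
        rw [Matrix.toLin'_apply']
        exact ⟨Matrix.mulVec_injective_iff_isUnit.2 x.isUnit, Matrix.mulVec_surjective_iff_isUnit.2 x.isUnit⟩)
    let φ : AEval' (Matrix.toLin' (g : Matrix (Fin n) (Fin n) F)) ≃ₗ[F[X]]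
        AEval' (Matrix.toLin' (h : Matrix (Fin n) (Fin n) F)) :=
      LinearEquiv.ofAEval (Matrix.toLin' (g : Matrix (Fin n) (Fin n) F)) (f.trans (AEval'.of _)) fun v => by
        show AEval'.of _ (Matrix.toLin' (x : Matrix (Fin n) (Fin n) F) (Matrix.toLin' (g : Matrix (Fin n) (Fin n) F) v)) = _
        rw [← LinearMap.comp_apply, ← Matrix.toLin'_mul, hx', Matrix.toLin'_mul, LinearMap.comp_apply,
          ← AEval'.X_smul_of]
        rfl
    apply Nat.Partition.ext
    show (elemDiv _).map Prod.snd = (elemDiv _).map Prod.snd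
    rw [hd1, hd2, Multiset.map_map, Multiset.map_map]
    exact model_exponents_eq (natDegree_X_sub_C 1) (fun i => (hpe1 i).2.2) (fun i => (hpe2 i).2.2)
      ((ψ1.symm.trans φ).trans ψ2)
  refine (Nat.card_eq_of_bijective (fun lam => ⟨ConjClasses.mk (g lam), g lam, (sub_one_pow_iff p _).2 (hg lam), rfl⟩)
    ⟨fun a b hab => ?_, fun C => ?_⟩).symm
  · rw [← hgl a, ← hgl b]
    exact inv (hg a) (hg b) (ConjClasses.mk_eq_mk_iff_isConj.1 (congrArg Subtype.val hab))
  · obtain ⟨h, hh, hC⟩ := C.2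
    have hh' := (sub_one_pow_iff p h).1 hh
    refine ⟨partOf hh', Subtype.ext ?_⟩
    rw [← hC, ConjClasses.mk_eq_mk_iff_isConj]
    exact key (hg _) hh' (hgl _)

end CfsgLib.GLClass
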