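import Mathlib
import Cfsg.Agent.GLClass.Classes
import Cfsg.Agent.GLClass.Unipotent

/-!
The elementary divisors of a matrix over a finite field are unique; their behaviour under
scalar multiples and conjugation.
-/

set_option autoImplicit false

namespace CfsgLib.GLClass

open Polynomial

variable {F : Type*} [Field F]

open scoped Classical in
/-- The logarithm of the size of the image of multiplication by `a ^ k` on a model. -/
noncomputable def imgDim (D : Multiset (F[X] × ℕ)) (a : F[X]) (k : ℕ) : ℕ :=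
  (D.map fun x => if x.1 = a then (x.2 - k) * a.natDegree else x.2 * x.1.natDegree).sum

theorem card_smul_image_coprime {a f : F[X]} (hf : f ≠ 0) (h : IsCoprime a f) :
    Nat.card (Set.range fun x : F[X] ⧸ Submodule.span F[X] {f} => a • x) = Nat.card F ^ f.natDegree := by
  have hsurj : Function.Surjective fun x : F[X] ⧸ Submodule.span F[X] {f} => a • x := by
    intro y
    obtain ⟨y, rfl⟩ := Submodule.Quotient.mk_surjective _ y
    obtain ⟨u, v, huv⟩ := h
    refine ⟨Submodule.Quotient.mk (u * y), ?_⟩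
    show (Submodule.Quotient.mk (a • (u * y)) : F[X] ⧸ Submodule.span F[X] {f}) = _
    rw [Submodule.Quotient.eq]
    refine Ideal.mem_span_singleton.2 ⟨-(v * y), ?_⟩
    rw [smul_eq_mul]
    linear_combination y * huv
  rw [hsurj.range_eq, Nat.card_congr (Equiv.Set.univ _), natCard_quotient hf]

theorem card_img_model {N : ℕ} {p : Fin N → F[X]} {e : Fin N → ℕ}
    (h : ∀ i, (p i).Monic ∧ Irreducible (p i) ∧ 0 < e i) {a : F[X]} (ha : a.Monic) (hai : Irreducible a) (k : ℕ) :
    Nat.card (Set.range fun x : Model p e => a ^ k • x) =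
      Nat.card F ^ imgDim (Finset.univ.val.map fun i => (p i, e i)) a k := by
  classical
  rw [imgDim, Multiset.map_map]
  show _ = Nat.card F ^ ∑ i : Fin N, if p i = a then (e i - k) * a.natDegree else e i * (p i).natDegree
  rw [← Finset.prod_pow_eq_pow_sum]
  have hcomp : ∀ i, Nat.card (Set.range fun x : F[X] ⧸ Submodule.span F[X] {p i ^ e i} => a ^ k • x) =
      Nat.card F ^ (if p i = a then (e i - k) * a.natDegree else e i * (p i).natDegree) := by
    intro i
    by_cases hi : p i = a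
    · subst hi
      rw [if_pos rfl]
      exact card_smul_image hai.ne_zero _ _
    · rw [if_neg hi, ← natDegree_pow]
      refine card_smul_image_coprime (pow_ne_zero _ (h i).1.ne_zero) (IsCoprime.pow ?_)
      exact hai.coprime_iff_not_dvd.2 fun hd =>
        hi (eq_of_monic_of_associated (h i).1 ha (hai.associated_of_dvd (h i).2.1 hd).symm)
  rw [← Finset.prod_congr rfl fun i _ => hcomp i, ← Nat.card_pi]
  exact Nat.card_congr
    { toFun := fun x i => ⟨x.1 i, by obtain ⟨y, hy⟩ := x.2; exact ⟨y i, congrFun hy i⟩⟩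
      invFun := fun x => ⟨fun i => (x i).1, ⟨fun i => (x i).2.choose, funext fun i => (x i).2.choose_spec⟩⟩
      left_inv := fun _ => rfl
      right_inv := fun _ => rfl }

theorem eq_of_imgDim_eq {D D' : Multiset (F[X] × ℕ)} (h : ∀ x ∈ D, x.1.Monic ∧ Irreducible x.1 ∧ 0 < x.2)
    (h' : ∀ x ∈ D', x.1.Monic ∧ Irreducible x.1 ∧ 0 < x.2)
    (he : ∀ a : F[X], a.Monic → Irreducible a → ∀ k, imgDim D a k = imgDim D' a k) : D = D' := by
  classical
  suffices hs : ∀ a : F[X], a.Monic → Irreducible a →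
      ((D.filter fun x => x.1 = a).map Prod.snd) = (D'.filter fun x => x.1 = a).map Prod.snd by
    have hrec : ∀ (E : Multiset (F[X] × ℕ)) (a : F[X]),
        ((E.filter fun x => x.1 = a).map Prod.snd).map (fun m => (a, m)) = E.filter fun x => x.1 = a := by
      intro E a
      rw [Multiset.map_map]
      refine (Multiset.map_congr rfl fun y hy => ?_).trans (Multiset.map_id _)
      exact Prod.ext (Multiset.mem_filter.1 hy).2.symm rfl
    ext x
    by_cases hx : x ∈ D + D'
    · have hxa : x.1.Monic ∧ Irreducible x.1 := by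
        rcases Multiset.mem_add.1 hx with h1 | h1
        · exact ⟨(h x h1).1, (h x h1).2.1⟩
        · exact ⟨(h' x h1).1, (h' x h1).2.1⟩
      have h1 : (D.filter fun y => y.1 = x.1) = D'.filter fun y => y.1 = x.1 := by
        rw [← hrec D, ← hrec D', hs _ hxa.1 hxa.2]
      simpa [Multiset.count_filter] using congrArg (Multiset.count x) h1
    · rw [Multiset.mem_add, not_or] at hx
      rw [Multiset.count_eq_zero.2 hx.1, Multiset.count_eq_zero.2 hx.2]
  intro a ha hai
  let c : Multiset (F[X] × ℕ) → ℕ := fun E => ((E.filter fun x => ¬ x.1 = a).map fun x => x.2 * x.1.natDegree).sum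
  let s : Multiset (F[X] × ℕ) → ℕ → ℕ := fun E k =>
    (((E.filter fun x => x.1 = a).map Prod.snd).map fun m => m - k).sum
  have hsplit : ∀ (E : Multiset (F[X] × ℕ)) (k : ℕ), imgDim E a k = s E k * a.natDegree + c E := by
    intro E k
    induction E using Multiset.induction_on with
    | empty => simp [imgDim, s, c]
    | cons y E ih =>
      simp only [imgDim, s, c, Multiset.map_cons, Multiset.sum_cons, Multiset.filter_cons] at ih ⊢
      by_cases hy : y.1 = a <;> simp [hy, ih] <;> ring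
  have hzero : ∀ (E : Multiset (F[X] × ℕ)) (K : ℕ), (∀ x ∈ E, x.2 ≤ K) → s E K = 0 := by
    intro E K hK
    refine Multiset.sum_eq_zero fun z hz => ?_
    obtain ⟨m, hm, rfl⟩ := Multiset.mem_map.1 hz
    obtain ⟨x, hx, rfl⟩ := Multiset.mem_map.1 hm
    exact Nat.sub_eq_zero_of_le (hK x (Multiset.mem_of_mem_filter hx))
  have hle : ∀ x ∈ D + D', x.2 ≤ ((D + D').map Prod.snd).sum := fun x hx =>
    Multiset.le_sum_of_mem (Multiset.mem_map_of_mem _ hx)
  have hc : c D = c D' := by
    have := he a ha hai ((D + D').map Prod.snd).sum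
    rw [hsplit, hsplit, hzero D _ fun x hx => hle x (Multiset.mem_add.2 (Or.inl hx)),
      hzero D' _ fun x hx => hle x (Multiset.mem_add.2 (Or.inr hx))] at this
    omega
  refine multiset_eq_of_sums (fun z hz => ?_) (fun z hz => ?_) fun k => ?_
  · obtain ⟨x, hx, rfl⟩ := Multiset.mem_map.1 hz; exact (h x (Multiset.mem_of_mem_filter hx)).2.2
  · obtain ⟨x, hx, rfl⟩ := Multiset.mem_map.1 hz; exact (h' x (Multiset.mem_of_mem_filter hx)).2.2
  · have := he a ha hai k
    rw [hsplit, hsplit, hc, Nat.add_right_cancel_iff] at this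
    exact Nat.eq_of_mul_eq_mul_right hai.natDegree_pos this

variable [Finite F] {n : ℕ}

theorem elemDiv_eq_of_equiv {A : Matrix (Fin n) (Fin n) F} {N : ℕ} {p : Fin N → F[X]} {e : Fin N → ℕ}
    (h : ∀ i, (p i).Monic ∧ Irreducible (p i) ∧ 0 < e i)
    (φ : Module.AEval' (Matrix.toLin' A) ≃ₗ[F[X]] Model p e) :
    elemDiv A = Finset.univ.val.map fun i => (p i, e i) := by
  classical
  obtain ⟨N', p', e', hd, h', ⟨φ'⟩⟩ := exists_data_eq A
  rw [hd]
  refine eq_of_imgDim_eq (fun x hx => ?_) (fun x hx => ?_) fun a ha hai k => ?_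
  · obtain ⟨i, -, rfl⟩ := Multiset.mem_map.1 hx; exact h' i
  · obtain ⟨i, -, rfl⟩ := Multiset.mem_map.1 hx; exact h i
  · let ψ := φ'.symm.trans φ
    have h1 : ψ.toEquiv '' (Set.range fun x : Model p' e' => a ^ k • x) =
        Set.range fun x : Model p e => a ^ k • x := by
      ext y
      constructor
      · rintro ⟨_, ⟨x, rfl⟩, rfl⟩; exact ⟨ψ x, (map_smul ψ _ x).symm⟩
      · rintro ⟨z, rfl⟩
        exact ⟨_, ⟨ψ.symm z, rfl⟩, (map_smul ψ _ _).trans (by rw [ψ.apply_symm_apply])⟩
    have h2 := Nat.card_congr ((ψ.toEquiv.image _).trans (Equiv.setCongr h1))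
    rw [card_img_model h' ha hai, card_img_model h ha hai] at h2
    exact Nat.pow_right_injective (Finite.one_lt_card (α := F)) h2

theorem elemDiv_eq_of_conj {A B : Matrix (Fin n) (Fin n) F} (P : GL (Fin n) F)
    (hP : (P : Matrix (Fin n) (Fin n) F) * A = B * (P : Matrix (Fin n) (Fin n) F)) : elemDiv A = elemDiv B := by
  obtain ⟨N, p, e, hd, h, ⟨φ⟩⟩ := exists_data_eq A
  have hinv : (P⁻¹ : GL (Fin n) F).1 * B = A * (P⁻¹ : GL (Fin n) F).1 := by
    rw [← Units.inv_mul_cancel_left P (A * (P⁻¹ : GL (Fin n) F).1), ← mul_assoc (P : Matrix (Fin n) (Fin n) F), hP,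
      mul_assoc B, Units.mul_inv, mul_one]
  let L : (Fin n → F) ≃ₗ[F] (Fin n → F) :=
    LinearEquiv.ofLinear (Matrix.toLin' (P⁻¹ : GL (Fin n) F).1) (Matrix.toLin' (P : Matrix (Fin n) (Fin n) F))
      (by rw [← Matrix.toLin'_mul, Units.inv_mul, Matrix.toLin'_one])
      (by rw [← Matrix.toLin'_mul, Units.mul_inv, Matrix.toLin'_one])
  let ψ : (Fin n → F) ≃ₗ[F] Model p e :=
    (L.trans (Module.AEval'.of (Matrix.toLin' A))).trans (φ.restrictScalars F)
  rw [hd]
  refine (elemDiv_eq_of_equiv h (LinearEquiv.ofAEval (Matrix.toLin' B) ψ fun m => ?_)).symm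
  show φ (Module.AEval'.of (Matrix.toLin' A) (Matrix.toLin' (P⁻¹ : GL (Fin n) F).1 (Matrix.toLin' B m))) =
    (X : F[X]) • φ (Module.AEval'.of (Matrix.toLin' A) (Matrix.toLin' (P⁻¹ : GL (Fin n) F).1 m))
  rw [← map_smul, Module.AEval'.X_smul_of, ← LinearMap.comp_apply, ← Matrix.toLin'_mul, hinv, Matrix.toLin'_mul,
    LinearMap.comp_apply]

theorem elemDiv_eq_of_isConj {g h : GL (Fin n) F} (hc : IsConj g h) :
    elemDiv (g : Matrix (Fin n) (Fin n) F) = elemDiv (h : Matrix (Fin n) (Fin n) F) := by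
  obtain ⟨x, hx⟩ := isConj_iff.1 hc
  refine elemDiv_eq_of_conj x ?_
  rw [← hx, ← Units.val_mul, ← Units.val_mul, inv_mul_cancel_right]

omit [Finite F] in
theorem scaleRoots_eq_C_mul_comp (p : F[X]) (w : Fˣ) :
    p.scaleRoots (w : F) = C ((w : F) ^ p.natDegree) * p.comp (C ((w⁻¹ : Fˣ) : F) * X) := by
  ext i
  rw [coeff_scaleRoots, coeff_C_mul, comp_C_mul_X_coeff]
  by_cases hi : i ≤ p.natDegree
  · obtain ⟨j, hj⟩ : ∃ j, p.natDegree = i + j := ⟨p.natDegree - i, by omega⟩
    rw [hj, Nat.add_sub_cancel_left, pow_add, Units.val_inv_eq_inv_val, inv_pow]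
    field_simp
  · rw [coeff_eq_zero_of_natDegree_lt (not_le.1 hi)]
    simp

omit [Finite F] in
/-- The substitution `X ↦ w⁻¹ X`. -/
noncomputable def scaleAlg (w : Fˣ) : F[X] ≃ₐ[F] F[X] :=
  AlgEquiv.ofAlgHom (aeval (C ((w⁻¹ : Fˣ) : F) * X)) (aeval (C (w : F) * X))
    (algHom_ext (by simp [← mul_assoc, ← C_mul]))
    (algHom_ext (by simp [← mul_assoc, ← C_mul]))

/-- Scalar multiples scale the roots of the elementary divisors. -/
theorem elemDiv_smul (A : Matrix (Fin n) (Fin n) F) (w : Fˣ) :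
    elemDiv ((w : F) • A) = (elemDiv A).map fun x => (x.1.scaleRoots (w : F), x.2) := by
  classical
  obtain ⟨N, p, e, hd, h, ⟨φ⟩⟩ := exists_data_eq A
  rw [hd, Multiset.map_map]
  have hval : ∀ g : F[X], scaleAlg w g = g.comp (C ((w⁻¹ : Fˣ) : F) * X) := fun g => rfl
  have hassoc : ∀ i, Associated ((p i).scaleRoots (w : F)) (scaleAlg w (p i)) := by
    intro i
    rw [hval, scaleRoots_eq_C_mul_comp]
    exact associated_unit_mul_left _ _ (isUnit_C.2 (pow_ne_zero _ w.ne_zero).isUnit)
  have h' : ∀ i, ((p i).scaleRoots (w : F)).Monic ∧ Irreducible ((p i).scaleRoots (w : F)) ∧ 0 < e i := fun i =>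
    ⟨(monic_scaleRoots_iff _).2 (h i).1,
      (hassoc i).symm.irreducible ((MulEquiv.irreducible_iff (scaleAlg w).toMulEquiv).2 (h i).2.1), (h i).2.2⟩
  have hI : ∀ i, Ideal.span {((p i).scaleRoots (w : F)) ^ e i} =
      (Ideal.span {p i ^ e i}).map ((scaleAlg w : F[X] ≃ₐ[F] F[X]) : F[X] →+* F[X]) := by
    intro i
    rw [Ideal.map_span, Set.image_singleton, Ideal.span_singleton_eq_span_singleton]
    show Associated _ (scaleAlg w (p i ^ e i))
    rw [map_pow]
    exact (hassoc i).pow_pow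
  let S : ∀ i, (F[X] ⧸ Submodule.span F[X] {p i ^ e i}) ≃ₗ[F]
      (F[X] ⧸ Submodule.span F[X] {((p i).scaleRoots (w : F)) ^ e i}) := fun i =>
    { toFun := Ideal.quotientEquivAlg (R₁ := F) (Ideal.span {p i ^ e i}) _ (scaleAlg w) (hI i)
      invFun := (Ideal.quotientEquivAlg (R₁ := F) (Ideal.span {p i ^ e i}) _ (scaleAlg w) (hI i)).symm
      left_inv := fun x => AlgEquiv.symm_apply_apply _ x
      right_inv := fun x => AlgEquiv.apply_symm_apply _ x
      map_add' := fun x y => map_add _ x y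
      map_smul' := fun c x => by
        obtain ⟨y, rfl⟩ := Submodule.Quotient.mk_surjective _ x
        show Ideal.Quotient.mk _ (scaleAlg w (c • y)) = c • Ideal.Quotient.mk _ (scaleAlg w y)
        rw [map_smul]
        rfl }
  have hS : ∀ i x, S i ((X : F[X]) • x) = ((w⁻¹ : Fˣ) : F) • ((X : F[X]) • S i x) := by
    intro i x
    obtain ⟨y, rfl⟩ := Submodule.Quotient.mk_surjective _ x
    show Ideal.Quotient.mk _ (scaleAlg w (X * y)) = ((w⁻¹ : Fˣ) : F) • Ideal.Quotient.mk _ (X * scaleAlg w y)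
    rw [map_mul, hval X, X_comp, mul_assoc, C_mul']
    rfl
  let ψ : (Fin n → F) ≃ₗ[F] Model (fun i => (p i).scaleRoots (w : F)) e :=
    ((Module.AEval'.of (Matrix.toLin' A)).trans (φ.restrictScalars F)).trans (LinearEquiv.piCongrRight S)
  refine elemDiv_eq_of_equiv h' (LinearEquiv.ofAEval (Matrix.toLin' ((w : F) • A)) ψ fun m => ?_)
  funext i
  show S i (φ (Module.AEval'.of (Matrix.toLin' A) (Matrix.toLin' ((w : F) • A) m)) i) =
    (X : F[X]) • S i (φ (Module.AEval'.of (Matrix.toLin' A) m) i)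
  have h1 : φ (Module.AEval'.of (Matrix.toLin' A) (Matrix.toLin' ((w : F) • A) m)) =
      (w : F) • ((X : F[X]) • φ (Module.AEval'.of (Matrix.toLin' A) m)) := by
    rw [map_smul (Matrix.toLin' : Matrix (Fin n) (Fin n) F ≃ₗ[F] _), LinearMap.smul_apply, map_smul,
      ← Module.AEval'.X_smul_of]
    exact ((φ.restrictScalars F).map_smul _ _).trans (congrArg ((w : F) • ·) (φ.map_smul _ _))
  rw [h1, Pi.smul_apply, Pi.smul_apply, map_smul, hS, smul_smul, Units.mul_inv, one_smul]

end CfsgLib.GLClass
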