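import Mathlib
import Cfsg.Agent.GLClass.Uniqueness
import Cfsg.Agent.GLClass.SLBound
import Cfsg.Agent.Classical.LinearOrder

/-!
Classes of `PSL n`: the orbit count of the centre on the classes of `SL n`, and a bound on the
classes fixed by a central element.
-/

set_option autoImplicit false

namespace CfsgLib.GLClass

open Polynomial

variable {F : Type*} [Field F]

theorem scaleRoots_mul_unit (f g : F[X]) (hf : f ≠ 0) (hg : g ≠ 0) (w : Fˣ) :
    (f * g).scaleRoots (w : F) = f.scaleRoots (w : F) * g.scaleRoots (w : F) := by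
  rw [scaleRoots_eq_C_mul_comp, scaleRoots_eq_C_mul_comp, scaleRoots_eq_C_mul_comp, natDegree_mul hf hg, pow_add,
    C_mul, mul_comp]
  ring

theorem scaleRoots_one_poly (w : Fˣ) : (1 : F[X]).scaleRoots (w : F) = 1 := by
  rw [scaleRoots_eq_C_mul_comp]; simp

theorem polys_map_scaleRoots (D : Multiset (F[X] × ℕ)) (hD : ∀ x ∈ D, x.1.Monic) (w : Fˣ) (j : ℕ) :
    polys (D.map fun x => (x.1.scaleRoots (w : F), x.2)) j = (polys D j).scaleRoots (w : F) := by
  classical
  induction D using Multiset.induction_on with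
  | empty => simp [polys, scaleRoots_one_poly]
  | cons a D ih =>
    have hD' := fun x hx => hD x (Multiset.mem_cons_of_mem hx)
    have ih' := ih hD'
    have hm : (polys D j).Monic := polys_monic hD' j
    unfold polys at ih' hm ⊢
    rw [Multiset.map_cons]
    by_cases ha : a.2 = j
    · rw [Multiset.filter_cons_of_pos (p := fun x : F[X] × ℕ => x.2 = j)
          (a := (a.1.scaleRoots (w : F), a.2)) _ ha,
        Multiset.filter_cons_of_pos (p := fun x : F[X] × ℕ => x.2 = j) _ ha, Multiset.map_cons,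
        Multiset.map_cons, Multiset.prod_cons, Multiset.prod_cons, ih',
        scaleRoots_mul_unit _ _ (hD a (Multiset.mem_cons_self a D)).ne_zero hm.ne_zero]
    · rw [Multiset.filter_cons_of_neg (p := fun x : F[X] × ℕ => x.2 = j)
          (a := (a.1.scaleRoots (w : F), a.2)) _ ha,
        Multiset.filter_cons_of_neg (p := fun x : F[X] × ℕ => x.2 = j) _ ha, ih']

variable [Finite F] {n : ℕ}

theorem tupOf_smul {g h : GL (Fin n) F} (w : Fˣ)
    (hh : (h : Matrix (Fin n) (Fin n) F) = (w : F) • (g : Matrix (Fin n) (Fin n) F)) (i : Fin n) :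
    (tupOf h).1 i = ((tupOf g).1 i).scaleRoots (w : F) := by
  show polys (elemDiv (h : Matrix (Fin n) (Fin n) F)) _ = _
  rw [hh, elemDiv_smul, polys_map_scaleRoots _ (fun x hx => (elemDiv_spec _ hx).1)]
  rfl

theorem tupOf_eq_of_isConj {g h : GL (Fin n) F} (hc : IsConj g h) : tupOf g = tupOf h := by
  refine Subtype.ext (funext fun i => ?_)
  show polys (elemDiv (g : Matrix (Fin n) (Fin n) F)) _ = polys (elemDiv (h : Matrix (Fin n) (Fin n) F)) _
  rw [elemDiv_eq_of_isConj hc]

/-- The tuples fixed by scaling the roots by `w`. -/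
def TupFixed (w : Fˣ) {J m : ℕ} (t : Tup F J m) : Prop := ∀ i, (t.1 i).scaleRoots (w : F) = t.1 i

omit [Finite F] in
theorem orderOf_dvd_of_coeff {w : Fˣ} {f : F[X]} (hf : f.scaleRoots (w : F) = f) {k : ℕ} (hk : f.coeff k ≠ 0) :
    orderOf w ∣ f.natDegree - k := by
  have h := congrArg (fun p : F[X] => p.coeff k) hf
  simp only [coeff_scaleRoots] at h
  rw [orderOf_dvd_iff_pow_eq_one, Units.ext_iff, Units.val_pow_eq_pow_val, Units.val_one]
  exact mul_left_cancel₀ hk (h.trans (mul_one _).symm)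

omit [Finite F] in
theorem contract_spec {w : Fˣ} {e : ℕ} (he : e = orderOf w) (he0 : 0 < e) {f : F[X]} (hf : f.Monic) (h0 : f.coeff 0 ≠ 0)
    (hfix : f.scaleRoots (w : F) = f) :
    e ∣ f.natDegree ∧ (contract e f).Monic ∧ (contract e f).coeff 0 ≠ 0 ∧
      (contract e f).natDegree * e = f.natDegree := by
  have hdvd : e ∣ f.natDegree := by
    have := orderOf_dvd_of_coeff hfix h0
    rwa [Nat.sub_zero, ← he] at this
  obtain ⟨m, hm⟩ := hdvd
  have hlead : (contract e f).coeff m = 1 := by
    rw [coeff_contract he0.ne', mul_comm, ← hm]; exact hf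
  have hdeg : (contract e f).natDegree = m := by
    refine le_antisymm (natDegree_le_iff_coeff_eq_zero.2 fun k hk => ?_) (le_natDegree_of_ne_zero (by simp [hlead]))
    rw [coeff_contract he0.ne']
    refine coeff_eq_zero_of_natDegree_lt ?_
    rw [hm, mul_comm e]
    exact Nat.mul_lt_mul_of_pos_right hk he0
  refine ⟨⟨m, hm⟩, ?_, ?_, by rw [hdeg, hm, mul_comm]⟩
  · rw [Monic, leadingCoeff, hdeg, hlead]
  · rwa [coeff_contract he0.ne', zero_mul]

omit [Finite F] in
theorem contract_inj {w : Fˣ} {e : ℕ} (he : e = orderOf w) (he0 : 0 < e) {f g : F[X]} (hf0 : f.coeff 0 ≠ 0)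
    (hg0 : g.coeff 0 ≠ 0) (hf : f.scaleRoots (w : F) = f) (hg : g.scaleRoots (w : F) = g)
    (h : contract e f = contract e g) : f = g := by
  have hz : ∀ {p : F[X]}, p.coeff 0 ≠ 0 → p.scaleRoots (w : F) = p → ∀ k, ¬ e ∣ k → p.coeff k = 0 := by
    intro p hp0 hp k hk
    by_contra hc
    have h1 := orderOf_dvd_of_coeff hp hc
    have h2 := orderOf_dvd_of_coeff hp hp0
    rw [← he] at h1 h2
    rw [Nat.sub_zero] at h2
    exact hk ((Nat.dvd_sub_iff_right (le_natDegree_of_ne_zero hc) h2).1 h1)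
  ext k
  by_cases hk : e ∣ k
  · obtain ⟨j, rfl⟩ := hk
    have := congrArg (fun p : F[X] => p.coeff j) h
    simp only [coeff_contract he0.ne'] at this
    rwa [mul_comm]
  · rw [hz hf0 hf k hk, hz hg0 hg k hk]

variable [Fintype F]

omit [Finite F] in
theorem exists_deg_pos {J m : ℕ} (t : Tup F J m) (hm : 0 < m) : ∃ i, 0 < (t.1 i).natDegree := by
  by_contra h
  push Not at h
  have := t.2.2
  rw [Finset.sum_eq_zero fun i _ => by rw [Nat.le_zero.1 (h i), mul_zero]] at this
  omega

/-- The fixed tuples of determinant `1`. -/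
abbrev FixTup (w : Fˣ) (n : ℕ) : Type _ := {t : Tup F n n // tdet t = 1 ∧ TupFixed w t}

theorem fixTup_bound (w : Fˣ) {e : ℕ} (he : e = orderOf w) (hn : 0 < n) (t : FixTup w n) :
    e ∣ n ∧ tgcd t.1 ≤ n / e := by
  have he0 : 0 < e := he ▸ orderOf_pos w
  have hdvd : ∀ i, e ∣ (t.1.1 i).natDegree := fun i =>
    (contract_spec he he0 (t.1.2.1 i).1 (t.1.2.1 i).2 (t.2.2 i)).1
  refine ⟨?_, ?_⟩
  · rw [← t.1.2.2]
    exact Finset.dvd_sum fun i _ => (hdvd i).mul_left _
  · obtain ⟨i, hi⟩ := exists_deg_pos t.1 hn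
    refine (tgcd_le_index t.1 hi).trans ((Nat.le_div_iff_mul_le he0).2 ?_)
    refine le_trans (Nat.mul_le_mul_left _ (Nat.le_of_dvd hi (hdvd i))) ?_
    conv_rhs => rw [← t.1.2.2]
    exact Finset.single_le_sum (fun (j : Fin n) _ => Nat.zero_le (((j : ℕ) + 1) * (t.1.1 j).natDegree)) (Finset.mem_univ i)

theorem card_fixTup_le (w : Fˣ) {e : ℕ} (he : e = orderOf w) :
    Nat.card (FixTup w n) ≤ Fintype.card F ^ (n / e) := by
  have he0 : 0 < e := he ▸ orderOf_pos w
  refine le_trans (Nat.card_le_card_of_injective (fun t : FixTup w n => (⟨fun i => contract e (t.1.1 i),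
    fun i => ⟨(contract_spec he he0 (t.1.2.1 i).1 (t.1.2.1 i).2 (t.2.2 i)).2.1,
      (contract_spec he he0 (t.1.2.1 i).1 (t.1.2.1 i).2 (t.2.2 i)).2.2.1⟩, by
    symm
    refine Nat.div_eq_of_eq_mul_left he0 ?_
    conv_lhs => rw [← t.1.2.2]
    rw [Finset.sum_mul]
    exact Finset.sum_congr rfl fun i _ => by
      rw [mul_assoc, (contract_spec he he0 (t.1.2.1 i).1 (t.1.2.1 i).2 (t.2.2 i)).2.2.2]⟩ : Tup F n (n / e)))
    fun t t' h => ?_) ((card_tup (F := F) n (n / e)).trans_le (tupCount_le Fintype.card_pos _ _))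
  refine Subtype.ext (Subtype.ext (funext fun i => ?_))
  exact contract_inj he he0 (t.1.2.1 i).2 (t'.1.2.1 i).2 (t.2.2 i) (t'.2.2 i) (congrFun (congrArg Subtype.val h) i)

theorem card_fixTup_top (w : Fˣ) (he : orderOf w = n) : Nat.card (FixTup w n) ≤ 1 := by
  classical
  have : Finite (FixTup w n) := Subtype.finite
  refine Finite.card_le_one_iff_subsingleton.2 ⟨fun t t' => ?_⟩
  have he0 : 0 < n := he ▸ orderOf_pos w
  let i0 : Fin n := ⟨0, he0⟩
  have hshape : ∀ t : FixTup w n, (t.1.1 i0).natDegree = n ∧ ∀ j, j ≠ i0 → (t.1.1 j).natDegree = 0 := by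
    intro t
    have hd : ∀ i, (t.1.1 i).natDegree = 0 ∨ n ≤ (t.1.1 i).natDegree := fun i =>
      (Nat.eq_zero_or_pos _).imp_right fun hp =>
        Nat.le_of_dvd hp (contract_spec he.symm he0 (t.1.2.1 i).1 (t.1.2.1 i).2 (t.2.2 i)).1
    have hterm : ∀ i : Fin n, ((i : ℕ) + 1) * (t.1.1 i).natDegree ≤ n := fun i => by
      conv_rhs => rw [← t.1.2.2]
      exact Finset.single_le_sum (fun (j : Fin n) _ => Nat.zero_le (((j : ℕ) + 1) * (t.1.1 j).natDegree)) (Finset.mem_univ i)
    have hother : ∀ j, j ≠ i0 → (t.1.1 j).natDegree = 0 := by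
      intro j hj
      refine (hd j).resolve_right fun hle => ?_
      have h1 : 1 ≤ (j : ℕ) := Nat.one_le_iff_ne_zero.2 fun h => hj (Fin.ext h)
      have := hterm j
      have := Nat.mul_le_mul (show 2 ≤ (j : ℕ) + 1 by omega) hle
      omega
    refine ⟨?_, hother⟩
    have hsum := t.1.2.2
    rw [Finset.sum_eq_single i0 (fun j _ hj => by rw [hother j hj, mul_zero]) (by simp)] at hsum
    simpa [i0] using hsum
  have hc : ∀ t : FixTup w n, ∀ k, (t.1.1 i0).coeff k =
      if k = 0 then (-1) ^ n else if k = n then 1 else 0 := by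
    intro t k
    obtain ⟨hdeg, hother⟩ := hshape t
    have hdet := t.2.1
    rw [tdet_eq_single t.1 i0 hother, show (i0 : ℕ) + 1 = 1 from rfl, pow_one, nrm, hdeg] at hdet
    split_ifs with h0 hkn
    · subst h0
      have h2 : ((-1 : F) ^ n) * ((-1) ^ n * (t.1.1 i0).coeff 0) = (-1) ^ n := by rw [hdet, mul_one]
      rwa [← mul_assoc, ← mul_pow, neg_one_mul, neg_neg, one_pow, one_mul] at h2
    · subst hkn
      have := (t.1.2.1 i0).1
      rw [Monic, leadingCoeff, hdeg] at this
      exact this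
    · by_contra hne
      have h1 := orderOf_dvd_of_coeff (t.2.2 i0) hne
      have h2 := le_natDegree_of_ne_zero hne
      rw [he, hdeg] at h1
      rw [hdeg] at h2
      have := Nat.le_of_dvd (by omega) h1
      omega
  refine Subtype.ext (Subtype.ext (funext fun i => ?_))
  by_cases hi : i = i0
  · subst hi
    ext k
    rw [hc t, hc t']
  · rw [eq_one_of_deg t.1 ((hshape t).2 i hi), eq_one_of_deg t'.1 ((hshape t').2 i hi)]

variable [DecidableEq F]

/-- Classes of `SL` over fixed tuples. -/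
theorem card_fixClasses_le (w : Fˣ) {e : ℕ} (he : e = orderOf w) (hn : 0 < n) :
    Nat.card {c : ConjClasses (Matrix.SpecialLinearGroup (Fin n) F) // TupFixed w (tupOf (clsGL c))} ≤
      (n / e) * Fintype.card F ^ (n / e) ∧
    (e = n → Nat.card {c : ConjClasses (Matrix.SpecialLinearGroup (Fin n) F) // TupFixed w (tupOf (clsGL c))} ≤ 1) := by
  classical
  have : Finite (FixTup w n) := Subtype.finite
  have : Fintype (FixTup w n) := Fintype.ofFinite _
  have key : Nat.card {c : ConjClasses (Matrix.SpecialLinearGroup (Fin n) F) // TupFixed w (tupOf (clsGL c))} ≤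
      Nat.card (FixTup w n) * (n / e) := by
    have h : Nat.card {c : ConjClasses (Matrix.SpecialLinearGroup (Fin n) F) // TupFixed w (tupOf (clsGL c))} ≤
        Nat.card ((t : FixTup w n) × {c : ConjClasses (Matrix.SpecialLinearGroup (Fin n) F) // tupOf (clsGL c) = t.1}) :=
      Nat.card_le_card_of_injective (fun c => ⟨⟨tupOf (clsGL c.1), tdet_clsGL c.1, c.2⟩, c.1, rfl⟩)
        fun c d hcd => Subtype.ext (congrArg (fun x => x.2.1) hcd)
    have hb : ∀ t : FixTup w n, Nat.card {c : ConjClasses (Matrix.SpecialLinearGroup (Fin n) F) //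
        tupOf (clsGL c) = t.1} ≤ n / e := fun t =>
      le_trans (card_fibre_le (F := F) (n := n) t.1) (fixTup_bound w he hn t).2
    refine h.trans ?_
    rw [Nat.card_sigma, Nat.card_eq_fintype_card (α := FixTup w n), ← Finset.card_univ, ← smul_eq_mul]
    exact Finset.sum_le_card_nsmul _ _ _ fun t _ => hb t
  refine ⟨key.trans ?_, fun h => key.trans ?_⟩
  · rw [mul_comm]
    exact Nat.mul_le_mul_left _ (card_fixTup_le w he)
  · rw [h, Nat.div_self hn, mul_one]
    exact card_fixTup_top w (he.symm.trans h)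

section centre

open Matrix

local notation "SLn" => Matrix.SpecialLinearGroup (Fin n) F
local notation "Zn" => Subgroup.center (Matrix.SpecialLinearGroup (Fin n) F)

/-- The centre acts on the classes by multiplication. -/
def classShift : MulAction Zn (ConjClasses SLn) where
  smul z := Quotient.map (fun x : SLn => (z : SLn) * x) fun x y h => by
    obtain ⟨c, hc⟩ := isConj_iff.1 h
    refine isConj_iff.2 ⟨c, ?_⟩
    rw [← hc, ← mul_assoc c, Subgroup.mem_center_iff.1 z.2 c, mul_assoc, mul_assoc, mul_assoc]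
  one_smul := by
    intro c
    induction c using Quotient.inductionOn with
    | h x => exact congrArg _ (one_mul x)
  mul_smul := by
    intro z z' c
    induction c using Quotient.inductionOn with
    | h x => exact congrArg _ (mul_assoc (z : SLn) z' x)

omit [Finite F] [DecidableEq F] in
theorem card_classes_SL_le_PSL :
    Nat.card (ConjClasses SLn) ≤ Nat.card Zn * Nat.card (ConjClasses (SLn ⧸ Zn)) := by
  rw [← Nat.card_prod]
  refine Nat.card_le_card_of_surjective
    (fun x => ConjClasses.mk ((x.1 : SLn) * Quotient.out (Quotient.out x.2))) fun c => ?_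
  obtain ⟨x, rfl⟩ := ConjClasses.mk_surjective c
  let C := ConjClasses.mk (QuotientGroup.mk x : SLn ⧸ Zn)
  obtain ⟨g, hg⟩ := isConj_iff.1 (ConjClasses.mk_eq_mk_iff_isConj.1 (Quotient.out_eq C : ConjClasses.mk (Quotient.out C) = C))
  obtain ⟨g, rfl⟩ := QuotientGroup.mk_surjective g
  set y := Quotient.out (Quotient.out C)
  have hy : (QuotientGroup.mk y : SLn ⧸ Zn) = Quotient.out C := Quotient.out_eq _
  rw [← hy, ← QuotientGroup.mk_mul, ← QuotientGroup.mk_inv, ← QuotientGroup.mk_mul, QuotientGroup.eq] at hg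
  refine ⟨(⟨_, hg⟩, C), ConjClasses.mk_eq_mk_iff_isConj.2 (isConj_iff.2 ⟨g, ?_⟩)⟩
  show g * ((g * y * g⁻¹)⁻¹ * x * y) * g⁻¹ = x
  rw [← Subgroup.mem_center_iff.1 hg y, ← mul_assoc g, mul_assoc (g * y), ← Subgroup.mem_center_iff.1 hg g⁻¹]
  group

omit [DecidableEq F] in
theorem card_PSL_mul_le :
    Nat.card (ConjClasses (SLn ⧸ Zn)) * Nat.card Zn ≤
      ∑ᶠ z : Zn, Nat.card {c : ConjClasses SLn // letI := classShift (F := F) (n := n); z • c = c} := by
  classical
  letI := classShift (F := F) (n := n)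
  haveI : Fintype (ConjClasses SLn) := Fintype.ofFinite _
  haveI : Fintype Zn := Fintype.ofFinite _
  haveI : ∀ z : Zn, Fintype (MulAction.fixedBy (ConjClasses SLn) z) := fun z => Fintype.ofFinite _
  haveI : Fintype (Quotient (MulAction.orbitRel Zn (ConjClasses SLn))) := Fintype.ofFinite _
  have hB := MulAction.sum_card_fixedBy_eq_card_orbits_mul_card_group Zn (ConjClasses SLn)
  rw [finsum_eq_sum_of_fintype]
  have hfix : ∀ z : Zn, Nat.card {c : ConjClasses SLn // z • c = c} =
      Fintype.card (MulAction.fixedBy (ConjClasses SLn) z) := fun z =>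
    Nat.card_eq_fintype_card (α := MulAction.fixedBy (ConjClasses SLn) z)
  rw [Finset.sum_congr rfl fun z _ => hfix z, hB, ← Nat.card_eq_fintype_card (α := Zn), ← Nat.card_eq_fintype_card]
  refine Nat.mul_le_mul_right _ (Nat.card_le_card_of_surjective
    (Quotient.lift (fun c => Quotient.map (QuotientGroup.mk : SLn → SLn ⧸ Zn)
      (fun a b h => (QuotientGroup.mk' Zn).map_isConj h) c) ?_) fun C => ?_)
  · intro a b hab
    obtain ⟨z, rfl⟩ := hab
    induction b using Quotient.inductionOn with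
    | h x =>
      refine congrArg (fun y => (Quotient.mk _ y : ConjClasses (SLn ⧸ Zn))) ?_
      show (QuotientGroup.mk ((z : SLn) * x) : SLn ⧸ Zn) = QuotientGroup.mk x
      rw [QuotientGroup.mk_mul, (QuotientGroup.eq_one_iff _).2 z.2, one_mul]
  · obtain ⟨y, rfl⟩ := ConjClasses.mk_surjective C
    obtain ⟨x, rfl⟩ := QuotientGroup.mk_surjective y
    exact ⟨Quotient.mk _ (ConjClasses.mk x), rfl⟩

/-- A central element moves only the classes whose tuple is not fixed by its scalar. -/
theorem fixed_le (hn : 0 < n) : ∃ ω : Zn →* Fˣ, Function.Injective ω ∧ (∀ z, ω z ^ n = 1) ∧ ∀ z : Zn,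
    Nat.card {c : ConjClasses SLn // letI := classShift (F := F) (n := n); z • c = c} ≤
      Nat.card {c : ConjClasses SLn // TupFixed (ω z) (tupOf (clsGL c))} := by
  classical
  letI := classShift (F := F) (n := n)
  let i : Fin n := ⟨0, hn⟩
  let ω : Zn →* Fˣ := (Subgroup.subtype _).comp (Matrix.SpecialLinearGroup.center_equiv_rootsOfUnity' i).toMonoidHom
  have hscal : ∀ z : Zn, ((z : SLn) : Matrix (Fin n) (Fin n) F) = (ω z : F) • 1 := by
    intro z
    have h1 : (Matrix.SpecialLinearGroup.center_equiv_rootsOfUnity' i).symm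
        (Matrix.SpecialLinearGroup.center_equiv_rootsOfUnity' i z) = z := MulEquiv.symm_apply_apply _ _
    conv_lhs => rw [← h1]
    rfl
  refine ⟨ω, fun a b h => (Matrix.SpecialLinearGroup.center_equiv_rootsOfUnity' i).injective (Subtype.ext h),
    fun z => ?_, fun z => ?_⟩
  · have h1 : ω z ^ Fintype.card (Fin n) = 1 :=
      (mem_rootsOfUnity _ _).1 (Matrix.SpecialLinearGroup.center_equiv_rootsOfUnity' i z).2
    rwa [Fintype.card_fin] at h1
  · refine Nat.card_le_card_of_injective (fun c => ⟨c.1, fun j => ?_⟩)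
      fun c d h => Subtype.ext (congrArg Subtype.val h :)
    have hc : ConjClasses.mk ((z : SLn) * Quotient.out c.1) = c.1 := by
      conv_rhs => rw [← c.2]
      conv_rhs => rw [← Quotient.out_eq c.1]
      rfl
    have h2 : IsConj ((z : SLn) * Quotient.out c.1) (Quotient.out c.1) := by
      rw [← ConjClasses.mk_eq_mk_iff_isConj, hc]
      exact (Quotient.out_eq c.1).symm
    have h3 : IsConj (Matrix.SpecialLinearGroup.toGL ((z : SLn) * Quotient.out c.1)) (clsGL c.1) :=
      MonoidHom.map_isConj _ h2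
    have h4 := tupOf_smul (g := clsGL c.1) (h := Matrix.SpecialLinearGroup.toGL ((z : SLn) * Quotient.out c.1)) (ω z) (by
      show ((z : SLn) : Matrix (Fin n) (Fin n) F) * ((Quotient.out c.1 : SLn) : Matrix (Fin n) (Fin n) F) = _
      rw [hscal, smul_mul_assoc, one_mul]
      rfl) j
    rw [← h4, tupOf_eq_of_isConj h3]

end centre

end CfsgLib.GLClass
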