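import Mathlib
import Cfsg.Agent.GLClass.Classes

/-!
Classes of elements of prime order, different from the characteristic, in `GL n` over a finite field.
-/

set_option autoImplicit false

namespace CfsgLib.GLClass

open Polynomial UniqueFactorizationMonoid Module

variable {F : Type*} [Field F] [Fintype F] {n : ℕ} (p : ℕ) [Fact p.Prime] [CharP F p]

omit [Fintype F] in
theorem monic_of_mem_nf [DecidableEq F] {f g : F[X]} (hg : g ∈ normalizedFactors f) : g.Monic := by
  rw [← normalize_normalized_factor g hg]
  exact monic_normalize (irreducible_of_normalized_factor g hg).ne_zero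

theorem pow_eq_one_iff_charpoly {r : ℕ} (hrp : r.Coprime p) (g : GL (Fin n) F) :
    g ^ r = 1 ↔ (orderOf g).Coprime p ∧
      ∀ P : F[X], P.Monic → Irreducible P → P ∣ (g : Matrix (Fin n) (Fin n) F).charpoly → P ∣ X ^ r - 1 := by
  constructor
  · intro hg
    refine ⟨hrp.coprime_dvd_left (orderOf_dvd_of_pow_eq_one hg), fun P hPm hP hdvd => ?_⟩
    rcases Nat.eq_zero_or_pos n with rfl | hn
    · exfalso
      have := natDegree_le_of_dvd hdvd (Matrix.charpoly_monic _).ne_zero
      rw [Matrix.charpoly_natDegree_eq_dim, Fintype.card_fin] at this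
      exact absurd hP.natDegree_pos (by omega)
    haveI : Nonempty (Fin n) := ⟨⟨0, hn⟩⟩
    obtain ⟨α, hα⟩ := IsAlgClosed.exists_aeval_eq_zero (AlgebraicClosure F) P
      (by rw [degree_eq_natDegree hP.ne_zero]; have := hP.natDegree_pos; exact_mod_cast this.ne')
    let B := (g : Matrix (Fin n) (Fin n) F).map (algebraMap F (AlgebraicClosure F))
    have hB : B ^ r = 1 := by
      show ((algebraMap F (AlgebraicClosure F)).mapMatrix (g : Matrix (Fin n) (Fin n) F)) ^ r = 1
      rw [← map_pow, ← Units.val_pow_eq_pow_val, hg, Units.val_one, map_one]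
    have hroot : IsRoot B.charpoly α := by
      show IsRoot ((g : Matrix (Fin n) (Fin n) F).map (algebraMap F (AlgebraicClosure F))).charpoly α
      rw [Matrix.charpoly_map, IsRoot, eval_map_algebraMap]
      obtain ⟨c, hc⟩ := hdvd
      rw [hc, map_mul, hα, zero_mul]
    have h1 := spectrum.pow_mem_pow B r ((Matrix.mem_spectrum_iff_isRoot_charpoly (A := B)).2 hroot)
    rw [hB, spectrum.one_eq, Set.mem_singleton_iff] at h1
    rw [minpoly.eq_of_irreducible_of_monic hP hα hPm]
    exact minpoly.dvd F α (by simp [h1])
  · rintro ⟨hg, hP⟩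
    obtain ⟨N, q, e, hd, hqe, ⟨ψ⟩⟩ := exists_data_eq (g : Matrix (Fin n) (Fin n) F)
    have hq : ∀ i, q i ^ e i ∣ (X : F[X]) ^ r - 1 := fun i => by
      have hi : (q i, e i) ∈ elemDiv (g : Matrix (Fin n) (Fin n) F) := by
        rw [hd]; exact Multiset.mem_map_of_mem _ (Finset.mem_univ i)
      have h1 : e i = 1 := exp_eq_one (pow_orderOf_coe g) (orderOf_ne_zero_of_coprime p hg) hi
      rw [h1, pow_one]
      exact hP _ (hqe i).1 (hqe i).2.1 (dvd_charpoly_of_mem hi)
    have h1 : ∀ x : Model q e, ((X : F[X]) ^ r - 1) • x = 0 := fun x => funext fun i => by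
      obtain ⟨y, hy⟩ := Submodule.Quotient.mk_surjective _ (x i)
      rw [Pi.smul_apply, Pi.zero_apply, ← hy, ← Submodule.Quotient.mk_smul, Submodule.Quotient.mk_eq_zero]
      exact Ideal.mem_span_singleton.2 (by rw [smul_eq_mul]; exact (hq i).trans (dvd_mul_right _ _))
    have h0 : aeval (g : Matrix (Fin n) (Fin n) F) ((X : F[X]) ^ r - 1) = 0 := by
      apply Matrix.toLin'.injective
      rw [map_zero, ← aeval_toLin']
      refine LinearMap.ext fun v => ?_
      have h2 : ((X : F[X]) ^ r - 1) • AEval'.of (Matrix.toLin' (g : Matrix (Fin n) (Fin n) F)) v = 0 :=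
        ψ.injective (by rw [map_smul, h1, map_zero])
      rw [← Module.AEval.of_aeval_smul, LinearEquiv.map_eq_zero_iff] at h2
      exact h2
    apply Units.ext
    rw [Units.val_pow_eq_pow_val, Units.val_one, ← sub_eq_zero]
    simpa using h0

open scoped Classical in
/-- The factors of `X ^ r - 1` other than `X - 1`. -/
noncomputable def rootFactors (F : Type*) [Field F] (r : ℕ) : Finset F[X] :=
  (normalizedFactors (cyclotomic r F)).toFinset

omit [Fintype F] in
theorem mem_rootFactors {r : ℕ} {P : F[X]} (hP : P ∈ rootFactors F r) :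
    P.Monic ∧ Irreducible P ∧ P ∣ cyclotomic r F := by
  classical
  rw [rootFactors, Multiset.mem_toFinset] at hP
  exact ⟨monic_of_mem_nf hP, irreducible_of_normalized_factor P hP, dvd_of_mem_normalizedFactors hP⟩

theorem rootFactors_spec {r : ℕ} [Fact r.Prime] (hrp : r.Coprime p) :
    (∀ P ∈ rootFactors F r, P.natDegree = orderOf ((Fintype.card F : ℕ) : ZMod r)) ∧
      (rootFactors F r).card = (r - 1) / orderOf ((Fintype.card F : ℕ) : ZMod r) := by
  classical
  obtain ⟨m, hp, hq⟩ := FiniteField.card F p
  have hn : p.Coprime r := hrp.symm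
  have ho : orderOf (ZMod.unitOfCoprime _ (hn.pow_left (m : ℕ))) = orderOf ((Fintype.card F : ℕ) : ZMod r) := by
    rw [← orderOf_units, ZMod.coe_unitOfCoprime, hq]
  refine ⟨fun P hP => ?_, ?_⟩
  · obtain ⟨-, h2, h3⟩ := mem_rootFactors hP
    rw [natDegree_of_dvd_cyclotomic_of_irreducible hq hn h3 h2, ho]
  · rw [← ho, ← Nat.totient_prime (Fact.out : r.Prime)]
    exact normalizedFactors_cyclotomic_card hq hn

theorem card_classes_pow_eq_one {r : ℕ} [Fact r.Prime] (hrp : r.Coprime p) {i t : ℕ}
    (hi : i = orderOf ((Fintype.card F : ℕ) : ZMod r)) (ht : t * i = r - 1) :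
    Nat.card {C : ConjClasses (GL (Fin n) F) // ∃ g : GL (Fin n) F, ConjClasses.mk g = C ∧ g ^ r = 1} =
      Nat.choose (n / i + t) t := by
  classical
  have hr : r.Prime := Fact.out
  have hr1 : 0 < r - 1 := by have := hr.two_le; omega
  have hi0 : 0 < i := Nat.pos_of_ne_zero (by rintro rfl; rw [mul_zero] at ht; omega)
  have hrF : (r : F) ≠ 0 := fun h =>
    ((Fact.out : p.Prime).coprime_iff_not_dvd.1 hrp.symm) ((CharP.cast_eq_zero_iff F p _).1 h)
  obtain ⟨hdeg, hcard⟩ := rootFactors_spec (F := F) p hrp
  rw [← hi, ← ht, Nat.mul_div_cancel _ hi0] at hcard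
  let Q := rootFactors F r
  let u : F[X] := X - C 1
  have hu : u.Monic ∧ Irreducible u := ⟨monic_X_sub_C 1, irreducible_X_sub_C 1⟩
  have huQ : u ∉ Q := fun h => by
    have h1 : (cyclotomic r F).IsRoot 1 := dvd_iff_isRoot.1 (mem_rootFactors h).2.2
    rw [IsRoot, eval_one_cyclotomic_prime] at h1
    exact hrF h1
  have hXr : (X : F[X]) ^ r - 1 = cyclotomic r F * (X - 1) := (cyclotomic_prime_mul_X_sub_one F r).symm
  have hmem : ∀ P : F[X], P.Monic → Irreducible P → (P ∣ X ^ r - 1 ↔ P = u ∨ P ∈ Q) := by
    intro P hPm hP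
    rw [hXr, show (X : F[X]) - 1 = u by simp [u]]
    constructor
    · intro h
      rcases hP.prime.dvd_or_dvd h with h | h
      · right
        obtain ⟨Q', h1, h2⟩ := exists_mem_normalizedFactors_of_dvd (cyclotomic_ne_zero r F) hP h
        rw [eq_of_monic_of_associated hPm (monic_of_mem_nf h1) h2]
        exact Multiset.mem_toFinset.2 h1
      · exact Or.inl (eq_of_monic_of_associated hPm hu.1 (hP.associated_of_dvd hu.2 h))
    · rintro (rfl | h)
      · exact dvd_mul_left _ _
      · exact (mem_rootFactors h).2.2.trans (dvd_mul_right _ _)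
  have hirr : ∀ P, P = u ∨ P ∈ Q → P.Monic ∧ Irreducible P ∧ P.coeff 0 ≠ 0 := by
    intro P hP
    have h1 : P.Monic ∧ Irreducible P := by
      rcases hP with rfl | h
      · exact hu
      · exact ⟨(mem_rootFactors h).1, (mem_rootFactors h).2.1⟩
    refine ⟨h1.1, h1.2, coeff_zero_ne_of_dvd ((hmem P h1.1 h1.2).2 hP) ?_⟩
    simp [hr.ne_zero, hr.ne_zero.symm]
  let ψ : Option Q → Multiset F[X] := fun o => o.elim (Multiset.replicate i u) fun P => {P.1}
  let M := n / i
  let fac : Sym (Option Q) M → Multiset F[X] := fun s =>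
    (s : Multiset (Option Q)).bind ψ + Multiset.replicate (n - i * M) u
  have hfac : ∀ s, ∀ P ∈ fac s, P = u ∨ P ∈ Q := by
    intro s P hP
    rcases Multiset.mem_add.1 hP with h | h
    · obtain ⟨o, -, ho⟩ := Multiset.mem_bind.1 h
      rcases o with _ | P'
      · exact Or.inl (Multiset.eq_of_mem_replicate ho)
      · exact Or.inr (by rw [Multiset.mem_singleton.1 ho]; exact P'.2)
    · exact Or.inl (Multiset.eq_of_mem_replicate h)
  have hψdeg : ∀ o, ((ψ o).map natDegree).sum = i := by
    rintro (_ | P)
    · show ((Multiset.replicate i u).map natDegree).sum = i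
      rw [Multiset.map_replicate, Multiset.sum_replicate, natDegree_X_sub_C, smul_eq_mul, mul_one]
    · show (({P.1} : Multiset F[X]).map natDegree).sum = i
      rw [Multiset.map_singleton, Multiset.sum_singleton, hdeg P.1 P.2, hi]
  have hfdeg : ∀ s, ((fac s).map natDegree).sum = n := by
    intro s
    show ((((s : Multiset (Option Q)).bind ψ + Multiset.replicate (n - i * M) u)).map natDegree).sum = n
    rw [Multiset.map_add, Multiset.sum_add, Multiset.map_bind, Multiset.sum_bind,
      Multiset.map_congr rfl fun o _ => hψdeg o, Multiset.map_const', Multiset.sum_replicate, Sym.card_coe,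
      smul_eq_mul, Multiset.map_replicate, Multiset.sum_replicate, natDegree_X_sub_C, smul_eq_mul, mul_one,
      mul_comm M i]
    exact Nat.add_sub_cancel' (Nat.mul_div_le n i)
  let poly : Sym (Option Q) M → GoodPoly F n := fun s => ⟨(fac s).prod,
    monic_multiset_prod_of_monic _ _ (fun P hP => (hirr P (hfac s P hP)).1) |> fun h => by simpa using h,
    by rw [natDegree_multiset_prod_of_monic _ fun P hP => (hirr P (hfac s P hP)).1, hfdeg],
    by
      rw [coeff_zero_multiset_prod]
      refine Multiset.prod_ne_zero fun h => ?_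
      obtain ⟨P, hP, h0⟩ := Multiset.mem_map.1 h
      exact (hirr P (hfac s P hP)).2.2 h0⟩
  have hnf : ∀ s, normalizedFactors (poly s).1 = fac s := by
    intro s
    show normalizedFactors (fac s).prod = fac s
    rw [normalizedFactors_prod_eq _ fun P hP => (hirr P (hfac s P hP)).2.1]
    exact (Multiset.map_congr rfl fun P hP => (hirr P (hfac s P hP)).1.normalize_eq_self).trans (Multiset.map_id _)
  have hcnt : ∀ (s : Sym (Option Q) M) (P : Q), (fac s).count P.1 = (s : Multiset (Option Q)).count (some P) := by
    intro s P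
    have hne : u ≠ P.1 := fun h => huQ (h ▸ P.2)
    show Multiset.count P.1 ((s : Multiset (Option Q)).bind ψ + Multiset.replicate (n - i * M) u) = _
    rw [Multiset.count_add, Multiset.count_replicate, if_neg hne, add_zero]
    induction (s : Multiset (Option Q)) using Multiset.induction_on with
    | empty => simp
    | cons o m ih =>
      rw [Multiset.cons_bind, Multiset.count_add, ih, Multiset.count_cons, add_comm]
      congr 1
      rcases o with _ | P'
      · show Multiset.count P.1 (Multiset.replicate i u) = _
        rw [Multiset.count_replicate, if_neg hne]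
        simp
      · show Multiset.count P.1 ({P'.1} : Multiset F[X]) = _
        rw [Multiset.count_singleton]
        by_cases hPP : P = P'
        · subst hPP; rw [if_pos rfl, if_pos rfl]
        · rw [if_neg fun e => hPP (Subtype.ext e), if_neg fun e => hPP (Option.some.inj e)]
  have hpinj : Function.Injective poly := by
    intro s s' h
    have h1 : fac s = fac s' := by rw [← hnf, ← hnf, h]
    have hsome : ∀ P, (s : Multiset (Option Q)).count (some P) = (s' : Multiset (Option Q)).count (some P) :=
      fun P => by rw [← hcnt, ← hcnt, h1]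
    apply Sym.coe_injective
    refine Multiset.ext.2 fun o => ?_
    rcases o with _ | P
    · have h2 := Multiset.sum_count_eq_card (s := Finset.univ) (m := (s : Multiset (Option Q))) fun a _ => Finset.mem_univ a
      have h3 := Multiset.sum_count_eq_card (s := Finset.univ) (m := (s' : Multiset (Option Q))) fun a _ => Finset.mem_univ a
      rw [Sym.card_coe, Fintype.sum_option, Finset.sum_congr rfl fun P _ => hsome P] at h2
      rw [Sym.card_coe, Fintype.sum_option] at h3
      omega
    · exact hsome P
  choose g hg hgc using fun s => exists_regular_charpoly p (poly s)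
  have hgr : ∀ s, g s ^ r = 1 := by
    intro s
    refine (pow_eq_one_iff_charpoly p hrp _).2 ⟨hg s, fun P hPm hP hdvd => ?_⟩
    rw [hgc] at hdvd
    obtain ⟨Q', h1, h2⟩ := exists_mem_normalizedFactors_of_dvd (poly s).2.1.ne_zero hP hdvd
    rw [eq_of_monic_of_associated hPm (monic_of_mem_nf h1) h2, hmem _ (monic_of_mem_nf h1)
      (irreducible_of_normalized_factor _ h1)]
    rw [hnf] at h1
    exact hfac s _ h1
  have hsym : Nat.card (Sym (Option Q) M) = Nat.choose (n / i + t) t := by
    rw [Nat.card_eq_fintype_card, Sym.card_sym_eq_choose, Fintype.card_option, Fintype.card_coe, hcard]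
    show (t + 1 + M - 1).choose M = (M + t).choose t
    generalize M = k
    rw [show t + 1 + k - 1 = k + t by omega, Nat.choose_symm_add]
  rw [← hsym]
  refine (Nat.card_eq_of_bijective (fun s => (⟨ConjClasses.mk (g s), g s, rfl, hgr s⟩ :
    {C : ConjClasses (GL (Fin n) F) // ∃ g : GL (Fin n) F, ConjClasses.mk g = C ∧ g ^ r = 1})) ⟨?_, ?_⟩).symm
  · intro s s' h
    refine hpinj (Subtype.ext ?_)
    rw [← hgc, ← hgc]
    exact charpoly_eq_of_isConj (ConjClasses.mk_eq_mk_iff_isConj.1 (congrArg Subtype.val h))
  · rintro ⟨C, h, hC, hh⟩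
    obtain ⟨hh1, hh2⟩ := (pow_eq_one_iff_charpoly p hrp h).1 hh
    set f := (h : Matrix (Fin n) (Fin n) F).charpoly with hf
    have hf0 : f ≠ 0 := (Matrix.charpoly_monic _).ne_zero
    have hfm : ∀ P ∈ normalizedFactors f, P = u ∨ P ∈ Q := fun P hP =>
      (hmem P (monic_of_mem_nf hP) (irreducible_of_normalized_factor P hP)).1
        (hh2 P (monic_of_mem_nf hP) (irreducible_of_normalized_factor P hP) (dvd_of_mem_normalizedFactors hP))
    have hprod : (normalizedFactors f).prod = f := by
      rw [prod_normalizedFactors_eq hf0, (Matrix.charpoly_monic _).normalize_eq_self]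
    have hsum : ((normalizedFactors f).map natDegree).sum = n := by
      rw [← natDegree_multiset_prod_of_monic _ fun P hP => monic_of_mem_nf hP, hprod, hf,
        Matrix.charpoly_natDegree_eq_dim, Fintype.card_fin]
    set A := (normalizedFactors f).filter (fun P => P ∈ Q) with hA
    set B := (normalizedFactors f).filter (fun P => ¬ P ∈ Q) with hB
    have hAB : A + B = normalizedFactors f := Multiset.filter_add_not _ _
    have hAsum : (A.map natDegree).sum = i * Multiset.card A := by
      rw [Multiset.map_congr rfl fun P hP => (hdeg P (Multiset.mem_filter.1 hP).2).trans hi.symm,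
        Multiset.map_const', Multiset.sum_replicate, smul_eq_mul, mul_comm]
    have hBu : B = Multiset.replicate (Multiset.card B) u := Multiset.eq_replicate_card.2 fun P hP =>
      (hfm P (Multiset.mem_filter.1 hP).1).resolve_right (Multiset.mem_filter.1 hP).2
    have hBc : i * Multiset.card A + Multiset.card B = n := by
      rw [← hAsum, ← hsum, ← hAB, Multiset.map_add, Multiset.sum_add]
      congr 1
      conv_rhs => rw [hBu]
      rw [Multiset.map_replicate, Multiset.sum_replicate, natDegree_X_sub_C, smul_eq_mul, mul_one]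
    have hAM : Multiset.card A ≤ M := (Nat.le_div_iff_mul_le hi0).2 (by rw [mul_comm]; omega)
    let A' : Multiset Q := A.attach.map fun P => ⟨P.1, (Multiset.mem_filter.1 P.2).2⟩
    have hA' : A'.map Subtype.val = A := by
      simp only [A', Multiset.map_map, Function.comp_def, Multiset.attach_map_val]
    have hA'c : Multiset.card A' = Multiset.card A := by simp [A']
    let s : Sym (Option Q) M :=
      ⟨A'.map some + Multiset.replicate (M - Multiset.card A) none, by simp [hA'c]; omega⟩
    refine ⟨s, Subtype.ext ?_⟩
    refine (ConjClasses.mk_eq_mk_iff_isConj.2 (isConj_of_charpoly_eq p (hg s) hh1 ?_)).trans hC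
    rw [hgc, ← hf, ← hprod]
    show (fac s).prod = _
    congr 1
    show (A'.map some + Multiset.replicate (M - Multiset.card A) none).bind ψ + Multiset.replicate (n - i * M) u = _
    rw [Multiset.add_bind, Multiset.bind_map, ← hAB, add_assoc]
    congr 1
    · show A'.bind (fun P => ({P.1} : Multiset F[X])) = A
      rw [Multiset.bind_singleton, hA']
    · rw [hBu]
      refine Multiset.eq_replicate.2 ⟨?_, fun P hP => ?_⟩
      · rw [Multiset.card_add, Multiset.card_bind, Multiset.card_replicate]
        simp only [Multiset.map_replicate, Multiset.sum_replicate, smul_eq_mul, Function.comp_apply, ψ,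
          Option.elim_none, Multiset.card_replicate]
        rw [Nat.sub_mul, mul_comm M i, mul_comm (Multiset.card A) i]
        have := Nat.mul_le_mul_left i hAM
        have hM : i * M ≤ n := Nat.mul_div_le n i
        omega
      · rcases Multiset.mem_add.1 hP with h | h
        · obtain ⟨o, ho, hPo⟩ := Multiset.mem_bind.1 h
          rw [Multiset.eq_of_mem_replicate ho] at hPo
          exact Multiset.eq_of_mem_replicate hPo
        · exact Multiset.eq_of_mem_replicate h

end CfsgLib.GLClass
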