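import Mathlib
import Cfsg.Agent.GLClass.SLBound

/-!
`k (SL n) ≤ q ^ (n - 1) + 3 q ^ (n - 2)`: the arithmetic.
-/

set_option autoImplicit false

namespace CfsgLib.GLClass

theorem succ_le_three_pow : ∀ e : ℕ, 2 ≤ e → e + 4 ≤ 3 ^ e
  | 2, _ => by norm_num
  | e + 3, _ => by
    have := succ_le_three_pow (e + 2) (by omega)
    rw [pow_succ]
    omega

variable {F : Type*} [Field F] [Fintype F]

theorem two_mul_tail_le (hq : 3 ≤ Fintype.card F) (J : ℕ) (hJ : 4 ≤ J) :
    2 * ((Fintype.card F - 1) * twCount (Fintype.card F) J (J + 1)) ≤ 3 * Fintype.card F ^ (J - 1) := by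
  by_cases h8 : 8 ≤ J
  · refine (Nat.mul_le_mul_left _ (sub_one_mul_twCount_le (F := F) J (J + 1))).trans ?_
    have hsplit : J - 1 = ((J + 1) / 2 + 1) + (J - 2 - (J + 1) / 2) := by omega
    have h1 : (J + 1) / 2 + 1 ≤ 3 ^ (J - 2 - (J + 1) / 2) :=
      le_trans (by omega) (succ_le_three_pow _ (by omega))
    have h2 := Nat.pow_le_pow_left hq (J - 2 - (J + 1) / 2)
    calc 2 * (((J + 1) / 2 + 1) * Fintype.card F ^ ((J + 1) / 2 + 1))
        ≤ 3 * (Fintype.card F ^ (J - 2 - (J + 1) / 2) * Fintype.card F ^ ((J + 1) / 2 + 1)) :=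
          Nat.mul_le_mul (by norm_num) (Nat.mul_le_mul_right _ (h1.trans h2))
      _ = 3 * Fintype.card F ^ (J - 1) := by rw [← pow_add]; congr 2; omega
  · obtain ⟨r, hr⟩ : ∃ r, Fintype.card F = r + 3 := ⟨Fintype.card F - 3, by omega⟩
    rw [hr]
    interval_cases J <;>
      simp only [twCount, Finset.sum_range_succ, Finset.sum_range_zero, Nat.reduceDiv, Nat.reduceAdd, Nat.reduceMul,
        Nat.reduceSub, Nat.reduceEqDiff, if_true, if_false, OfNat.ofNat_ne_zero, mul_zero, add_zero, zero_add,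
        tsub_zero] <;>
      simp [cnt] <;> ring_nf <;>
      nlinarith [Nat.zero_le (r ^ 2), Nat.zero_le (r ^ 3), Nat.zero_le (r ^ 4), Nat.zero_le (r ^ 5), Nat.zero_le (r ^ 6)]

theorem card_classes_SL_le_numeric {n : ℕ} (hn : 3 ≤ n) :
    Nat.card (ConjClasses (Matrix.SpecialLinearGroup (Fin n) F)) ≤
      Fintype.card F ^ (n - 1) + 3 * Fintype.card F ^ (n - 2) := by
  classical
  obtain ⟨J, rfl⟩ : ∃ J, n = J + 1 := ⟨n - 1, by omega⟩
  rw [Nat.add_sub_cancel, show J + 1 - 2 = J - 1 by omega]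
  have hq2 : 2 ≤ Fintype.card F := Fintype.one_lt_card
  obtain ⟨A, W, hk, hA, hW⟩ := card_classes_SL_general (F := F) J
  rcases Nat.lt_or_ge (Fintype.card F) 3 with hq | hq
  · have hc : Fintype.card F = 2 := by omega
    rw [hc] at hA hW ⊢
    obtain ⟨i, rfl⟩ : ∃ i, J = i + 1 := ⟨J - 1, by omega⟩
    rw [Nat.add_sub_cancel]
    have : 2 ^ (i + 1 + 1) ≤ 2 ^ (i + 1) + 3 * 2 ^ i := by rw [pow_succ, pow_succ]; omega
    omega
  have hJ2 : 2 ≤ J := by omega
  rcases Nat.lt_or_ge J 4 with hJ | hJ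
  · obtain ⟨r, hr⟩ : ∃ r, Fintype.card F = r + 3 := ⟨Fintype.card F - 3, by omega⟩
    interval_cases J
    · refine (card_classes_SL_three (F := F)).trans ?_
      rw [hr]
      rcases r with _ | r
      · norm_num
      · rw [Nat.min_eq_left (by omega), show r + 1 + 3 - 1 = r + 3 by omega]
        norm_num
        nlinarith
    · refine (card_classes_SL_four (F := F)).trans ?_
      rw [hr]
      rcases r with _ | _ | r
      · norm_num
      · norm_num
      · rw [Nat.min_eq_left (by omega), show r + 1 + 1 + 3 - 1 = r + 4 by omega]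
        norm_num
        nlinarith
  have hB := two_mul_tail_le hq J hJ
  obtain ⟨i, rfl⟩ : ∃ i, J = i + 1 := ⟨J - 1, by omega⟩
  rw [Nat.add_sub_cancel] at hB ⊢
  obtain ⟨r, hr⟩ : ∃ r, Fintype.card F = r + 3 := ⟨Fintype.card F - 3, by omega⟩
  rw [hr, show r + 3 - 1 = r + 2 by omega] at hA hW hB
  rw [hr]
  have hA' : (r + 2) * A ≤ (r + 3) ^ (i + 1 + 1) := le_trans (Nat.le_add_right _ _) hA
  have h2 : 2 * A ≤ 2 * (r + 3) ^ (i + 1) + 3 * (r + 3) ^ i := by
    refine Nat.le_of_mul_le_mul_left ?_ (show 0 < r + 2 by omega)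
    rw [pow_succ, pow_succ] at hA'
    rw [pow_succ]
    nlinarith
  omega

end CfsgLib.GLClass
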