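import Cfsg.Agent.GLClass.Uniqueness
import Cfsg.Agent.GLClass.DetCentralizer
import Cfsg.Agent.Geo.USemisimple

/-!
Elementary divisors of block sums and of inverse adjoints, matrices with prescribed elementary divisors.
-/

set_option autoImplicit false
set_option linter.unusedSectionVars false

namespace CfsgLib.GLClass

open Polynomial Matrix CfsgLib.Geo.USemi CfsgLib.Unitary

variable {F : Type*} [Field F] [Finite F]

theorem card_range_mulVec {ι : Type*} [Fintype ι] [DecidableEq ι] (M : Matrix ι ι F) :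
    Nat.card (Set.range (M *ᵥ ·)) = Nat.card F ^ M.rank := by
  rw [Matrix.rank, ← Module.natCard_eq_pow_finrank]
  exact Nat.card_congr (Equiv.setCongr (LinearMap.coe_range M.mulVecLin).symm)

theorem rank_eq_of_card {ι : Type*} [Fintype ι] [DecidableEq ι] {M : Matrix ι ι F} {d : ℕ}
    (h : Nat.card (Set.range (M *ᵥ ·)) = Nat.card F ^ d) : M.rank = d :=
  Nat.pow_right_injective (Finite.one_lt_card (α := F)) ((card_range_mulVec M).symm.trans h)

theorem rank_aeval_eq_imgDim {n : ℕ} (A : Matrix (Fin n) (Fin n) F) {a : F[X]} (ha : a.Monic) (hai : Irreducible a)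
    (k : ℕ) : (aeval A (a ^ k)).rank = imgDim (elemDiv A) a k := by
  obtain ⟨N, p, e, hd, h, ⟨φ⟩⟩ := exists_data_eq A
  let J : (Fin n → F) ≃ₗ[F] Model p e := (Module.AEval'.of (Matrix.toLin' A)).trans (φ.restrictScalars F)
  have hJ : ∀ v, J (aeval A (a ^ k) *ᵥ v) = a ^ k • J v := fun v => by
    show φ (Module.AEval'.of (Matrix.toLin' A) (aeval A (a ^ k) *ᵥ v)) = _
    rw [← Matrix.toLin'_apply, ← aeval_toLin', ← Module.End.smul_def, Module.AEval'.of, Module.AEval.of_aeval_smul,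
      map_smul]
    rfl
  have h1 : J.toEquiv '' Set.range (aeval A (a ^ k) *ᵥ ·) = Set.range fun x : Model p e => a ^ k • x := by
    ext y
    constructor
    · rintro ⟨_, ⟨x, rfl⟩, rfl⟩; exact ⟨J x, (hJ x).symm⟩
    · rintro ⟨z, rfl⟩
      exact ⟨_, ⟨J.symm z, rfl⟩, (hJ _).trans (by rw [J.apply_symm_apply])⟩
  refine rank_eq_of_card ?_
  rw [Nat.card_congr ((J.toEquiv.image _).trans (Equiv.setCongr h1)), card_img_model h ha hai, hd]

theorem rank_blocks {ι κ : Type*} [Fintype ι] [DecidableEq ι] [Fintype κ] [DecidableEq κ]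
    (A : Matrix ι ι F) (B : Matrix κ κ F) : (fromBlocks A 0 0 B).rank = A.rank + B.rank := by
  refine rank_eq_of_card ?_
  rw [pow_add, ← card_range_mulVec, ← card_range_mulVec, ← Nat.card_prod]
  exact Nat.card_congr
    { toFun := fun x => (⟨x.1 ∘ Sum.inl, by
          obtain ⟨v, hv⟩ := x.2
          exact ⟨v ∘ Sum.inl, by rw [← hv]; funext i; simp [fromBlocks_mulVec]⟩⟩,
        ⟨x.1 ∘ Sum.inr, by
          obtain ⟨v, hv⟩ := x.2
          exact ⟨v ∘ Sum.inr, by rw [← hv]; funext i; simp [fromBlocks_mulVec]⟩⟩)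
      invFun := fun x => ⟨Sum.elim x.1.1 x.2.1, by
          obtain ⟨v, hv⟩ := x.1.2
          obtain ⟨w, hw⟩ := x.2.2
          exact ⟨Sum.elim v w, by simp [fromBlocks_mulVec, ← hv, ← hw]⟩⟩
      left_inv := fun x => Subtype.ext (Sum.elim_comp_inl_inr x.1)
      right_inv := fun _ => rfl }

theorem imgDim_add (D E : Multiset (F[X] × ℕ)) (a : F[X]) (k : ℕ) :
    imgDim (D + E) a k = imgDim D a k + imgDim E a k := by
  rw [imgDim, imgDim, imgDim, Multiset.map_add, Multiset.sum_add]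

theorem elemDiv_emb {d m : ℕ} (x : GL (Fin d) F × GL (Fin m) F) :
    elemDiv (emb x).val = elemDiv x.1.val + elemDiv x.2.val := by
  refine eq_of_imgDim_eq (fun y hy => elemDiv_spec _ hy) (fun y hy => ?_) fun a ha hai k => ?_
  · rcases Multiset.mem_add.1 hy with h | h <;> exact elemDiv_spec _ h
  · rw [imgDim_add, ← rank_aeval_eq_imgDim _ ha hai, ← rank_aeval_eq_imgDim _ ha hai, ← rank_aeval_eq_imgDim _ ha hai,
      emb_val]
    show (aeval (Matrix.reindexAlgEquiv F F finSumFinEquiv _) _).rank = _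
    rw [aeval_algHom_apply, Matrix.reindexAlgEquiv_apply, Matrix.rank_reindex, aeval_blocks, rank_blocks]

section star

variable {σ : F →+* F} (hσ : ∀ a, σ (σ a) = a)

theorem dual_one' : dual σ (1 : F[X]) = 1 := by
  simp [dual, Polynomial.map_one, reverse]

theorem dual_pow (f : F[X]) (k : ℕ) : dual σ (f ^ k) = dual σ f ^ k := by
  induction k with
  | zero => simp [dual_one']
  | succ k ih => rw [pow_succ, dual_mul, ih, pow_succ]

theorem dual_prod (s : Multiset F[X]) : dual σ s.prod = (s.map (dual σ)).prod := by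
  induction s using Multiset.induction_on with
  | empty => simp [dual_one']
  | cons a s ih => rw [Multiset.prod_cons, dual_mul, ih, Multiset.map_cons, Multiset.prod_cons]

include hσ in
theorem irreducible_dual {f : F[X]} (hm : f.Monic) (h0 : f.coeff 0 ≠ 0) (hi : Irreducible f) :
    Irreducible (dual σ f) := by
  have hd : (dual σ f).natDegree = f.natDegree := natDegree_dual σ h0
  have hne : dual σ f ≠ 1 := fun h => by
    rw [h, natDegree_one] at hd; have := hi.natDegree_pos; omega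
  refine (Monic.irreducible_iff_natDegree' (monic_dual σ h0)).2 ⟨hne, fun u v hu hv huv hmem => ?_⟩
  have hc : (dual σ f).coeff 0 ≠ 0 := by
    rw [coeff_zero_dual σ hm]; exact inv_ne_zero ((map_ne_zero σ).2 h0)
  rw [← huv, mul_coeff_zero, mul_ne_zero_iff] at hc
  have h1 : dual σ u * dual σ v = f := by rw [← dual_mul, huv, dual_dual σ hσ hm h0]
  have h2 := ((Monic.irreducible_iff_natDegree' hm).1 hi).2 _ _ (monic_dual σ hc.1) (monic_dual σ hc.2) h1
  rw [natDegree_dual σ hc.2] at h2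
  rw [hd] at hmem
  exact h2 hmem

theorem aeval_reverse_mul_pow {ι : Type*} [Fintype ι] [DecidableEq ι] (g : GL ι F) (f : F[X]) :
    aeval (g⁻¹).val f.reverse * g.val ^ f.natDegree = aeval g.val f := by
  rw [aeval_eq_sum_range' (Nat.lt_succ_of_le (reverse_natDegree_le f)), aeval_eq_sum_range' (Nat.lt_succ_self _),
    ← Finset.sum_range_reflect (fun i => f.coeff i • g.val ^ i), Finset.sum_mul]
  refine Finset.sum_congr rfl fun i hi => ?_
  have hle : i ≤ f.natDegree := Nat.le_of_lt_succ (Finset.mem_range.1 hi)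
  simp only [Nat.succ_eq_add_one, Nat.add_sub_cancel]
  rw [coeff_reverse, revAt_le hle, smul_mul_assoc, ← Units.val_pow_eq_pow_val, ← Units.val_pow_eq_pow_val,
    ← Units.val_pow_eq_pow_val, ← Units.val_mul, inv_pow]
  congr 1
  conv_lhs => rw [← Nat.add_sub_cancel' hle, pow_add, inv_mul_cancel_left]

theorem rank_adj {ι : Type*} [Fintype ι] [DecidableEq ι] (hσ : ∀ a, σ (σ a) = a) (M : Matrix ι ι F) :
    (adj σ M).rank = M.rank := by
  rw [adj, Matrix.rank_transpose]
  refine rank_eq_of_card ((Nat.card_congr ?_).trans (card_range_mulVec M))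
  have hmap : ∀ v, σ ∘ (M *ᵥ v) = M.map σ *ᵥ (σ ∘ v) := fun v => funext fun i => RingHom.map_mulVec σ M v i
  refine
    { toFun := fun x => ⟨σ ∘ x.1, by
        obtain ⟨v, hv⟩ := x.2
        exact ⟨σ ∘ v, funext fun i => by rw [← hv]; simp [Matrix.mulVec, dotProduct, hσ]⟩⟩
      invFun := fun x => ⟨σ ∘ x.1, by
        obtain ⟨v, hv⟩ := x.2
        exact ⟨σ ∘ v, by rw [← hv, hmap]⟩⟩
      left_inv := fun x => Subtype.ext (funext fun i => hσ _)
      right_inv := fun x => Subtype.ext (funext fun i => hσ _) }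

include hσ in
theorem rank_star' {n : ℕ} (g : GL (Fin n) F) {a : F[X]} (h0 : a.coeff 0 ≠ 0) (k : ℕ) :
    (aeval (star' σ g).val (dual σ a ^ k)).rank = (aeval g.val (a ^ k)).rank := by
  rw [← dual_pow]
  have hc : (a ^ k).coeff 0 ≠ 0 := by
    rw [coeff_zero_eq_eval_zero, eval_pow, ← coeff_zero_eq_eval_zero]
    exact pow_ne_zero k h0
  generalize a ^ k = f at hc ⊢
  have hmap : (f.map σ).reverse.map σ = f.reverse := by
    ext i
    rw [coeff_map, coeff_reverse, coeff_reverse, coeff_map, natDegree_map, hσ]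
  have h1 : aeval (star' σ g).val (dual σ f) = adj σ ((f.coeff 0)⁻¹ • aeval (g⁻¹).val f.reverse) := by
    have h2 : (dual σ f).map σ = C (f.coeff 0)⁻¹ * f.reverse := by
      rw [dual, Polynomial.map_mul, map_C, hmap, map_inv₀, hσ]
    have h3 : ((dual σ f).map σ).map σ = dual σ f := by
      ext i; simp [hσ]
    rw [show (f.coeff 0)⁻¹ • aeval (g⁻¹).val f.reverse = aeval (g⁻¹).val (C (f.coeff 0)⁻¹ * f.reverse) by
      rw [C_mul', map_smul], adj_aeval, ← h2, h3]
    rfl
  rw [h1, rank_adj hσ, ← aeval_reverse_mul_pow g f, ← Units.val_pow_eq_pow_val,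
    Matrix.rank_mul_eq_left_of_isUnit_det _ _ ((Matrix.isUnit_iff_isUnit_det _).1 (Units.isUnit _))]
  rw [← Matrix.rank_mul_eq_right_of_isUnit_det ((f.coeff 0)⁻¹ • (1 : Matrix (Fin n) (Fin n) F))
      (aeval (g⁻¹).val f.reverse) (by simp [hc]), smul_mul_assoc, one_mul]

include hσ in
theorem elemDiv_star' {n : ℕ} (g : GL (Fin n) F) :
    elemDiv (star' σ g).val = (elemDiv g.val).map fun x => (dual σ x.1, x.2) := by
  classical
  have hD : ∀ x ∈ elemDiv g.val, x.1.Monic ∧ Irreducible x.1 ∧ 0 < x.2 ∧ x.1.coeff 0 ≠ 0 := fun x hx =>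
    ⟨(elemDiv_spec _ hx).1, (elemDiv_spec _ hx).2.1, (elemDiv_spec _ hx).2.2,
      coeff_zero_ne_of_dvd (dvd_charpoly_of_mem hx) (coeff_zero_charpoly_gl g)⟩
  refine eq_of_imgDim_eq (fun y hy => elemDiv_spec _ hy) (fun y hy => ?_) fun a ha hai k => ?_
  · obtain ⟨x, hx, rfl⟩ := Multiset.mem_map.1 hy
    obtain ⟨h1, h2, h3, h4⟩ := hD x hx
    exact ⟨monic_dual σ h4, irreducible_dual hσ h1 h4 h2, h3⟩
  by_cases h0 : a.coeff 0 = 0
  · have hne : ∀ y ∈ elemDiv (star' σ g).val, y.1 ≠ a := fun y hy h =>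
      coeff_zero_ne_of_dvd (dvd_charpoly_of_mem hy) (coeff_zero_charpoly_gl _) (h ▸ h0)
    have hne' : ∀ x ∈ elemDiv g.val, dual σ x.1 ≠ a := fun x hx h => by
      have := coeff_zero_dual σ (hD x hx).1
      rw [h, h0] at this
      exact inv_ne_zero ((map_ne_zero σ).2 (hD x hx).2.2.2) this.symm
    rw [imgDim, imgDim, Multiset.map_congr rfl fun y hy => if_neg (hne y hy), sum_elemDiv, Multiset.map_map,
      Multiset.map_congr rfl (g := fun x : F[X] × ℕ => x.2 * x.1.natDegree) fun x hx => ?_, sum_elemDiv]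
    simp only [Function.comp_apply]
    rw [if_neg (hne' x hx), natDegree_dual σ (hD x hx).2.2.2]
  · have hb0 : (dual σ a).coeff 0 ≠ 0 := by
      rw [coeff_zero_dual σ ha]; exact inv_ne_zero ((map_ne_zero σ).2 h0)
    rw [← rank_aeval_eq_imgDim _ ha hai, show a = dual σ (dual σ a) from (dual_dual σ hσ ha h0).symm,
      rank_star' hσ g hb0, rank_aeval_eq_imgDim _ (monic_dual σ h0) (irreducible_dual hσ ha h0 hai),
      dual_dual σ hσ ha h0, imgDim, imgDim, Multiset.map_map]
    refine congrArg _ (Multiset.map_congr rfl fun x hx => ?_)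
    obtain ⟨h1, -, -, h4⟩ := hD x hx
    simp only [Function.comp_apply]
    by_cases hxa : x.1 = dual σ a
    · rw [if_pos hxa, if_pos (by rw [hxa, dual_dual σ hσ ha h0]), natDegree_dual σ h0]
    · rw [if_neg hxa, if_neg (fun h => hxa (by rw [← h, dual_dual σ hσ h1 h4])), natDegree_dual σ h4]

end star

theorem elemDiv_companion {f : F[X]} (hm : f.Monic) (hi : Irreducible f) (h0 : f.coeff 0 ≠ 0) {e : ℕ} (he : 0 < e) :
    ∃ g : GL (Fin (f ^ e).natDegree) F, elemDiv g.val = {(f, e)} ∧ g.val.charpoly = f ^ e := by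
  let pb := AdjoinRoot.powerBasis (hm.pow e).ne_zero
  let M : Matrix (Fin (f ^ e).natDegree) (Fin (f ^ e).natDegree) F :=
    Algebra.leftMulMatrix pb.basis (AdjoinRoot.root (f ^ e))
  have hchar : M.charpoly = f ^ e := charpoly_root (hm.pow e)
  have hdet : M.det ≠ 0 := by
    rw [Matrix.det_eq_sign_charpoly_coeff, hchar, coeff_zero_eq_eval_zero, eval_pow, ← coeff_zero_eq_eval_zero]
    exact mul_ne_zero (pow_ne_zero _ (neg_ne_zero.2 one_ne_zero)) (pow_ne_zero _ h0)
  refine ⟨Matrix.GeneralLinearGroup.mkOfDetNeZero M hdet, ?_, hchar⟩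
  show elemDiv M = _
  let j : AdjoinRoot (f ^ e) ≃ₗ[F] (F[X] ⧸ Submodule.span F[X] {f ^ e}) :=
    { toFun := fun x => x
      invFun := fun x => x
      left_inv := fun _ => rfl
      right_inv := fun _ => rfl
      map_add' := fun _ _ => rfl
      map_smul' := fun c x => by
        obtain ⟨y, rfl⟩ := AdjoinRoot.mk_surjective x
        rfl }
  let ψ : (Fin (f ^ e).natDegree → F) ≃ₗ[F] Model (fun _ : Fin 1 => f) fun _ : Fin 1 => e :=
    (pb.basis.equivFun.symm.trans j).trans (LinearEquiv.funUnique (Fin 1) F _).symm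
  rw [elemDiv_eq_of_equiv (fun _ : Fin 1 => ⟨hm, hi, he⟩) (LinearEquiv.ofAEval (Matrix.toLin' M) ψ fun v => ?_)]
  · simp
  funext i
  show j (pb.basis.equivFun.symm (M *ᵥ v)) = (X : F[X]) • j (pb.basis.equivFun.symm v)
  obtain ⟨y, rfl⟩ := pb.basis.equivFun.surjective v
  have hmul : M *ᵥ pb.basis.equivFun y = pb.basis.equivFun (AdjoinRoot.root (f ^ e) * y) :=
    Algebra.leftMulMatrix_mulVec_repr pb.basis _ y
  rw [LinearEquiv.symm_apply_apply]
  refine (congrArg (fun w => j (pb.basis.equivFun.symm w)) hmul).trans ?_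
  rw [LinearEquiv.symm_apply_apply]
  obtain ⟨z, rfl⟩ := AdjoinRoot.mk_surjective y
  rfl

/-- Prescribed elementary divisors. -/
theorem exists_elemDiv_eq (D : Multiset (F[X] × ℕ))
    (h : ∀ x ∈ D, x.1.Monic ∧ Irreducible x.1 ∧ 0 < x.2 ∧ x.1.coeff 0 ≠ 0) :
    ∃ (n : ℕ) (g : GL (Fin n) F), elemDiv g.val = D ∧ g.val.charpoly = (D.map fun x => x.1 ^ x.2).prod := by
  induction D using Multiset.induction_on with
  | empty =>
    refine ⟨0, 1, Multiset.eq_zero_of_forall_notMem fun x hx => ?_, by simp [Matrix.charpoly]⟩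
    obtain ⟨h1, h2, h3⟩ := elemDiv_spec _ hx
    have := exp_le _ hx
    omega
  | cons a D ih =>
    obtain ⟨h1, h2, h3, h4⟩ := h a (Multiset.mem_cons_self a D)
    obtain ⟨n, g, hg, hgc⟩ := ih fun x hx => h x (Multiset.mem_cons_of_mem hx)
    obtain ⟨C, hC, hCc⟩ := elemDiv_companion h1 h2 h4 h3
    refine ⟨_, emb (C, g), by rw [elemDiv_emb, hC, hg, Multiset.singleton_add], ?_⟩
    rw [charpoly_emb, hCc, hgc, Multiset.map_cons, Multiset.prod_cons]

theorem charpoly_eq_prod_elemDiv {n : ℕ} (g : GL (Fin n) F) :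
    g.val.charpoly = ((elemDiv g.val).map fun x => x.1 ^ x.2).prod := by
  obtain ⟨m, A, hA, hAc⟩ := exists_elemDiv_eq (elemDiv g.val) fun x hx =>
    ⟨(elemDiv_spec _ hx).1, (elemDiv_spec _ hx).2.1, (elemDiv_spec _ hx).2.2,
      coeff_zero_ne_of_dvd (dvd_charpoly_of_mem hx) (coeff_zero_charpoly_gl g)⟩
  obtain rfl : n = m := by rw [← sum_elemDiv g.val, ← hA, sum_elemDiv]
  rw [← hAc, charpoly_eq_of_isConj (isConj_of_elemDiv_eq hA.symm)]

end CfsgLib.GLClass
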