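import Cfsg.Agent.GLClass.IsometryOrbit
import Cfsg.Agent.GLClass.UnitaryDiv
import Cfsg.Agent.GLClass.SLClasses

/-!
Classes of `Sp 2n q`, `q` odd, over the class invariants of `GL`.
-/

set_option autoImplicit false
set_option linter.unusedSectionVars false

namespace CfsgLib.GLClass.Symp

open Polynomial Matrix CfsgLib.Geo.USemi CfsgLib.GLClass.Layers
open scoped Classical

variable {F : Type*} [Field F] [Finite F]

theorem dual_X_sub_C {s : F} (hs : s * s = 1) : dual (RingHom.id F) (X - C s) = X - C s := by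
  have hs0 : s ≠ 0 := left_ne_zero_of_mul_eq_one hs
  have hrev : (X - C s).reverse = 1 - C s * X := by
    refine Polynomial.ext fun i => ?_
    rw [coeff_reverse, natDegree_X_sub_C]
    rcases i with _ | _ | i
    · simp [revAt_le]
    · simp [revAt_le, coeff_sub, coeff_one]
    · rw [revAt_eq_self_of_lt (show 1 < i + 2 by omega)]
      simp [coeff_sub, coeff_one, coeff_X]
  have hinv : s⁻¹ = s := inv_eq_of_mul_eq_one_right hs
  rw [dual, Polynomial.map_id, hrev, RingHom.id_apply]
  simp only [coeff_sub, coeff_X_zero, coeff_C_zero, zero_sub, inv_neg, hinv, C_neg]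
  have h1 : (C s : F[X]) * C s = 1 := by rw [← C_mul, hs, C_1]
  linear_combination X * h1

theorem eval_reverse_sign (h : F[X]) {s : F} (hs : s * s = 1) :
    h.reverse.eval s * s ^ h.natDegree = h.eval s := by
  letI : Invertible s := ⟨s, hs, hs⟩
  have := eval₂_reverse_mul_pow (RingHom.id F) s h
  rwa [show (⅟s : F) = s from rfl] at this

/-- A self-dual polynomial at `1` and at `-1`. -/
theorem eval_selfDual {h : F[X]} (hd : dual (RingHom.id F) h = h) {s : F} (hs : s * s = 1) :
    h.eval s * (h.coeff 0 * s ^ h.natDegree - 1) = 0 ∨ h.coeff 0 = 0 := by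
  rcases eq_or_ne (h.coeff 0) 0 with h0 | h0
  · exact Or.inr h0
  refine Or.inl ?_
  have h1 := congrArg (eval s) hd
  rw [dual, Polynomial.map_id, RingHom.id_apply, eval_mul, eval_C] at h1
  have h2 := eval_reverse_sign h hs
  have hp : s ^ h.natDegree * s ^ h.natDegree = 1 := by rw [← mul_pow, hs, one_pow]
  calc h.eval s * (h.coeff 0 * s ^ h.natDegree - 1)
      = (h.coeff 0)⁻¹ * h.reverse.eval s * (h.coeff 0 * s ^ h.natDegree) - h.eval s := by rw [h1]; ring
    _ = ((h.coeff 0)⁻¹ * h.coeff 0) * (h.reverse.eval s * s ^ h.natDegree) - h.eval s := by ring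
    _ = 0 := by rw [inv_mul_cancel₀ h0, one_mul, h2, sub_self]

theorem selfDual_even {M : Multiset F[X]} (h2 : (2 : F) ≠ 0) (hM : ∀ f ∈ M, f.Monic ∧ Irreducible f)
    (hd : dual (RingHom.id F) M.prod = M.prod) (h0 : M.prod.coeff 0 ≠ 0)
    (he : ∀ s : F, s * s = 1 → Even (M.count (X - C s))) :
    M.prod.coeff 0 = 1 ∧ Even M.prod.natDegree := by
  set T := M.filter fun f => ¬ (f = X - C 1 ∨ f = X - C (-1)) with hT
  set h := T.prod with hh
  obtain ⟨a, ha⟩ := he 1 (one_mul 1)
  obtain ⟨b, hb⟩ := he (-1) (by norm_num)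
  have hne : (X - C (1 : F)) ≠ X - C (-1) := fun e => h2 (by
    have := congrArg (eval (1 : F)) e
    simp only [eval_sub, eval_X, eval_C] at this
    linear_combination -this)
  have hsplit : M.prod = (X - C 1) ^ (a + a) * (X - C (-1)) ^ (b + b) * h := by
    rw [← ha, ← hb, ← Multiset.prod_replicate, ← Multiset.prod_replicate, hh, hT, ← Multiset.filter_eq',
      ← Multiset.filter_eq', ← Multiset.prod_add, ← Multiset.prod_add]
    congr 1
    revert hne
    generalize X - C (1 : F) = u
    generalize X - C (-1 : F) = v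
    intro hne
    refine Multiset.ext.2 fun x => ?_
    simp only [Multiset.count_add, Multiset.count_filter]
    rcases eq_or_ne x u with rfl | h1
    · simp [hne]
    rcases eq_or_ne x v with rfl | h3
    · simp [hne.symm]
    simp [h1, h3]
  have hroot : ∀ s : F, s * s = 1 → h.eval s ≠ 0 := by
    intro s hs h0'
    rw [hh, eval_multiset_prod, Multiset.prod_eq_zero_iff, Multiset.mem_map] at h0'
    obtain ⟨f, hf, hfs⟩ := h0'
    obtain ⟨hfM, hfn⟩ := Multiset.mem_filter.1 hf
    have hd : X - C s ∣ f := dvd_iff_isRoot.2 hfs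
    have hfe := (eq_of_monic_of_associated (monic_X_sub_C s) (hM f hfM).1
      ((irreducible_X_sub_C s).associated_of_dvd (hM f hfM).2 hd)).symm
    rcases mul_self_eq_one_iff.1 hs with rfl | rfl
    · exact hfn (Or.inl hfe)
    · exact hfn (Or.inr hfe)
  have hc0 : h.coeff 0 ≠ 0 := by
    intro hc
    rw [hsplit, mul_coeff_zero, hc, mul_zero] at h0
    exact h0 rfl
  have hdh : dual (RingHom.id F) h = h := by
    rw [hsplit, dual_mul, dual_mul, dual_pow (σ := RingHom.id F), dual_pow (σ := RingHom.id F), dual_X_sub_C (one_mul 1),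
      dual_X_sub_C (show (-1 : F) * -1 = 1 by norm_num)] at hd
    exact mul_left_cancel₀ (mul_ne_zero (pow_ne_zero _ (X_sub_C_ne_zero _)) (pow_ne_zero _ (X_sub_C_ne_zero _))) hd
  have h1 : h.coeff 0 = 1 := by
    have := ((eval_selfDual hdh (one_mul 1)).resolve_right hc0)
    rw [mul_eq_zero, one_pow, mul_one, sub_eq_zero] at this
    exact this.resolve_left (hroot 1 (one_mul 1))
  refine ⟨?_, ?_⟩
  · rw [hsplit, coeff_zero_eq_eval_zero, eval_mul, eval_mul, eval_pow, eval_pow, ← coeff_zero_eq_eval_zero h, h1]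
    simp
  · have := ((eval_selfDual hdh (show (-1 : F) * -1 = 1 by norm_num)).resolve_right hc0)
    rw [mul_eq_zero, h1, one_mul, sub_eq_zero] at this
    have hev : Even h.natDegree := by
      by_contra ho
      rw [Nat.not_even_iff_odd] at ho
      have h' := this.resolve_left (hroot (-1) (by norm_num))
      rw [ho.neg_one_pow] at h'
      exact h2 (by linear_combination -h')
    have hhm : h.Monic := by
      simpa [hh] using monic_multiset_prod_of_monic T id fun f hf => (hM f (Multiset.mem_of_mem_filter hf)).1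
    rw [hsplit, (((monic_X_sub_C _).pow _).mul ((monic_X_sub_C _).pow _)).natDegree_mul hhm,
      ((monic_X_sub_C _).pow _).natDegree_mul ((monic_X_sub_C _).pow _), natDegree_pow, natDegree_pow, natDegree_X_sub_C,
      natDegree_X_sub_C, mul_one, mul_one]
    exact ((Even.add_self a).add (Even.add_self b)).add hev

variable {n : ℕ}

/-- `Sp 2n` inside `GL`. -/
noncomputable def spGL : Matrix.symplecticGroup (Fin n) F →* GL (Fin (n + n)) F :=
  ((Matrix.reindexAlgEquiv F F finSumFinEquiv).toRingEquiv.toMonoidHom.comp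
    (Submonoid.subtype _)).toHomUnits

theorem spGL_val (x : Matrix.symplecticGroup (Fin n) F) :
    (spGL x).val = Matrix.reindexAlgEquiv F F finSumFinEquiv (x : Matrix (Fin n ⊕ Fin n) (Fin n ⊕ Fin n) F) := rfl

/-- The standard alternating form. -/
noncomputable def formJ (n : ℕ) (F : Type*) [Field F] : Matrix (Fin (n + n)) (Fin (n + n)) F :=
  Matrix.reindexAlgEquiv F F finSumFinEquiv (Matrix.J (Fin n) F)

theorem formJ_skew : (formJ n F)ᵀ = -formJ n F := by
  rw [formJ, Matrix.reindexAlgEquiv_apply, Matrix.transpose_reindex, Matrix.J_transpose]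
  ext i j
  rfl

theorem formJ_det : (formJ n F).det ≠ 0 := by
  rw [formJ, Matrix.reindexAlgEquiv_apply, Matrix.det_reindex_self]
  exact (Matrix.isUnit_det_J (Fin n) F).ne_zero

theorem spGL_form (x : Matrix.symplecticGroup (Fin n) F) :
    (spGL x).valᵀ * formJ n F * (spGL x).val = formJ n F := by
  have h := SymplecticGroup.mem_iff'.1 x.2
  rw [spGL_val, formJ, show (Matrix.reindexAlgEquiv F F finSumFinEquiv (x : Matrix (Fin n ⊕ Fin n) (Fin n ⊕ Fin n) F))ᵀ =
      Matrix.reindexAlgEquiv F F finSumFinEquiv (x : Matrix (Fin n ⊕ Fin n) (Fin n ⊕ Fin n) F)ᵀ by ext i j; rfl,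
    ← map_mul, ← map_mul, h]

/-- An element of `Sp` in a class, in `GL`. -/
noncomputable def clsSp (c : ConjClasses (Matrix.symplecticGroup (Fin n) F)) : GL (Fin (n + n)) F :=
  spGL (Quotient.out c)

theorem dual_polys {g : GL (Fin n) F} {B : Matrix (Fin n) (Fin n) F} (hB : g.valᵀ * B * g.val = B)
    (hdet : B.det ≠ 0) (j : ℕ) : dual (RingHom.id F) (polys (elemDiv g.val) j) = polys (elemDiv g.val) j := by
  obtain ⟨b, hb⟩ := (Matrix.isUnit_iff_isUnit_det B).2 (Ne.isUnit hdet)
  have hadj : CfsgLib.Unitary.adj (RingHom.id F) g.val = g.valᵀ := by ext i j; rfl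
  have hstar : (star' (RingHom.id F) g).val * B = B * g.val := by
    have h : CfsgLib.Unitary.adj (RingHom.id F) g.val * (star' (RingHom.id F) g).val = 1 := (star' (RingHom.id F) g).inv_mul
    rw [hadj] at h
    calc (star' (RingHom.id F) g).val * B = (star' (RingHom.id F) g).val * g.valᵀ * (B * g.val) := by
          rw [mul_assoc, ← mul_assoc g.valᵀ, hB]
      _ = B * g.val := by rw [mul_eq_one_comm.1 h, one_mul]
  have heq : elemDiv g.val = (elemDiv g.val).map fun x => (dual (RingHom.id F) x.1, x.2) := by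
    rw [← elemDiv_star' (σ := RingHom.id F) (fun a => rfl) g]
    refine elemDiv_eq_of_conj b ?_
    rw [hb, hstar]
  rw [polys, dual_prod, Multiset.map_map]
  conv_rhs => rw [heq, Multiset.filter_map, Multiset.map_map]
  rfl

/-- A representative with elementary divisor data. -/
structure Rep (g : GL (Fin n) F) where
  N : ℕ
  p : Fin N → F[X]
  e : Fin N → ℕ
  data : Data g p e
  eq : elemDiv g.val = Finset.univ.val.map fun i => (p i, e i)

theorem nonempty_rep (g : GL (Fin n) F) : Nonempty (Rep g) := by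
  obtain ⟨N, p, e, hd, h, ⟨φ⟩⟩ := exists_data_eq g.val
  refine ⟨⟨N, p, e, ⟨h, fun i => ?_, φ⟩, hd⟩⟩
  exact exp_le g.val (x := (p i, e i)) (by rw [hd]; exact Multiset.mem_map.2 ⟨i, Finset.mem_univ_val _, rfl⟩)

/-- The chosen representative. -/
noncomputable def theRep (g : GL (Fin n) F) : Rep g := (nonempty_rep g).some

theorem Rep.count_eq {g : GL (Fin n) F} (R : Rep g) (t : F[X] × ℕ) :
    (elemDiv g.val).count t = Fintype.card (Idx R.p R.e t) := by
  rw [R.eq, Multiset.count_map, Fintype.card_subtype, Finset.card_def, Finset.filter_val]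
  exact congrArg _ (Multiset.filter_congr fun i _ => by simp [typ, eq_comm])

theorem props_of_form (h2 : (2 : F) ≠ 0) {g : GL (Fin n) F} {B : Matrix (Fin n) (Fin n) F}
    (hB : g.valᵀ * B * g.val = B) (hskew : Bᵀ = -B) (hdet : B.det ≠ 0) {k : ℕ} (hk : Even k) :
    (polys (elemDiv g.val) (k + 1)).coeff 0 = 1 ∧ Even (polys (elemDiv g.val) (k + 1)).natDegree := by
  refine selfDual_even h2 (fun f hf => ?_) (dual_polys hB hdet (k + 1)) (coeff_zero_polys g _) fun s hs => ?_
  · obtain ⟨x, hx, rfl⟩ := Multiset.mem_map.1 hf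
    exact ⟨(elemDiv_spec _ (Multiset.mem_of_mem_filter hx)).1, (elemDiv_spec _ (Multiset.mem_of_mem_filter hx)).2.1⟩
  · obtain ⟨R⟩ := nonempty_rep g
    have hcount : (((elemDiv g.val).filter fun x => x.2 = k + 1).map Prod.fst).count (X - C s) =
        (elemDiv g.val).count (X - C s, k + 1) := by
      rw [Multiset.count_map, Multiset.filter_filter, Multiset.count_eq_card_filter_eq]
      exact congrArg _ (Multiset.filter_congr fun x _ => by simp [Prod.ext_iff, eq_comm])
    rw [hcount, R.count_eq]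
    by_contra ho
    rw [Nat.not_even_iff_odd] at ho
    refine gram_det_ne_zero R.data hB hdet hs k
      (CfsgLib.GraphInv.det_eq_zero_of_alt_odd (CfsgLib.GraphInv.isAltM_of_skew h2 ?_) ho)
    rw [gram_transpose R.data hB (ε := -1) (by rw [neg_smul, one_smul, hskew]) (by norm_num) hs, hk.neg_one_pow,
      one_mul, neg_smul, one_smul]

/-- Tuples that the classes of `Sp` can have. -/
abbrev SpTup (F : Type*) [Field F] (J m : ℕ) : Type _ :=
  {t : Tup F J m // ∀ i : Fin J, dual (RingHom.id F) (t.1 i) = t.1 i ∧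
    (Even (i : ℕ) → (t.1 i).coeff 0 = 1 ∧ Even (t.1 i).natDegree)}

/-- Marks of a polynomial: roots `1` and `-1` where the exponent is even. -/
abbrev Mark (f : F[X]) (P : Prop) : Type :=
  {b : Bool × Bool // (b.1 = true → P ∧ f.eval 1 = 0) ∧ (b.2 = true → P ∧ f.eval (-1) = 0)}

/-- A tuple with marks. -/
abbrev MarkTup (F : Type*) [Field F] (J m : ℕ) : Type _ :=
  Σ t : SpTup F J m, ∀ i : Fin J, Mark (t.1.1 i) (Odd (i : ℕ))

theorem isSquare_mul_of_iff (h2 : (2 : F) ≠ 0) {a b : F} (ha : a ≠ 0) (hb : b ≠ 0) (h : IsSquare a ↔ IsSquare b) :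
    IsSquare (a * b) := by
  cases nonempty_fintype F
  have hF : ringChar F ≠ 2 := fun hc => h2 (by
    haveI := ringChar.charP F
    rw [hc] at this
    exact CharTwo.two_eq_zero)
  rw [FiniteField.isSquare_iff hF (mul_ne_zero ha hb), mul_pow]
  rw [FiniteField.isSquare_iff hF ha, FiniteField.isSquare_iff hF hb] at h
  rcases FiniteField.pow_dichotomy hF ha with ha' | ha' <;> rcases FiniteField.pow_dichotomy hF hb with hb' | hb' <;>
    rw [ha', hb'] <;> rw [ha', hb'] at h
  · rw [one_mul]
  · exact absurd (h.1 rfl) (Ring.neg_one_ne_one_of_char_ne_two hF)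
  · exact absurd (h.2 rfl) (Ring.neg_one_ne_one_of_char_ne_two hF)
  · norm_num

theorem eval_polys_eq_zero {g : GL (Fin n) F} (R : Rep g) {s : F} {k : ℕ} (i : Idx R.p R.e (X - C s, k + 1)) :
    (polys (elemDiv g.val) (k + 1)).eval s = 0 := by
  have hi := i.2
  simp only [typ, Prod.mk.injEq] at hi
  have hmem : (X - C s) ∈ ((elemDiv g.val).filter fun x => x.2 = k + 1).map Prod.fst := by
    refine Multiset.mem_map.2 ⟨(X - C s, k + 1), Multiset.mem_filter.2 ⟨?_, rfl⟩, rfl⟩
    rw [R.eq]
    exact Multiset.mem_map.2 ⟨i.1, Finset.mem_univ_val _, Prod.ext hi.1 hi.2⟩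
  obtain ⟨r, hr⟩ := Multiset.dvd_prod hmem
  rw [polys, hr]
  simp

theorem isConj_of_congr {c d : ConjClasses (Matrix.symplecticGroup (Fin n) F)} {Y : GL (Fin (n + n)) F}
    (hY : Y.valᵀ * formJ n F * Y.val = formJ n F) (hg : Y.val * (clsSp d).val = (clsSp c).val * Y.val) : c = d := by
  let R := Matrix.reindexAlgEquiv F F (finSumFinEquiv (m := n) (n := n))
  have hmem : R.symm Y.val ∈ Matrix.symplecticGroup (Fin n) F := by
    rw [SymplecticGroup.mem_iff']
    apply R.injective
    rw [map_mul, map_mul, R.apply_symm_apply, show R (R.symm Y.val)ᵀ = Y.valᵀ by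
      rw [show (R.symm Y.val)ᵀ = R.symm Y.valᵀ by ext i j; rfl, R.apply_symm_apply]]
    exact hY
  let y : Matrix.symplecticGroup (Fin n) F := ⟨_, hmem⟩
  rw [← Quotient.out_eq c, ← Quotient.out_eq d]
  refine (Quotient.sound (?_ : IsConj (Quotient.out d) (Quotient.out c))).symm
  refine isConj_iff.2 ⟨y, ?_⟩
  rw [mul_inv_eq_iff_eq_mul]
  apply Subtype.ext
  apply R.injective
  show R ((y : Matrix (Fin n ⊕ Fin n) (Fin n ⊕ Fin n) F) * _) = R (_ * (y : Matrix (Fin n ⊕ Fin n) (Fin n ⊕ Fin n) F))
  rw [map_mul, map_mul, R.apply_symm_apply]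
  exact hg

/-- The representative of a tuple. -/
noncomputable def repGL (t : Tup F (n + n) (n + n)) : GL (Fin (n + n)) F :=
  if h : ∃ c : ConjClasses (Matrix.symplecticGroup (Fin n) F), tupOf (clsSp c) = t then clsSp h.choose else 1

theorem tupOf_repGL (c : ConjClasses (Matrix.symplecticGroup (Fin n) F)) :
    tupOf (repGL (tupOf (clsSp c))) = tupOf (clsSp c) := by
  have h : ∃ d : ConjClasses (Matrix.symplecticGroup (Fin n) F), tupOf (clsSp d) = tupOf (clsSp c) := ⟨c, rfl⟩
  rw [repGL, dif_pos h]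
  exact h.choose_spec

/-- The conjugator to the representative. -/
noncomputable def conjTo (c : ConjClasses (Matrix.symplecticGroup (Fin n) F)) : GL (Fin (n + n)) F :=
  (isConj_iff.1 (isConj_of_tupOf_eq (tupOf_repGL c).symm)).choose

theorem conjTo_spec (c : ConjClasses (Matrix.symplecticGroup (Fin n) F)) :
    conjTo c * clsSp c * (conjTo c)⁻¹ = repGL (tupOf (clsSp c)) :=
  (isConj_iff.1 (isConj_of_tupOf_eq (tupOf_repGL c).symm)).choose_spec

/-- The form carried to the representative. -/
noncomputable def formTo (c : ConjClasses (Matrix.symplecticGroup (Fin n) F)) : Matrix (Fin (n + n)) (Fin (n + n)) F :=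
  ((conjTo c)⁻¹).valᵀ * formJ n F * ((conjTo c)⁻¹).val

theorem formTo_fix (c : ConjClasses (Matrix.symplecticGroup (Fin n) F)) :
    (repGL (tupOf (clsSp c))).valᵀ * formTo c * (repGL (tupOf (clsSp c))).val = formTo c := by
  set X := conjTo c
  have hr : (X⁻¹).val * (repGL (tupOf (clsSp c))).val = (clsSp c).val * (X⁻¹).val := by
    rw [← conjTo_spec c, ← Units.val_mul, ← Units.val_mul, mul_assoc X, inv_mul_cancel_left]
  calc (repGL (tupOf (clsSp c))).valᵀ * formTo c * (repGL (tupOf (clsSp c))).val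
      = ((X⁻¹).val * (repGL (tupOf (clsSp c))).val)ᵀ * formJ n F * ((X⁻¹).val * (repGL (tupOf (clsSp c))).val) := by
        simp only [formTo, transpose_mul, mul_assoc]; rfl
    _ = (X⁻¹).valᵀ * ((clsSp c).valᵀ * formJ n F * (clsSp c).val) * (X⁻¹).val := by
        rw [hr]; simp only [transpose_mul, mul_assoc]
    _ = formTo c := by rw [clsSp, spGL_form]; rfl

theorem formTo_skew (c : ConjClasses (Matrix.symplecticGroup (Fin n) F)) : (formTo c)ᵀ = -formTo c := by
  rw [formTo, transpose_mul, transpose_mul, transpose_transpose, formJ_skew, Matrix.neg_mul, Matrix.mul_neg, mul_assoc]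

theorem formTo_det (c : ConjClasses (Matrix.symplecticGroup (Fin n) F)) : (formTo c).det ≠ 0 := by
  rw [formTo, det_mul, det_mul, det_transpose]
  exact mul_ne_zero (mul_ne_zero (det_ne_zero_gl _) formJ_det) (det_ne_zero_gl _)

/-- Whether a layer of a form has square discriminant. -/
noncomputable def bit {t : Tup F (n + n) (n + n)} (B : Matrix (Fin (n + n)) (Fin (n + n)) F) (s : F) (i : Fin (n + n)) :
    Bool :=
  decide (Odd (i : ℕ) ∧ (t.1 i).eval s = 0 ∧ IsSquare (gram (theRep (repGL t)).data B s i).det)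

/-- The invariant of a class of `Sp`. -/
noncomputable def spInv (h2 : (2 : F) ≠ 0) (c : ConjClasses (Matrix.symplecticGroup (Fin n) F)) :
    MarkTup F (n + n) (n + n) :=
  ⟨⟨tupOf (clsSp c), fun _ => ⟨dual_polys (spGL_form _) formJ_det _,
      fun hi => props_of_form h2 (spGL_form _) formJ_skew formJ_det hi⟩⟩,
    fun i => ⟨(bit (t := tupOf (clsSp c)) (formTo c) 1 i, bit (t := tupOf (clsSp c)) (formTo c) (-1) i),
      fun h => ⟨(of_decide_eq_true h).1, (of_decide_eq_true h).2.1⟩,
      fun h => ⟨(of_decide_eq_true h).1, (of_decide_eq_true h).2.1⟩⟩⟩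

theorem spInv_injective (h2 : (2 : F) ≠ 0) : Function.Injective (spInv (n := n) (F := F) h2) := by
  intro c d hcd
  have ht : tupOf (clsSp c) = tupOf (clsSp d) := congrArg (fun x => x.1.1) hcd
  have hb : ∀ (i : Fin (n + n)) (s : F), s * s = 1 →
      bit (t := tupOf (clsSp c)) (formTo c) s i = bit (t := tupOf (clsSp d)) (formTo d) s i := by
    intro i s hs
    have h := congrArg (fun x : MarkTup F (n + n) (n + n) => (x.2 i).1) hcd
    rcases mul_self_eq_one_iff.1 hs with rfl | rfl
    · exact congrArg Prod.fst h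
    · exact congrArg Prod.snd h
  obtain ⟨t, hc⟩ : ∃ t, t = tupOf (clsSp c) := ⟨_, rfl⟩
  have hBc := formTo_fix c
  have hBd := formTo_fix d
  rw [← hc] at ht hb hBc
  rw [← ht] at hb hBd
  have hinv : ∀ s : F, s * s = 1 → ∀ k, Odd k →
      IsSquare ((gram (theRep (repGL t)).data (formTo c) s k).det * (gram (theRep (repGL t)).data (formTo d) s k).det) := by
    intro s hs k hk
    rcases isEmpty_or_nonempty (Idx (theRep (repGL t)).p (theRep (repGL t)).e (X - C s, k + 1)) with hE | ⟨⟨i⟩⟩
    · rw [Matrix.det_isEmpty, Matrix.det_isEmpty, one_mul]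
      exact IsSquare.one
    have hkn : k < n + n := by
      have h1 := (theRep (repGL t)).data.exp_le i.1
      have h3 : (theRep (repGL t)).e i.1 = k + 1 := congrArg Prod.snd i.2
      omega
    have hroot : (t.1 ⟨k, hkn⟩).eval s = 0 := by
      have h1 := eval_polys_eq_zero _ i
      have h3 : tupOf (repGL t) = t := by rw [hc, tupOf_repGL]
      rw [← h3]
      exact h1
    refine isSquare_mul_of_iff h2 (gram_det_ne_zero _ hBc (formTo_det c) hs k)
      (gram_det_ne_zero _ hBd (formTo_det d) hs k) ?_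
    have h := hb ⟨k, hkn⟩ s hs
    simp only [bit, decide_eq_decide] at h
    exact ⟨fun h' => (h.1 ⟨hk, hroot, h'⟩).2.2, fun h' => (h.2 ⟨hk, hroot, h'⟩).2.2⟩
  obtain ⟨C, hC, hCB⟩ := exists_congr_forms (theRep (repGL t)).data h2 hBc hBd (formTo_skew c) (formTo_skew d)
    (formTo_det c) (formTo_det d) hinv
  have hCdet : C.det ≠ 0 := by
    intro h0
    have h1 := congrArg Matrix.det hCB
    rw [det_mul, h0, mul_zero] at h1
    exact formTo_det d h1.symm
  let Y : GL (Fin (n + n)) F := (conjTo c)⁻¹ * Matrix.GeneralLinearGroup.mkOfDetNeZero C hCdet * conjTo d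
  have hYv : Y.val = ((conjTo c)⁻¹).val * C * (conjTo d).val := rfl
  refine isConj_of_congr (Y := Y) ?_ ?_
  · rw [hYv]
    calc (((conjTo c)⁻¹).val * C * (conjTo d).val)ᵀ * formJ n F * (((conjTo c)⁻¹).val * C * (conjTo d).val)
        = (conjTo d).valᵀ * (Cᵀ * formTo c * C) * (conjTo d).val := by simp only [formTo, transpose_mul, mul_assoc]
      _ = formJ n F := by
          rw [hCB, formTo, ← mul_assoc, ← mul_assoc, ← transpose_mul, Units.inv_mul, transpose_one, one_mul, mul_assoc,
            Units.inv_mul, mul_one]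
  · have hd' : (conjTo d).val * (clsSp d).val = (repGL t).val * (conjTo d).val := by
      rw [ht, ← conjTo_spec d, ← Units.val_mul, ← Units.val_mul, inv_mul_cancel_right]
    have hc' : ((conjTo c)⁻¹).val * (repGL t).val = (clsSp c).val * ((conjTo c)⁻¹).val := by
      rw [hc, ← conjTo_spec c, ← Units.val_mul, ← Units.val_mul, mul_assoc (conjTo c), inv_mul_cancel_left]
    rw [hYv, mul_assoc, hd', mul_assoc, ← mul_assoc C, ← hC.eq, mul_assoc (repGL t).val C, ← mul_assoc, hc']
    simp only [mul_assoc]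

end CfsgLib.GLClass.Symp
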