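import Cfsg.Agent.GLClass.SymplecticClasses
import Cfsg.Agent.GLClass.ShiftCount
import Cfsg.Agent.Geo.SpSemiClasses

/-!
Counting marked self-dual tuples: `k (Sp 2n q) ≤ 10.8 q ^ n` for odd `q`.
-/

set_option autoImplicit false
set_option linter.unusedSectionVars false

namespace CfsgLib.GLClass.Symp

open Polynomial Matrix CfsgLib.Geo.USemi
open scoped Classical

/-- The number of self-dual polynomials of degree `d`. -/
def nsd (q : ℕ) : ℕ → ℕ
  | 0 => 1
  | 1 => 2
  | 2 => q + 1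
  | d + 3 => q * nsd q (d + 1)

theorem nsd_odd (q : ℕ) : ∀ c, nsd q (2 * c + 1) = 2 * q ^ c
  | 0 => by simp [nsd]
  | c + 1 => by rw [show 2 * (c + 1) + 1 = 2 * c + 3 by ring, nsd, nsd_odd q c]; ring

theorem nsd_even (q : ℕ) : ∀ c, nsd q (2 * c + 2) = q ^ (c + 1) + q ^ c
  | 0 => by simp [nsd]
  | c + 1 => by rw [show 2 * (c + 1) + 2 = 2 * c + 1 + 3 by ring, nsd, nsd_even q c]; ring

/-- Self-dual polynomials weighted by the marks of the roots `1` and `-1`. -/
def wgt (q d : ℕ) : ℕ :=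
  nsd q d + 2 * (if 1 ≤ d then nsd q (d - 1) else 0) + (if 2 ≤ d then nsd q (d - 2) else 0)

/-- The contribution of exponent `k` in degree `d`. -/
def cS (q k d : ℕ) : ℕ :=
  if Even k then wgt q d else if Even d then q ^ (d / 2) else 0

/-- Marked tuples with exponents `2, …, J + 1`. -/
def sCount (q : ℕ) : ℕ → ℕ → ℕ
  | 0, n => if n = 0 then 1 else 0
  | J + 1, n => ∑ m ∈ Finset.range (n / (J + 2) + 1), cS q (J + 2) m * sCount q J (n - (J + 2) * m)

variable {F : Type*} [Field F] [Fintype F]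

/-- Self-dual polynomials of degree `d`. -/
abbrev SD (F : Type*) [Field F] (d : ℕ) : Type _ := {f : GoodPoly F d // dual (RingHom.id F) f.1 = f.1}

theorem coeff_zero_sq {f : F[X]} (hm : f.Monic) (h0 : f.coeff 0 ≠ 0) (hf : dual (RingHom.id F) f = f) :
    f.coeff 0 * f.coeff 0 = 1 := by
  have h := coeff_zero_dual (RingHom.id F) hm
  rw [hf, RingHom.id_apply] at h
  calc f.coeff 0 * f.coeff 0 = f.coeff 0 * (f.coeff 0)⁻¹ := congrArg (f.coeff 0 * ·) h
    _ = 1 := mul_inv_cancel₀ h0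

theorem exists_factor_root {d : ℕ} (f : SD F d) {s : F} (hs : s * s = 1) (hroot : f.1.1.eval s = 0) :
    ∃ g : SD F (d - 1), 1 ≤ d ∧ f.1.1 = (X - C s) * g.1.1 ∧ g.1.1.coeff 0 = -s * f.1.1.coeff 0 := by
  obtain ⟨g, hg⟩ := dvd_iff_isRoot.2 hroot
  obtain ⟨⟨f, hm, hd, h0⟩, hf⟩ := f
  simp only at hg hroot hf ⊢
  have hgm : g.Monic := (monic_X_sub_C s).of_mul_monic_left (hg ▸ hm)
  have hdeg : d = 1 + g.natDegree := by rw [← hd, hg, (monic_X_sub_C s).natDegree_mul hgm, natDegree_X_sub_C]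
  have hg0 : g.coeff 0 = -s * f.coeff 0 := by
    rw [hg, mul_coeff_zero]
    simp [← mul_assoc, hs]
  refine ⟨⟨⟨g, hgm, by omega, ?_⟩, ?_⟩, by omega, hg, hg0⟩
  · rw [hg0]; exact mul_ne_zero (neg_ne_zero.2 (left_ne_zero_of_mul_eq_one hs)) h0
  · rw [hg, dual_mul, dual_X_sub_C hs] at hf
    exact mul_left_cancel₀ (X_sub_C_ne_zero s) hf

theorem card_one_le (c : ℕ) :
    Nat.card {f : SD F (c + c) // f.1.1.coeff 0 = 1} ≤ Fintype.card F ^ c := by
  have : Finite {f : F[X] // f.Monic ∧ f.natDegree = c + c ∧ f.coeff 0 = 1 ∧ dual (RingHom.id F) f = f} :=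
    Finite.of_injective (fun f => (⟨f.1, f.2.1, f.2.2.1, by rw [f.2.2.2.1]; exact one_ne_zero⟩ : GoodPoly F (c + c)))
      fun f g h => Subtype.ext (congrArg (fun x : GoodPoly F (c + c) => x.1) h)
  rw [← CfsgLib.Geo.SpSemiClasses.card_polys (K := F) c]
  refine Nat.card_le_card_of_injective
    (fun f => (⟨f.1.1.1, f.1.1.2.1, f.1.1.2.2.1, f.2, f.1.2⟩ :
      {f : F[X] // f.Monic ∧ f.natDegree = c + c ∧ f.coeff 0 = 1 ∧ dual (RingHom.id F) f = f})) fun f g h => ?_
  exact Subtype.ext (Subtype.ext (Subtype.ext (congrArg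
    (fun x : {f : F[X] // f.Monic ∧ f.natDegree = c + c ∧ f.coeff 0 = 1 ∧ dual (RingHom.id F) f = f} => x.1) h)))

theorem card_sd_le (h2 : (2 : F) ≠ 0) (d : ℕ) : Nat.card (SD F d) ≤ nsd (Fintype.card F) d := by
  rcases d with _ | d
  · haveI : Subsingleton (SD F 0) := ⟨fun f g => Subtype.ext (Subtype.ext (by
      rw [f.1.2.1.natDegree_eq_zero.1 f.1.2.2.1, g.1.2.1.natDegree_eq_zero.1 g.1.2.2.1]))⟩
    exact Finite.card_le_one_iff_subsingleton.2 inferInstance
  have hs1 : ∀ f : SD F (d + 1), f.1.1.coeff 0 = 1 ∨ f.1.1.coeff 0 = -1 := fun f =>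
    mul_self_eq_one_iff.1 (coeff_zero_sq f.1.2.1 f.1.2.2.2 f.2)
  have hroot : ∀ f : SD F (d + 1), ∀ s : F, s * s = 1 → f.1.1.coeff 0 * s ^ (d + 1) ≠ 1 → f.1.1.eval s = 0 := by
    intro f s hs hne
    have := (eval_selfDual f.2 hs).resolve_right f.1.2.2.2
    rw [f.1.2.2.1] at this
    exact (mul_eq_zero.1 this).resolve_right (sub_ne_zero.2 hne)
  have hneg : (-1 : F) ≠ 1 := fun h => h2 (by linear_combination -h)
  rcases Nat.even_or_odd' d with ⟨c, rfl | rfl⟩
  · -- odd degree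
    rw [nsd_odd]
    have hex : ∀ f : SD F (2 * c + 1), ∃ x : Bool × {g : SD F (c + c) // g.1.1.coeff 0 = 1},
        f.1.1 = (X - C (if x.1 then (1 : F) else -1)) * x.2.1.1.1 := by
      intro f
      rcases hs1 f with h | h
      · obtain ⟨g, -, hg, hg0⟩ := exists_factor_root f (show (-1 : F) * -1 = 1 by norm_num)
          (hroot f (-1) (by norm_num) (by rw [h, (odd_two_mul_add_one c).neg_one_pow, one_mul]; exact hneg))
        refine ⟨(false, ⟨⟨⟨g.1.1, g.1.2.1, ?_, g.1.2.2.2⟩, g.2⟩, ?_⟩), by simpa using hg⟩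
        · rw [g.1.2.2.1]; omega
        · rw [hg0, h]; norm_num
      · obtain ⟨g, -, hg, hg0⟩ := exists_factor_root f (one_mul (1 : F))
          (hroot f 1 (one_mul 1) (by rw [h, one_pow, mul_one]; exact hneg))
        refine ⟨(true, ⟨⟨⟨g.1.1, g.1.2.1, ?_, g.1.2.2.2⟩, g.2⟩, ?_⟩), by simpa using hg⟩
        · rw [g.1.2.2.1]; omega
        · rw [hg0, h]; norm_num
    choose Φ hΦ using hex
    refine (Nat.card_le_card_of_injective Φ fun f g h => Subtype.ext (Subtype.ext (by rw [hΦ f, hΦ g, h]))).trans ?_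
    rw [Nat.card_prod, Nat.card_eq_fintype_card (α := Bool), Fintype.card_bool]
    exact Nat.mul_le_mul_left _ (card_one_le c)
  · -- even degree
    rw [show 2 * c + 1 + 1 = 2 * c + 2 from rfl, nsd_even]
    have hex : ∀ f : SD F (2 * c + 1 + 1), ∃ x : {g : SD F ((c + 1) + (c + 1)) // g.1.1.coeff 0 = 1} ⊕
        {g : SD F (c + c) // g.1.1.coeff 0 = 1},
        f.1.1 = x.elim (fun g => g.1.1.1) (fun g => (X - C 1) * (X - C (-1)) * g.1.1.1) := by
      intro f
      rcases hs1 f with h | h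
      · exact ⟨Sum.inl ⟨⟨⟨f.1.1, f.1.2.1, by rw [f.1.2.2.1]; omega, f.1.2.2.2⟩, f.2⟩, h⟩, rfl⟩
      · obtain ⟨g, -, hg, hg0⟩ := exists_factor_root f (one_mul (1 : F))
          (hroot f 1 (one_mul 1) (by rw [h, one_pow, mul_one]; exact hneg))
        have hge : g.1.1.eval (-1) = 0 := by
          have he : f.1.1.eval (-1) = 0 := hroot f (-1) (by norm_num) (by
            rw [h, show (-1 : F) ^ (2 * c + 1 + 1) = 1 from Even.neg_one_pow ⟨c + 1, by ring⟩, mul_one]; exact hneg)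
          rw [hg, eval_mul, mul_eq_zero] at he
          refine he.resolve_left ?_
          simp only [eval_sub, eval_X, eval_C]
          exact fun e => h2 (by linear_combination -e)
        obtain ⟨g', -, hg', hg0'⟩ := exists_factor_root g (show (-1 : F) * -1 = 1 by norm_num) hge
        refine ⟨Sum.inr ⟨⟨⟨g'.1.1, g'.1.2.1, ?_, g'.1.2.2.2⟩, g'.2⟩, ?_⟩, ?_⟩
        · rw [g'.1.2.2.1]; omega
        · rw [hg0', hg0, h]; norm_num
        · simp only [Sum.elim_inr]
          exact hg.trans (by rw [hg', mul_assoc])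
    choose Φ hΦ using hex
    refine (Nat.card_le_card_of_injective Φ fun f g h => Subtype.ext (Subtype.ext (by rw [hΦ f, hΦ g, h]))).trans ?_
    rw [Nat.card_sum]
    exact Nat.add_le_add (card_one_le (c + 1)) (card_one_le c)

/-- One marked polynomial of exponent `J + 2`. -/
abbrev MP (F : Type*) [Field F] (J d : ℕ) : Type _ :=
  Σ f : {f : SD F d // Odd J → f.1.1.coeff 0 = 1 ∧ Even d}, Mark f.1.1.1 (Even J)

theorem mp_ext {J d : ℕ} (x y : MP F J d) (h1 : x.1.1.1.1 = y.1.1.1.1) (h2 : x.2.1 = y.2.1) : x = y := by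
  obtain ⟨⟨⟨⟨f, hf⟩, hf'⟩, hf''⟩, m⟩ := x
  obtain ⟨⟨⟨⟨f', hg⟩, hg'⟩, hg''⟩, m'⟩ := y
  simp only at h1
  subst h1
  simp only at h2
  exact congrArg (Sigma.mk _) (Subtype.ext h2)

theorem card_mp_le (h2 : (2 : F) ≠ 0) (J d : ℕ) : Nat.card (MP F J d) ≤ cS (Fintype.card F) (J + 2) d := by
  rcases Nat.even_or_odd J with hJ | hJ
  · rw [cS, if_pos (hJ.add even_two)]
    have hex : ∀ x : MP F J d, ∃ y : SD F d ⊕ (Bool × {g : SD F (d - 1) // 1 ≤ d}) ⊕ {g : SD F (d - 2) // 2 ≤ d},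
        (x.1.1.1.1, x.2.1) = y.elim (fun g => (g.1.1, (false, false))) (Sum.elim
          (fun g => ((X - C (if g.1 then (1 : F) else -1)) * g.2.1.1.1, (g.1, !g.1)))
          (fun g => ((X - C 1) * (X - C (-1)) * g.1.1.1, (true, true)))) := by
      rintro ⟨⟨f, hf⟩, ⟨⟨b1, b2⟩, hb1, hb2⟩⟩
      rcases b1 with _ | _ <;> rcases b2 with _ | _
      · exact ⟨Sum.inl f, rfl⟩
      · obtain ⟨g, hd, hg, -⟩ := exists_factor_root f (show (-1 : F) * -1 = 1 by norm_num) (hb2 rfl).2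
        exact ⟨Sum.inr (Sum.inl (false, ⟨g, hd⟩)), by simp [hg]⟩
      · obtain ⟨g, hd, hg, -⟩ := exists_factor_root f (one_mul (1 : F)) (hb1 rfl).2
        exact ⟨Sum.inr (Sum.inl (true, ⟨g, hd⟩)), by simp [hg]⟩
      · obtain ⟨g, hd, hg, -⟩ := exists_factor_root f (one_mul (1 : F)) (hb1 rfl).2
        have hge : g.1.1.eval (-1) = 0 := by
          have he : f.1.1.eval (-1) = 0 := (hb2 rfl).2
          rw [hg, eval_mul, mul_eq_zero] at he
          refine he.resolve_left ?_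
          simp only [eval_sub, eval_X, eval_C]
          exact fun e => h2 (by linear_combination -e)
        obtain ⟨g', hd', hg', -⟩ := exists_factor_root g (show (-1 : F) * -1 = 1 by norm_num) hge
        exact ⟨Sum.inr (Sum.inr ⟨⟨⟨g'.1.1, g'.1.2.1, by rw [g'.1.2.2.1]; omega, g'.1.2.2.2⟩, g'.2⟩, by omega⟩),
          by simp [hg, hg', mul_assoc]⟩
    choose Φ hΦ using hex
    refine (Nat.card_le_card_of_injective Φ fun x y h => ?_).trans ?_
    · have e := (hΦ x).trans ((congrArg _ h).trans (hΦ y).symm)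
      exact mp_ext x y (congrArg Prod.fst e) (congrArg Prod.snd e)
    rw [Nat.card_sum, Nat.card_sum, Nat.card_prod, Nat.card_eq_fintype_card (α := Bool), Fintype.card_bool, wgt,
      add_assoc]
    refine Nat.add_le_add (card_sd_le h2 d) (Nat.add_le_add (Nat.mul_le_mul_left _ ?_) ?_)
    · split_ifs with hd
      · exact (Nat.card_le_card_of_injective Subtype.val Subtype.val_injective).trans (card_sd_le h2 _)
      · haveI : IsEmpty {g : SD F (d - 1) // 1 ≤ d} := ⟨fun g => hd g.2⟩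
        exact Nat.card_of_isEmpty.le
    · split_ifs with hd
      · exact (Nat.card_le_card_of_injective Subtype.val Subtype.val_injective).trans (card_sd_le h2 _)
      · haveI : IsEmpty {g : SD F (d - 2) // 2 ≤ d} := ⟨fun g => hd g.2⟩
        exact Nat.card_of_isEmpty.le
  · rw [cS, if_neg (Nat.not_even_iff_odd.2 (hJ.add_even even_two))]
    split_ifs with hd
    · obtain ⟨c, rfl⟩ := hd
      rw [show (c + c) / 2 = c by omega]
      refine (Nat.card_le_card_of_injective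
        (fun x => (⟨x.1.1, (x.1.2 hJ).1⟩ : {f : SD F (c + c) // f.1.1.coeff 0 = 1})) fun x y h => ?_).trans (card_one_le c)
      have hb : ∀ z : MP F J (c + c), z.2.1 = (false, false) := fun z => by
        refine Prod.ext ?_ ?_ <;> refine Bool.eq_false_iff.2 fun hz => ?_
        · exact Nat.not_even_iff_odd.2 hJ (z.2.2.1 hz).1
        · exact Nat.not_even_iff_odd.2 hJ (z.2.2.2 hz).1
      exact mp_ext x y (congrArg (fun z => z.1.1.1) h) ((hb x).trans (hb y).symm)
    · haveI : IsEmpty (MP F J d) := ⟨fun x => hd (x.1.2 hJ).2⟩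
      exact Nat.card_of_isEmpty.le

/-- Marked shifted tuples. -/
abbrev MTw (F : Type*) [Field F] (J N : ℕ) : Type _ :=
  Σ h : {h : Tw F J N // ∀ i : Fin J, dual (RingHom.id F) (h.1 i) = h.1 i ∧
      (Odd (i : ℕ) → (h.1 i).coeff 0 = 1 ∧ Even (h.1 i).natDegree)}, ∀ i : Fin J, Mark (h.1.1 i) (Even (i : ℕ))

theorem mtw_ext {J N : ℕ} (x y : MTw F J N) (h1 : x.1.1.1 = y.1.1.1) (h2 : ∀ i, (x.2 i).1 = (y.2 i).1) : x = y := by
  obtain ⟨⟨⟨f, hf⟩, hf'⟩, m⟩ := x
  obtain ⟨⟨⟨f', hg⟩, hg'⟩, m'⟩ := y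
  simp only at h1
  subst h1
  exact congrArg (Sigma.mk _) (funext fun i => Subtype.ext (h2 i))

theorem card_mtw_le (h2 : (2 : F) ≠ 0) : ∀ J N : ℕ, Nat.card (MTw F J N) ≤ sCount (Fintype.card F) J N
  | 0, N => by
    refine (Nat.card_le_card_of_injective (fun x : MTw F 0 N => x.1.1) fun x y h =>
      mtw_ext x y (congrArg Subtype.val h) fun i => i.elim0).trans_eq ?_
    rw [card_tw]; rfl
  | J + 1, N => by
    let Φ : MTw F (J + 1) N →
        (r : Fin (N / (J + 2) + 1)) × (MP F J r × MTw F J (N - (J + 2) * r)) := fun x =>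
      ⟨(twEquiv J N x.1.1).1,
        ⟨⟨⟨(twEquiv J N x.1.1).2.1, (x.1.2 (Fin.last J)).1⟩, fun hJ => (x.1.2 (Fin.last J)).2 hJ⟩, x.2 (Fin.last J)⟩,
        ⟨⟨(twEquiv J N x.1.1).2.2, fun i => x.1.2 i.castSucc⟩, fun i => x.2 i.castSucc⟩⟩
    have hinj : Function.Injective Φ := by
      intro x y he
      have a1 : x.1.1.1 (Fin.last J) = y.1.1.1 (Fin.last J) := congrArg (fun z => z.2.1.1.1.1.1) he
      have a2 : (fun i : Fin J => x.1.1.1 i.castSucc) = fun i : Fin J => y.1.1.1 i.castSucc :=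
        congrArg (fun z => z.2.2.1.1.1) he
      have b1 : (x.2 (Fin.last J)).1 = (y.2 (Fin.last J)).1 := congrArg (fun z => z.2.1.2.1) he
      have b2 : (fun i : Fin J => (x.2 i.castSucc).1) = fun i : Fin J => (y.2 i.castSucc).1 :=
        congrArg (fun z => fun i : Fin J => (z.2.2.2 i).1) he
      refine mtw_ext x y (funext fun i => ?_) fun i => ?_
      · exact Fin.lastCases a1 (fun j => congrFun a2 j) i
      · exact Fin.lastCases b1 (fun j => congrFun b2 j) i
    refine (Nat.card_le_card_of_injective Φ hinj).trans ?_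
    rw [Nat.card_sigma, sCount, ← Fin.sum_univ_eq_sum_range
      (fun r => cS (Fintype.card F) (J + 2) r * sCount (Fintype.card F) J (N - (J + 2) * r))]
    refine Finset.sum_le_sum fun r _ => ?_
    rw [Nat.card_prod]
    exact Nat.mul_le_mul (card_mp_le h2 J r) (card_mtw_le h2 J _)

theorem card_markTup_le (h2 : (2 : F) ≠ 0) (J N : ℕ) :
    Nat.card (MarkTup F (J + 1) N) ≤
      ∑ d ∈ Finset.range (N + 1), (if Even d then Fintype.card F ^ (d / 2) else 0) * sCount (Fintype.card F) J (N - d) := by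
  let Φ : MarkTup F (J + 1) N →
      (d : Fin (N + 1)) × ({f : SD F d // f.1.1.coeff 0 = 1 ∧ Even (d : ℕ)} × MTw F J (N - d)) := fun x =>
    ⟨(headEquiv J N x.1.1).1,
      ⟨⟨(headEquiv J N x.1.1).2.1, (x.1.2 0).1⟩, (x.1.2 0).2 (by simp)⟩,
      ⟨⟨(headEquiv J N x.1.1).2.2, fun i => ⟨(x.1.2 i.succ).1, fun hi => (x.1.2 i.succ).2 (by
          rw [Fin.val_succ]; exact hi.add_odd odd_one)⟩⟩,
        fun i => ⟨(x.2 i.succ).1,
          fun h => ⟨by
            have := ((x.2 i.succ).2.1 h).1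
            rw [Fin.val_succ] at this
            by_contra hc
            exact Nat.not_even_iff_odd.2 this ((Nat.not_even_iff_odd.1 hc).add_odd odd_one), ((x.2 i.succ).2.1 h).2⟩,
          fun h => ⟨by
            have := ((x.2 i.succ).2.2 h).1
            rw [Fin.val_succ] at this
            by_contra hc
            exact Nat.not_even_iff_odd.2 this ((Nat.not_even_iff_odd.1 hc).add_odd odd_one), ((x.2 i.succ).2.2 h).2⟩⟩⟩⟩
  have hinj : Function.Injective Φ := by
    intro x y he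
    have a1 : x.1.1.1 0 = y.1.1.1 0 := congrArg (fun z => z.2.1.1.1.1) he
    have a2 : (fun i : Fin J => x.1.1.1 i.succ) = fun i : Fin J => y.1.1.1 i.succ :=
      congrArg (fun z => z.2.2.1.1.1) he
    have b2 : (fun i : Fin J => (x.2 i.succ).1) = fun i : Fin J => (y.2 i.succ).1 :=
      congrArg (fun z => fun i : Fin J => (z.2.2.2 i).1) he
    have ha : x.1.1.1 = y.1.1.1 := funext fun i => Fin.cases a1 (fun j => congrFun a2 j) i
    have hb : ∀ (z : MarkTup F (J + 1) N), (z.2 0).1 = (false, false) := fun z => by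
      refine Prod.ext ?_ ?_ <;> refine Bool.eq_false_iff.2 fun hz => ?_
      · have := ((z.2 0).2.1 hz).1
        simp at this
      · have := ((z.2 0).2.2 hz).1
        simp at this
    obtain ⟨⟨⟨f, hf⟩, hf'⟩, m⟩ := x
    obtain ⟨⟨⟨f', hg⟩, hg'⟩, m'⟩ := y
    simp only at ha
    subst ha
    refine congrArg (Sigma.mk _) (funext fun i => Subtype.ext ?_)
    exact Fin.cases ((hb ⟨⟨⟨f, hf⟩, hf'⟩, m⟩).trans (hb ⟨⟨⟨f, hg⟩, hg'⟩, m'⟩).symm) (fun j => congrFun b2 j) i
  refine (Nat.card_le_card_of_injective Φ hinj).trans ?_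
  rw [Nat.card_sigma, ← Fin.sum_univ_eq_sum_range
    (fun d => (if Even d then Fintype.card F ^ (d / 2) else 0) * sCount (Fintype.card F) J (N - d))]
  refine Finset.sum_le_sum fun d _ => ?_
  rw [Nat.card_prod]
  refine Nat.mul_le_mul ?_ (card_mtw_le h2 J _)
  obtain ⟨d, hdN⟩ := d
  simp only
  split_ifs with hd
  · obtain ⟨c, rfl⟩ := hd
    rw [show (c + c) / 2 = c by omega]
    refine (Nat.card_le_card_of_injective
      (fun f => (⟨f.1, f.2.1⟩ : {f : SD F (c + c) // f.1.1.coeff 0 = 1})) fun f g h => ?_).trans (card_one_le c)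
    exact Subtype.ext (congrArg (fun z : {f : SD F (c + c) // f.1.1.coeff 0 = 1} => z.1) h)
  · haveI : IsEmpty {f : SD F d // f.1.1.coeff 0 = 1 ∧ Even d} := ⟨fun f => hd f.2.2⟩
    exact Nat.card_of_isEmpty.le

end CfsgLib.GLClass.Symp
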