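import Cfsg.Agent.GLClass.UnitaryCount

/-!
The arithmetic for `k (SU n q) ≤ 8.26 q ^ (n - 1)`.
-/

set_option autoImplicit false

namespace CfsgLib.GLClass

theorem scale_mono {q a b k l : ℕ} (hq : 2 ≤ q) (h : a * 2 ^ k ≤ b * q ^ k) (hkl : k ≤ l) :
    a * 2 ^ l ≤ b * q ^ l := by
  obtain ⟨r, rfl⟩ := Nat.exists_eq_add_of_le hkl
  rw [pow_add, pow_add, ← mul_assoc, ← mul_assoc]
  exact Nat.mul_le_mul h (Nat.pow_le_pow_left hq r)

theorem ucnt_scale {q : ℕ} (hq : 2 ≤ q) : ∀ m, ucnt q m * 2 ^ m ≤ ucnt 2 m * q ^ m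
  | 0 => by simp [ucnt]
  | d + 1 => by
    calc ucnt q (d + 1) * 2 ^ (d + 1) = (2 * (q + 1)) * (q ^ d * 2 ^ d) := by rw [ucnt]; ring
      _ ≤ (3 * q) * (q ^ d * 2 ^ d) := Nat.mul_le_mul_right _ (by omega)
      _ = ucnt 2 (d + 1) * q ^ (d + 1) := by rw [ucnt]; ring

theorem uCount_scale {q : ℕ} (hq : 2 ≤ q) : ∀ J n, uCount q J n * 2 ^ (n / 2) ≤ uCount 2 J n * q ^ (n / 2)
  | 0, n => by
    rw [uCount, uCount]
    split_ifs <;> simp_all
  | J + 1, n => by
    rw [uCount, uCount, Finset.sum_mul, Finset.sum_mul]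
    refine Finset.sum_le_sum fun m hm => scale_mono (k := m + (n - (J + 2) * m) / 2) hq ?_ ?_
    · rw [pow_add, pow_add, mul_mul_mul_comm, mul_mul_mul_comm (ucnt 2 m)]
      exact Nat.mul_le_mul (ucnt_scale hq m) (uCount_scale hq J _)
    · have h1 : (J + 2) * m ≤ n :=
        (Nat.mul_le_mul_left _ (Nat.le_of_lt_succ (Finset.mem_range.1 hm))).trans (Nat.mul_div_le n (J + 2))
      have h2 : 2 * m ≤ (J + 2) * m := Nat.mul_le_mul_right _ (by omega)
      omega

theorem reduce_to_two {q n : ℕ} (hq : 2 ≤ q) (hn : 4 ≤ n) (J : ℕ) :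
    (∑ d ∈ Finset.range n, q ^ d * uCount q J (n - (d + 1)) + (q + 1) * uCount q J n) * 2 ^ (n - 1) ≤
      (∑ d ∈ Finset.range n, 2 ^ d * uCount 2 J (n - (d + 1)) + 3 * uCount 2 J n) * q ^ (n - 1) := by
  refine (add_mul _ _ _).le.trans (le_of_le_of_eq ?_ (add_mul _ _ _).symm)
  rw [Finset.sum_mul, Finset.sum_mul]
  refine Nat.add_le_add (Finset.sum_le_sum fun d hd => ?_) ?_
  · have hd' := Finset.mem_range.1 hd
    have h := scale_mono hq (uCount_scale hq J (n - (d + 1))) (show (n - (d + 1)) / 2 ≤ n - 1 - d by omega)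
    calc q ^ d * uCount q J (n - (d + 1)) * 2 ^ (n - 1)
        = (q ^ d * 2 ^ d) * (uCount q J (n - (d + 1)) * 2 ^ (n - 1 - d)) := by
          rw [show n - 1 = d + (n - 1 - d) by omega, Nat.add_sub_cancel_left, pow_add]; ring
      _ ≤ (q ^ d * 2 ^ d) * (uCount 2 J (n - (d + 1)) * q ^ (n - 1 - d)) := Nat.mul_le_mul_left _ h
      _ = 2 ^ d * uCount 2 J (n - (d + 1)) * q ^ (n - 1) := by
          rw [show n - 1 = d + (n - 1 - d) by omega, Nat.add_sub_cancel_left, pow_add]; ring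
  · refine scale_mono (k := 1 + n / 2) hq ?_ (by omega)
    rw [pow_add, pow_add, mul_mul_mul_comm, mul_mul_mul_comm 3]
    exact Nat.mul_le_mul (by simp; omega) (uCount_scale hq J n)

set_option maxRecDepth 100000 in
theorem small_cases : ∀ n ∈ Finset.Icc 4 21,
    100 * (∑ d ∈ Finset.range n, 2 ^ d * uCount 2 (n - 1) (n - (d + 1)) + 3 * uCount 2 (n - 1) n) ≤
      826 * 2 ^ (n - 1) := by
  decide +kernel

/-- A bound for the weighted sums of `uCount 2`. -/
def uG (t : ℚ) : ℕ → ℚ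
  | 0 => 1
  | J + 1 => uG t J * (1 + 3 * t ^ (J + 2) / (1 - 2 * t ^ (J + 2)))

theorem geom_le {x : ℚ} (h0 : 0 ≤ x) (h1 : x < 1) (N : ℕ) : ∑ m ∈ Finset.range N, x ^ m ≤ 1 / (1 - x) := by
  have h : ∀ N : ℕ, (1 - x) * ∑ m ∈ Finset.range N, x ^ m + x ^ N = 1 := by
    intro N
    induction N with
    | zero => simp
    | succ N ih => rw [Finset.sum_range_succ, pow_succ]; linear_combination ih
  rw [le_div_iff₀ (by linarith)]
  nlinarith [h N, pow_nonneg h0 N]

theorem two_mul_pow_lt {t : ℚ} (h0 : 0 ≤ t) (h1 : t ≤ 1) (h2 : 2 * t ^ 2 < 1) {k : ℕ} (hk : 2 ≤ k) :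
    2 * t ^ k < 1 := by
  have := pow_le_pow_of_le_one h0 h1 hk
  linarith

theorem one_le_factor {t : ℚ} (h0 : 0 ≤ t) (h1 : t ≤ 1) (h2 : 2 * t ^ 2 < 1) (J : ℕ) :
    1 ≤ 1 + 3 * t ^ (J + 2) / (1 - 2 * t ^ (J + 2)) :=
  le_add_of_nonneg_right (div_nonneg (by positivity) (by have := two_mul_pow_lt h0 h1 h2 (show 2 ≤ J + 2 by omega); linarith))

theorem uG_nonneg {t : ℚ} (h0 : 0 ≤ t) (h1 : t ≤ 1) (h2 : 2 * t ^ 2 < 1) : ∀ J, 0 ≤ uG t J
  | 0 => zero_le_one
  | J + 1 => mul_nonneg (uG_nonneg h0 h1 h2 J) (zero_le_one.trans (one_le_factor h0 h1 h2 J))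

theorem sum_uCount_le {t : ℚ} (h0 : 0 ≤ t) (h1 : t ≤ 1) (h2 : 2 * t ^ 2 < 1) :
    ∀ J N, ∑ s ∈ Finset.range N, (uCount 2 J s : ℚ) * t ^ s ≤ uG t J
  | 0, N => by
    cases N with
    | zero => simp [uG]
    | succ N => simp [Finset.sum_range_succ', uCount, uG]
  | J + 1, N => by
    set u := t ^ (J + 2) with hu
    have hu0 : 0 ≤ u := by positivity
    have hu2 : 2 * u < 1 := two_mul_pow_lt h0 h1 h2 (by omega)
    let g : ℕ → ℚ := fun s => (uCount 2 J s : ℚ) * t ^ s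
    have hg : ∀ s, 0 ≤ g s := fun s => by positivity
    let T : ℕ → ℕ → ℚ := fun s m => if (J + 2) * m ≤ s then (ucnt 2 m : ℚ) * u ^ m * g (s - (J + 2) * m) else 0
    have hT : ∀ s m, 0 ≤ T s m := fun s m => by simp only [T]; split <;> positivity
    have hstep : ∀ s ∈ Finset.range N,
        (uCount 2 (J + 1) s : ℚ) * t ^ s ≤ ∑ m ∈ Finset.range N, T s m := by
      intro s hs
      have hsN := Finset.mem_range.1 hs
      rw [uCount, Nat.cast_sum, Finset.sum_mul]
      refine (Finset.sum_le_sum fun m hm => ?_).trans (Finset.sum_le_sum_of_subset_of_nonneg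
        (Finset.range_mono (Nat.succ_le_of_lt ((Nat.div_le_self s (J + 2)).trans_lt hsN))) fun m _ _ => hT s m)
      have hle : (J + 2) * m ≤ s :=
        (Nat.mul_le_mul_left _ (Nat.le_of_lt_succ (Finset.mem_range.1 hm))).trans (Nat.mul_div_le s (J + 2))
      simp only [T, g, if_pos hle, hu]
      rw [Nat.cast_mul, ← pow_mul]
      conv_lhs => rw [← Nat.add_sub_cancel' hle, pow_add, Nat.add_sub_cancel_left]
      exact le_of_eq (by ring)
    refine (Finset.sum_le_sum hstep).trans ?_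
    rw [Finset.sum_comm]
    have hinner : ∀ m ∈ Finset.range N, ∑ s ∈ Finset.range N, T s m ≤ (ucnt 2 m : ℚ) * u ^ m * uG t J := by
      intro m _
      simp only [T]
      rw [← Finset.sum_filter, ← Finset.mul_sum]
      refine mul_le_mul_of_nonneg_left ?_ (by positivity)
      refine le_trans (le_of_eq (Finset.sum_image (g := fun s => s - (J + 2) * m) ?_).symm)
        ((Finset.sum_le_sum_of_subset_of_nonneg ?_ fun s _ _ => hg s).trans (sum_uCount_le h0 h1 h2 J N))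
      · intro a ha b hb hab
        simp only [Finset.coe_filter, Set.mem_setOf_eq] at ha hb
        simp only at hab
        omega
      · intro x hx
        obtain ⟨s, hs, rfl⟩ := Finset.mem_image.1 hx
        have := Finset.mem_range.1 (Finset.mem_filter.1 hs).1
        exact Finset.mem_range.2 (by omega)
    refine (Finset.sum_le_sum hinner).trans ?_
    rw [← Finset.sum_mul, uG, mul_comm]
    refine mul_le_mul_of_nonneg_left ?_ (uG_nonneg h0 h1 h2 J)
    rw [← hu]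
    cases N with
    | zero => simp only [Finset.range_zero, Finset.sum_empty]; exact zero_le_one.trans (one_le_factor h0 h1 h2 J)
    | succ N =>
      rw [Finset.sum_range_succ']
      simp only [ucnt, Nat.cast_mul, Nat.cast_pow, Nat.cast_one, pow_zero, mul_one]
      rw [add_comm, add_le_add_iff_left]
      calc ∑ m ∈ Finset.range N, ((2 + 1 : ℕ) : ℚ) * ((2 : ℕ) : ℚ) ^ m * u ^ (m + 1)
          = 3 * u * ∑ m ∈ Finset.range N, (2 * u) ^ m := by
            rw [Finset.mul_sum]; exact Finset.sum_congr rfl fun m _ => by push_cast; ring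
        _ ≤ 3 * u * (1 / (1 - 2 * u)) := mul_le_mul_of_nonneg_left (geom_le (by positivity) hu2 N) (by positivity)
        _ = 3 * u / (1 - 2 * u) := mul_one_div _ _

theorem uG_le {t c : ℚ} (h0 : 0 ≤ t) (h1 : t ≤ 1) (h2 : 2 * t ^ 2 < 1) (hc : 0 ≤ c)
    (hstep : ∀ u, 0 ≤ u → u ≤ t ^ 14 → (1 + 3 * u / (1 - 2 * u)) * (1 + c * (t * u)) ≤ 1 + c * u) (J : ℕ) :
    uG t J ≤ uG t 12 * (1 + c * t ^ 14) := by
  have hmono : Monotone (uG t) := monotone_nat_of_le_succ fun K =>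
    le_mul_of_one_le_right (uG_nonneg h0 h1 h2 K) (one_le_factor h0 h1 h2 K)
  have hanti : ∀ i, uG t (12 + i) * (1 + c * t ^ (12 + i + 2)) ≤ uG t 12 * (1 + c * t ^ 14) := by
    intro i
    induction i with
    | zero => exact le_rfl
    | succ i ih =>
      refine le_trans ?_ ih
      rw [show 12 + (i + 1) = 12 + i + 1 from rfl, uG, mul_assoc,
        show t ^ (12 + i + 1 + 2) = t * t ^ (12 + i + 2) by ring]
      exact mul_le_mul_of_nonneg_left (hstep _ (by positivity) (pow_le_pow_of_le_one h0 h1 (by omega)))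
        (uG_nonneg h0 h1 h2 _)
  have hpos : ∀ i, 1 ≤ 1 + c * t ^ i := fun i => le_add_of_nonneg_right (by positivity)
  rcases le_total J 12 with hJ | hJ
  · exact (hmono hJ).trans (le_mul_of_one_le_right (uG_nonneg h0 h1 h2 _) (hpos _))
  · obtain ⟨i, rfl⟩ := Nat.exists_eq_add_of_le hJ
    exact (le_mul_of_one_le_right (uG_nonneg h0 h1 h2 _) (hpos _)).trans (hanti i)

theorem uG_half_le (J : ℕ) : uG (1 / 2) J ≤ 56 / 10 := by
  refine (uG_le (c := 7) (by norm_num) (by norm_num) (by norm_num) (by norm_num) (fun u h h' => ?_) J).trans ?_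
  · norm_num at h'
    have hd : 0 < 1 - 2 * u := by linarith
    have h3 : 3 * u / (1 - 2 * u) ≤ 32 / 10 * u := by
      rw [div_le_iff₀ hd]; nlinarith
    nlinarith [mul_le_mul_of_nonneg_right h3 (show (0 : ℚ) ≤ 1 + 7 * (1 / 2 * u) by positivity)]
  · norm_num [uG]

theorem uG_mid_le (J : ℕ) : uG (13 / 20) J ≤ 135 := by
  refine (uG_le (c := 9) (by norm_num) (by norm_num) (by norm_num) (by norm_num) (fun u h h' => ?_) J).trans ?_
  · norm_num at h'
    have hd : 0 < 1 - 2 * u := by linarith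
    have h3 : 3 * u / (1 - 2 * u) ≤ 305 / 100 * u := by
      rw [div_le_iff₀ hd]; nlinarith
    nlinarith [mul_le_mul_of_nonneg_right h3 (show (0 : ℚ) ≤ 1 + 9 * (13 / 20 * u) by positivity)]
  · norm_num [uG]

theorem large_cases {J n : ℕ} (hn : 22 ≤ n) :
    100 * (∑ d ∈ Finset.range n, 2 ^ d * uCount 2 J (n - (d + 1)) + 3 * uCount 2 J n) ≤ 826 * 2 ^ (n - 1) := by
  suffices h : (100 : ℚ) * (∑ d ∈ Finset.range n, (2 : ℚ) ^ d * (uCount 2 J (n - (d + 1)) : ℚ) +
      3 * (uCount 2 J n : ℚ)) ≤ 826 * 2 ^ (n - 1) by exact_mod_cast h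
  have hsum : ∑ d ∈ Finset.range n, (2 : ℚ) ^ d * (uCount 2 J (n - (d + 1)) : ℚ) =
      2 ^ (n - 1) * ∑ s ∈ Finset.range n, (uCount 2 J s : ℚ) * (1 / 2) ^ s := by
    rw [← Finset.sum_range_reflect (fun d => (2 : ℚ) ^ d * (uCount 2 J (n - (d + 1)) : ℚ)), Finset.mul_sum]
    refine Finset.sum_congr rfl fun s hs => ?_
    have hs' := Finset.mem_range.1 hs
    have hsplit : (2 : ℚ) ^ (n - 1) = 2 ^ (n - 1 - s) * 2 ^ s := by rw [← pow_add]; congr 1; omega
    rw [show n - (n - 1 - s + 1) = s by omega, hsplit, one_div, inv_pow]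
    field_simp
  have h1 := (sum_uCount_le (t := 1 / 2) (by norm_num) (by norm_num) (by norm_num) J n).trans (uG_half_le J)
  have h2 := (Finset.single_le_sum (f := fun s => (uCount 2 J s : ℚ) * (13 / 20) ^ s)
    (fun s _ => by positivity) (Finset.mem_range.2 (Nat.lt_succ_self n))).trans
    ((sum_uCount_le (by norm_num) (by norm_num) (by norm_num) J (n + 1)).trans (uG_mid_le J))
  have h3 : (3 : ℚ) * uCount 2 J n ≤ 255 / 100 * 2 ^ (n - 1) := by
    have h4 : ((13 : ℚ) / 10) ^ 22 ≤ (13 / 10) ^ n := pow_le_pow_right₀ (by norm_num) hn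
    have h5 : (uCount 2 J n : ℚ) * (13 / 10) ^ n ≤ 135 * (2 * 2 ^ (n - 1)) := by
      have : ((13 : ℚ) / 10) ^ n = (13 / 20) ^ n * (2 * 2 ^ (n - 1)) := by
        rw [← pow_succ', Nat.sub_add_cancel (by omega), ← mul_pow]; norm_num
      rw [this, ← mul_assoc]
      exact mul_le_mul_of_nonneg_right h2 (by positivity)
    have h6 := (mul_le_mul_of_nonneg_left h4 (Nat.cast_nonneg' (uCount 2 J n))).trans h5
    have h7 : (318 : ℚ) ≤ (13 / 10) ^ 22 := by norm_num
    have h8 := (mul_le_mul_of_nonneg_left h7 (Nat.cast_nonneg' (uCount 2 J n))).trans h6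
    nlinarith [h8]
  rw [hsum]
  nlinarith [mul_le_mul_of_nonneg_left h1 (show (0 : ℚ) ≤ 2 ^ (n - 1) by positivity), h3]

variable {K : Type*} [Field K] [Fintype K] {q n : ℕ}

theorem card_classes_SU_upper (hK : Nat.card K = q ^ 2) (p : ℕ) [Fact p.Prime] [CharP K p] (hn : 2 ≤ n) :
    100 * Nat.card (ConjClasses (Cfsg.SU n K q)) ≤ 826 * q ^ (n - 1) := by
  obtain ⟨J, rfl⟩ : ∃ J, n = J + 1 := ⟨n - 1, by omega⟩
  have hq := CfsgLib.Forms.two_le_q hK
  obtain ⟨hgen, hsmall⟩ := card_classes_SU_general hK p J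
  rcases Nat.lt_or_ge J 3 with h3 | h3
  · have h := hsmall (by omega) (by omega)
    refine (Nat.mul_le_mul_left 100 h).trans ?_
    interval_cases J <;>
      simp [Finset.sum_range_succ, uCount, ucnt] <;> nlinarith [hq]
  · rw [Nat.add_sub_cancel]
    refine Nat.le_of_mul_le_mul_right ?_ (Nat.two_pow_pos J)
    have h1 := reduce_to_two hq (show 4 ≤ J + 1 by omega) J
    rw [Nat.add_sub_cancel] at h1
    have h2 : 100 * (∑ d ∈ Finset.range (J + 1), 2 ^ d * uCount 2 J (J + 1 - (d + 1)) + 3 * uCount 2 J (J + 1)) ≤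
        826 * 2 ^ J := by
      rcases Nat.lt_or_ge (J + 1) 22 with h | h
      · have := small_cases (J + 1) (Finset.mem_Icc.2 ⟨by omega, by omega⟩)
        simpa using this
      · simpa using large_cases (J := J) h
    calc 100 * Nat.card (ConjClasses (Cfsg.SU (J + 1) K q)) * 2 ^ J
        ≤ 100 * ((∑ d ∈ Finset.range (J + 1), q ^ d * uCount q J (J + 1 - (d + 1)) + (q + 1) * uCount q J (J + 1)) *
            2 ^ J) := by rw [mul_assoc]; exact Nat.mul_le_mul_left _ (Nat.mul_le_mul_right _ hgen)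
      _ ≤ 100 * ((∑ d ∈ Finset.range (J + 1), 2 ^ d * uCount 2 J (J + 1 - (d + 1)) + 3 * uCount 2 J (J + 1)) *
            q ^ J) := Nat.mul_le_mul_left _ h1
      _ ≤ 826 * q ^ J * 2 ^ J := by
          rw [← mul_assoc, mul_right_comm 826]
          exact Nat.mul_le_mul_right _ h2

end CfsgLib.GLClass
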