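import Cfsg.Agent.GLClass.SymplecticCount
import Cfsg.Agent.GLClass.UnitaryNumeric

/-!
The arithmetic for `k (Sp 2n q) ≤ 10.8 q ^ n`.
-/

set_option autoImplicit false
set_option linter.unusedSectionVars false

namespace CfsgLib.GLClass.Symp

/-- The factor of exponent `k`. -/
def fac (t : ℚ) (k : ℕ) : ℚ := (if Even k then (1 + t ^ (k / 2)) ^ 4 else 1) / (1 - t ^ (k - 1))

theorem fac_den_pos {t : ℚ} (h0 : 0 ≤ t) (h3 : t ≤ 1 / 3) {k : ℕ} (hk : 2 ≤ k) : 0 < 1 - t ^ (k - 1) := by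
  have := pow_le_of_le_one h0 (h3.trans (by norm_num)) (show k - 1 ≠ 0 by omega)
  linarith

theorem one_le_fac {t : ℚ} (h0 : 0 ≤ t) (h3 : t ≤ 1 / 3) {k : ℕ} (hk : 2 ≤ k) : 1 ≤ fac t k := by
  rw [fac, one_le_div (fac_den_pos h0 h3 hk)]
  have : 0 ≤ t ^ (k - 1) := by positivity
  split_ifs with h
  · have : 1 ≤ (1 + t ^ (k / 2)) ^ 4 := one_le_pow₀ (le_add_of_nonneg_right (by positivity))
    linarith
  · linarith

theorem fac_mono {t : ℚ} (h0 : 0 ≤ t) (h3 : t ≤ 1 / 3) {k : ℕ} (hk : 2 ≤ k) : fac t k ≤ fac (1 / 3) k := by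
  rw [fac, fac]
  refine div_le_div₀ (by positivity) ?_ (fac_den_pos (by norm_num) le_rfl hk)
    (sub_le_sub_left (pow_le_pow_left₀ h0 h3 _) 1)
  split_ifs with h
  · exact pow_le_pow_left₀ (by positivity) (add_le_add le_rfl (pow_le_pow_left₀ h0 h3 _)) 4
  · exact le_rfl

/-- The product of the factors of the exponents `2, …, J + 1`. -/
def sG : ℕ → ℚ
  | 0 => 1
  | J + 1 => sG J * fac (1 / 3) (J + 2)

theorem sG_nonneg : ∀ J, 0 ≤ sG J
  | 0 => zero_le_one
  | J + 1 => mul_nonneg (sG_nonneg J) (zero_le_one.trans (one_le_fac (by norm_num) le_rfl (by omega)))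

theorem sum_nsd_le (q : ℕ) {u : ℚ} (hu : 0 ≤ u) (h1 : (q : ℚ) * u ^ 2 < 1) :
    ∀ M, ∑ d ∈ Finset.range M, (nsd q d : ℚ) * u ^ d ≤ (1 + u) ^ 2 / (1 - q * u ^ 2)
  | 0 => by
    rw [Finset.range_zero, Finset.sum_empty]
    exact div_nonneg (by positivity) (by linarith)
  | 1 => by
    rw [Finset.sum_range_one, le_div_iff₀ (by linarith)]
    simp [nsd]
    nlinarith [show (0 : ℚ) ≤ q * u ^ 2 by positivity]
  | 2 => by
    rw [Finset.sum_range_succ, Finset.sum_range_one, le_div_iff₀ (by linarith)]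
    simp [nsd]
    nlinarith [show (0 : ℚ) ≤ q * u ^ 2 by positivity, show (0 : ℚ) ≤ q * u ^ 2 * u by positivity]
  | M + 3 => by
    have ih := sum_nsd_le q hu h1 (M + 1)
    have hsplit : ∑ d ∈ Finset.range (M + 3), (nsd q d : ℚ) * u ^ d =
        (1 + u) ^ 2 + q * u ^ 2 * ∑ d ∈ Finset.range (M + 1), (nsd q d : ℚ) * u ^ d := by
      rw [Finset.sum_range_succ' _ (M + 2), Finset.sum_range_succ' _ (M + 1), Finset.sum_range_succ' _ M,
        Finset.sum_range_succ' (fun d => (nsd q d : ℚ) * u ^ d) M]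
      simp only [nsd, Nat.cast_mul, Nat.cast_add, Nat.cast_one, Nat.cast_ofNat, zero_add]
      rw [mul_add, Finset.mul_sum]
      have : ∀ d : ℕ, (q : ℚ) * (nsd q (d + 1) : ℚ) * u ^ (d + 1 + 1 + 1) =
          q * u ^ 2 * ((nsd q (d + 1) : ℚ) * u ^ (d + 1)) := fun d => by ring
      simp only [this]
      ring
    rw [hsplit, le_div_iff₀ (by linarith)]
    rw [le_div_iff₀ (by linarith)] at ih
    nlinarith [mul_le_mul_of_nonneg_left ih (show (0 : ℚ) ≤ q * u ^ 2 by positivity)]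

theorem sum_wgt_le (q : ℕ) {u : ℚ} (hu : 0 ≤ u) (h1 : (q : ℚ) * u ^ 2 < 1) (M : ℕ) :
    ∑ d ∈ Finset.range M, (wgt q d : ℚ) * u ^ d ≤ (1 + u) ^ 4 / (1 - q * u ^ 2) := by
  set K := (1 + u) ^ 2 / (1 - (q : ℚ) * u ^ 2) with hK
  have hK0 : 0 ≤ K := div_nonneg (by positivity) (by linarith)
  have hsh : ∀ (j : ℕ) (M : ℕ), ∑ d ∈ Finset.range M, ((if j ≤ d then nsd q (d - j) else 0 : ℕ) : ℚ) * u ^ d ≤ u ^ j * K := by
    intro j
    induction j with
    | zero => intro M; simpa using sum_nsd_le q hu h1 M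
    | succ j ih =>
      intro M
      rcases M with _ | M
      · simpa using mul_nonneg (pow_nonneg hu _) hK0
      rw [Finset.sum_range_succ']
      simp only [add_le_add_iff_right, Nat.add_sub_add_right, Nat.le_zero, Nat.succ_ne_zero, if_false, Nat.cast_zero,
        zero_mul, add_zero, pow_succ' u, ← mul_assoc, mul_comm _ u]
      simp only [mul_assoc, ← Finset.mul_sum]
      exact mul_le_mul_of_nonneg_left (ih M) hu
  have h0 := sum_nsd_le q hu h1 M
  have h1' := hsh 1 M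
  have h2' := hsh 2 M
  rw [← hK] at h0
  have hsum : ∑ d ∈ Finset.range M, (wgt q d : ℚ) * u ^ d =
      (∑ d ∈ Finset.range M, (nsd q d : ℚ) * u ^ d) +
        2 * (∑ d ∈ Finset.range M, ((if 1 ≤ d then nsd q (d - 1) else 0 : ℕ) : ℚ) * u ^ d) +
        ∑ d ∈ Finset.range M, ((if 2 ≤ d then nsd q (d - 2) else 0 : ℕ) : ℚ) * u ^ d := by
    rw [Finset.mul_sum, ← Finset.sum_add_distrib, ← Finset.sum_add_distrib]
    exact Finset.sum_congr rfl fun d _ => by rw [wgt]; push_cast; ring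
  rw [hsum, show (1 + u) ^ 4 / (1 - (q : ℚ) * u ^ 2) = (1 + u) ^ 2 * K by rw [hK]; ring]
  nlinarith [h0, h1', h2']

theorem sum_cS_le {q : ℕ} {t : ℚ} (hqt : (q : ℚ) * t = 1) (h0 : 0 ≤ t) (h3 : t ≤ 1 / 3) {k : ℕ} (hk : 2 ≤ k) (M : ℕ) :
    ∑ m ∈ Finset.range M, (cS q k m : ℚ) * t ^ (k * m / 2) ≤ fac t k := by
  have hden := fac_den_pos h0 h3 hk
  have hq : (q : ℚ) * t ^ k = t ^ (k - 1) := by
    conv_lhs => rw [show k = k - 1 + 1 by omega, pow_succ']
    rw [← mul_assoc, hqt, one_mul]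
  by_cases hk2 : Even k
  · obtain ⟨i, rfl⟩ := hk2
    have hu : (q : ℚ) * (t ^ i) ^ 2 = t ^ (i + i - 1) := by rw [← hq, ← pow_mul]; congr 2; omega
    rw [fac, if_pos ⟨i, rfl⟩, show (i + i) / 2 = i by omega, ← hu]
    refine le_trans (le_of_eq (Finset.sum_congr rfl fun m _ => ?_))
      (sum_wgt_le q (pow_nonneg h0 i) (by rw [hu]; linarith) M)
    rw [cS, if_pos ⟨i, rfl⟩, ← pow_mul]
    congr 2
    rw [← two_mul, mul_assoc, Nat.mul_div_cancel_left _ two_pos]
  · rw [fac, if_neg hk2]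
    have hx0 : 0 ≤ t ^ (k - 1) := pow_nonneg h0 _
    refine le_trans (le_of_eq ?_) ((Finset.sum_le_sum_of_subset_of_nonneg
      (s := ((Finset.range M).filter fun m => Even m).image fun m => m / 2) (t := Finset.range M) ?_
      (fun m _ _ => pow_nonneg hx0 m)).trans (geom_le hx0 (by linarith) M))
    · rw [Finset.sum_image, Finset.sum_filter]
      · refine Finset.sum_congr rfl fun m _ => ?_
        rw [cS, if_neg hk2]
        split_ifs with hm
        · obtain ⟨c, rfl⟩ := hm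
          rw [show (c + c) / 2 = c by omega, ← hq, Nat.cast_pow, mul_pow, ← pow_mul]
          congr 2
          rw [← two_mul, mul_left_comm, Nat.mul_div_cancel_left _ two_pos]
        · simp
      · intro a ha b hb hab
        simp only [Finset.coe_filter, Set.mem_setOf_eq] at ha hb
        obtain ⟨x, rfl⟩ := ha.2
        obtain ⟨y, rfl⟩ := hb.2
        simp only at hab
        omega
    · intro x hx
      obtain ⟨m, hm, rfl⟩ := Finset.mem_image.1 hx
      have := Finset.mem_range.1 (Finset.mem_filter.1 hm).1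
      exact Finset.mem_range.2 (by omega)

theorem sum_sCount_le {q : ℕ} {t : ℚ} (hqt : (q : ℚ) * t = 1) (h0 : 0 ≤ t) (h3 : t ≤ 1 / 3) :
    ∀ J M, ∑ s ∈ Finset.range M, (sCount q J s : ℚ) * t ^ (s / 2) ≤ sG J
  | 0, M => by
    cases M with
    | zero => simp [sG]
    | succ M => simp [Finset.sum_range_succ', sCount, sG]
  | J + 1, M => by
    let g : ℕ → ℚ := fun s => (sCount q J s : ℚ) * t ^ (s / 2)
    have hg : ∀ s, 0 ≤ g s := fun s => by positivity
    let T : ℕ → ℕ → ℚ := fun s m =>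
      if (J + 2) * m ≤ s then (cS q (J + 2) m : ℚ) * t ^ ((J + 2) * m / 2) * g (s - (J + 2) * m) else 0
    have hT : ∀ s m, 0 ≤ T s m := fun s m => by simp only [T]; split <;> positivity
    have hstep : ∀ s ∈ Finset.range M, (sCount q (J + 1) s : ℚ) * t ^ (s / 2) ≤ ∑ m ∈ Finset.range M, T s m := by
      intro s hs
      have hsM := Finset.mem_range.1 hs
      rw [sCount, Nat.cast_sum, Finset.sum_mul]
      refine (Finset.sum_le_sum fun m hm => ?_).trans (Finset.sum_le_sum_of_subset_of_nonneg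
        (Finset.range_mono (Nat.succ_le_of_lt ((Nat.div_le_self s (J + 2)).trans_lt hsM))) fun m _ _ => hT s m)
      have hle : (J + 2) * m ≤ s :=
        (Nat.mul_le_mul_left _ (Nat.le_of_lt_succ (Finset.mem_range.1 hm))).trans (Nat.mul_div_le s (J + 2))
      simp only [T, g, if_pos hle, Nat.cast_mul]
      by_cases hc : cS q (J + 2) m = 0
      · simp [hc]
      have hev : Even ((J + 2) * m) := by
        by_contra ho
        rw [Nat.not_even_iff_odd, Nat.odd_mul] at ho
        exact hc (by rw [cS, if_neg (Nat.not_even_iff_odd.2 ho.1), if_neg (Nat.not_even_iff_odd.2 ho.2)])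
      obtain ⟨r, hr⟩ := hev
      rw [show s / 2 = (J + 2) * m / 2 + (s - (J + 2) * m) / 2 by omega, pow_add]
      exact le_of_eq (by ring)
    refine (Finset.sum_le_sum hstep).trans ?_
    rw [Finset.sum_comm]
    have hinner : ∀ m ∈ Finset.range M,
        ∑ s ∈ Finset.range M, T s m ≤ (cS q (J + 2) m : ℚ) * t ^ ((J + 2) * m / 2) * sG J := by
      intro m _
      simp only [T]
      rw [← Finset.sum_filter, ← Finset.mul_sum]
      refine mul_le_mul_of_nonneg_left ?_ (by positivity)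
      refine le_trans (le_of_eq (Finset.sum_image (g := fun s => s - (J + 2) * m) ?_).symm)
        ((Finset.sum_le_sum_of_subset_of_nonneg ?_ fun s _ _ => hg s).trans (sum_sCount_le hqt h0 h3 J M))
      · intro a ha b hb hab
        simp only [Finset.coe_filter, Set.mem_setOf_eq] at ha hb
        simp only at hab
        omega
      · intro x hx
        obtain ⟨s, hs, rfl⟩ := Finset.mem_image.1 hx
        have := Finset.mem_range.1 (Finset.mem_filter.1 hs).1
        exact Finset.mem_range.2 (by omega)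
    refine (Finset.sum_le_sum hinner).trans ?_
    rw [← Finset.sum_mul, sG, mul_comm]
    exact mul_le_mul_of_nonneg_left ((sum_cS_le hqt h0 h3 (by omega) M).trans (fac_mono h0 h3 (by omega))) (sG_nonneg J)

theorem sG_le (J : ℕ) : sG J ≤ 54 / 5 := by
  have hmono : Monotone sG := monotone_nat_of_le_succ fun K =>
    le_mul_of_one_le_right (sG_nonneg K) (one_le_fac (by norm_num) le_rfl (by omega))
  have hanti : ∀ i, sG (24 + 2 * i) * (1 + 7 * (1 / 3 : ℚ) ^ (13 + i)) ≤ sG 24 * (1 + 7 * (1 / 3 : ℚ) ^ 13) := by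
    intro i
    induction i with
    | zero => exact le_rfl
    | succ i ih =>
      refine le_trans ?_ ih
      rw [show 24 + 2 * (i + 1) = 24 + 2 * i + 1 + 1 by ring, sG, sG, mul_assoc, mul_assoc]
      refine mul_le_mul_of_nonneg_left ?_ (sG_nonneg _)
      have e1 : Even (24 + 2 * i + 2) := ⟨13 + i, by ring⟩
      have e2 : ¬ Even (24 + 2 * i + 1 + 2) := Nat.not_even_iff_odd.2 ⟨13 + i, by ring⟩
      rw [fac, fac, if_pos e1, if_neg e2, show (24 + 2 * i + 2) / 2 = 13 + i by omega,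
        show 24 + 2 * i + 1 + 2 - 1 = (13 + i) + (13 + i) by omega, show 13 + (i + 1) = 13 + i + 1 from rfl]
      have hx3 : (1 / 3 : ℚ) ^ (24 + 2 * i + 2 - 1) = 3 * ((1 / 3 : ℚ) ^ (13 + i)) ^ 2 := by
        rw [← pow_mul, show (13 + i) * 2 = (24 + 2 * i + 2 - 1) + 1 by omega, pow_succ]
        ring
      rw [hx3, pow_succ' (1 / 3 : ℚ) (13 + i), pow_add _ (13 + i)]
      have hx : (1 / 3 : ℚ) ^ (13 + i) ≤ 1 / 1000000 :=
        (pow_le_pow_of_le_one (by norm_num) (by norm_num) (Nat.le_add_right 13 i)).trans (by norm_num)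
      have hxn : (0 : ℚ) ≤ (1 / 3 : ℚ) ^ (13 + i) := by positivity
      generalize (1 / 3 : ℚ) ^ (13 + i) = x at hx hxn ⊢
      have hx2 : x ^ 2 ≤ 1 / 1000000 * x := by rw [pow_two]; exact mul_le_mul_of_nonneg_right hx hxn
      have hd1 : 0 < 1 - 3 * x ^ 2 := by nlinarith
      have hd2 : 0 < 1 - x * x := by nlinarith
      rw [← mul_assoc, div_mul_div_comm, mul_one, div_mul_eq_mul_div, div_le_iff₀ (mul_pos hd1 hd2)]
      nlinarith [pow_nonneg hxn 3, pow_nonneg hxn 4, pow_nonneg hxn 5, mul_le_mul_of_nonneg_left hx (pow_nonneg hxn 2),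
        mul_le_mul_of_nonneg_left hx (pow_nonneg hxn 3), mul_le_mul_of_nonneg_left hx (pow_nonneg hxn 4)]
  have hK : sG 24 * (1 + 7 * (1 / 3 : ℚ) ^ 13) ≤ 54 / 5 := by norm_num [sG, fac, Nat.even_iff]
  have hle : sG J ≤ sG (24 + 2 * J) := hmono (by omega)
  exact hle.trans ((le_mul_of_one_le_right (sG_nonneg _) (le_add_of_nonneg_right (by positivity))).trans
    ((hanti J).trans hK))

variable {F : Type*} [Field F] [Fintype F]

theorem card_classes_Sp_upper (hodd : Odd (Fintype.card F)) {n : ℕ} (hn : 1 ≤ n) :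
    5 * Nat.card (ConjClasses (Matrix.symplecticGroup (Fin n) F)) ≤ 54 * Fintype.card F ^ n := by
  set q := Fintype.card F with hq
  have h2 : (2 : F) ≠ 0 := by
    intro h
    haveI : CharP F (ringChar F) := ringChar.charP F
    have h' : ringChar F ∣ 2 := (CharP.cast_eq_zero_iff F (ringChar F) 2).1 (by exact_mod_cast h)
    have hp := CharP.char_is_prime F (ringChar F)
    obtain ⟨m, -, hm⟩ := FiniteField.card F (ringChar F)
    rw [(Nat.prime_dvd_prime_iff_eq hp Nat.prime_two).1 h'] at hm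
    rw [hq, hm, Nat.odd_pow_iff m.ne_zero] at hodd
    exact absurd hodd (by decide)
  have hq3 : 3 ≤ q := by
    have h1 : 1 < q := Fintype.one_lt_card
    obtain ⟨m, hm⟩ := hodd
    omega
  have hinj := Nat.card_le_card_of_injective _ (spInv_injective (n := n) (F := F) h2)
  obtain ⟨J, hJ⟩ : ∃ J, n + n = J + 1 := ⟨n + n - 1, by omega⟩
  have hk : Nat.card (ConjClasses (Matrix.symplecticGroup (Fin n) F)) ≤
      ∑ d ∈ Finset.range (n + n + 1), (if Even d then q ^ (d / 2) else 0) * sCount q J (n + n - d) := by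
    refine hinj.trans ?_
    rw [hJ]
    exact card_markTup_le h2 J (J + 1)
  have hq0 : (q : ℚ) ≠ 0 := by exact_mod_cast (show q ≠ 0 by omega)
  have ht3 : (1 : ℚ) / q ≤ 1 / 3 := one_div_le_one_div_of_le (by norm_num) (by exact_mod_cast hq3)
  have hsum : ((∑ d ∈ Finset.range (n + n + 1), (if Even d then q ^ (d / 2) else 0) * sCount q J (n + n - d) : ℕ) : ℚ) ≤
      (q : ℚ) ^ n * sG J := by
    refine le_trans ?_ (mul_le_mul_of_nonneg_left
      (sum_sCount_le (t := 1 / (q : ℚ)) (mul_one_div_cancel hq0) (by positivity) ht3 J (n + n + 1)) (by positivity))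
    rw [Nat.cast_sum, Finset.mul_sum,
      ← Finset.sum_range_reflect (fun d => (q : ℚ) ^ n * ((sCount q J d : ℚ) * (1 / (q : ℚ)) ^ (d / 2)))]
    refine Finset.sum_le_sum fun d hd => ?_
    have hd' := Finset.mem_range.1 hd
    rw [show n + n + 1 - 1 - d = n + n - d by omega]
    split_ifs with he
    · obtain ⟨c, rfl⟩ := he
      rw [show (c + c) / 2 = c by omega, show (n + n - (c + c)) / 2 = n - c by omega, Nat.cast_mul, Nat.cast_pow]
      have hsplit : (q : ℚ) ^ n = q ^ c * q ^ (n - c) := by rw [← pow_add]; congr 1; omega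
      rw [hsplit, one_div, inv_pow]
      exact le_of_eq (by field_simp)
    · simp only [zero_mul, Nat.cast_zero]
      positivity
  have hkq : ((Nat.card (ConjClasses (Matrix.symplecticGroup (Fin n) F)) : ℕ) : ℚ) ≤ (q : ℚ) ^ n * (54 / 5) :=
    le_trans (le_trans (by exact_mod_cast hk) hsum) (mul_le_mul_of_nonneg_left (sG_le J) (by positivity))
  have : ((5 * Nat.card (ConjClasses (Matrix.symplecticGroup (Fin n) F)) : ℕ) : ℚ) ≤ ((54 * q ^ n : ℕ) : ℚ) := by
    push_cast
    linarith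
  exact_mod_cast this

end CfsgLib.GLClass.Symp
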