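import Cfsg.Agent.GLClass.Modules

/-!
A square matrix over a field is similar to its transpose.
-/

set_option autoImplicit false

namespace CfsgLib.GLClass

open Polynomial Module

variable {F : Type*} [Field F]

/-- A cyclic primary module carries a trace form. -/
theorem exists_functional {p : F[X]} (hp : Irreducible p) {e : ℕ} (he : 0 < e) :
    ∃ l : (F[X] ⧸ Ideal.span {p ^ e}) →ₗ[F] F, ∀ u, (∀ v, l (u * v) = 0) → u = 0 := by
  classical
  set I := Ideal.span {p ^ e}
  set w : F[X] ⧸ I := Ideal.Quotient.mk I (p ^ (e - 1))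
  have hw : w ≠ 0 := by
    intro h
    rw [Ideal.Quotient.eq_zero_iff_mem, Ideal.mem_span_singleton,
      pow_dvd_pow_iff hp.ne_zero hp.not_isUnit] at h
    omega
  obtain ⟨l, hl⟩ : ∃ l : (F[X] ⧸ I) →ₗ[F] F, l w ≠ 0 := by
    by_contra! h
    exact hw ((Module.forall_dual_apply_eq_zero_iff F w).1 h)
  refine ⟨l, fun u hu => ?_⟩
  obtain ⟨a, rfl⟩ := Ideal.Quotient.mk_surjective u
  by_contra ha
  rw [Ideal.Quotient.eq_zero_iff_mem, Ideal.mem_span_singleton] at ha
  obtain ⟨j, hj, hass⟩ := (dvd_prime_pow hp.prime e).1 (EuclideanDomain.gcd_dvd_right a (p ^ e))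
  have hje : j ≤ e - 1 := by
    by_contra hlt
    exact ha (by
      have : j = e := by omega
      subst this
      exact hass.symm.dvd.trans (EuclideanDomain.gcd_dvd_left a _))
  obtain ⟨c, hc⟩ := hass
  have key : ∃ s t : F[X], a * s + p ^ e * t = p ^ j :=
    ⟨EuclideanDomain.gcdA a (p ^ e) * c, EuclideanDomain.gcdB a (p ^ e) * c, by
      rw [← hc, EuclideanDomain.gcd_eq_gcd_ab a (p ^ e)]; ring⟩
  obtain ⟨s, t, hst⟩ := key
  have h := hu (Ideal.Quotient.mk I (s * p ^ (e - 1 - j)))
  rw [← map_mul] at h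
  refine hl ?_
  have heq : Ideal.Quotient.mk I (a * (s * p ^ (e - 1 - j))) = w := by
    rw [Ideal.Quotient.eq, Ideal.mem_span_singleton]
    refine Dvd.intro (-(t * p ^ (e - 1 - j))) ?_
    have : p ^ (e - 1) = p ^ j * p ^ (e - 1 - j) := by rw [← pow_add]; congr 1; omega
    rw [this, ← hst]; ring
  rwa [heq] at h

/-- Similarity with the transpose. -/
theorem exists_conj_transpose {n : ℕ} (A : Matrix (Fin n) (Fin n) F) :
    ∃ P : GL (Fin n) F, (P : Matrix (Fin n) (Fin n) F) * A = A.transpose * (P : Matrix (Fin n) (Fin n) F) := by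
  classical
  obtain ⟨N, p, e, hpe, ⟨φ⟩⟩ := exists_data A
  choose l hl using fun i => exists_functional (hpe i).2.1 (hpe i).2.2
  let ψ : (Fin n → F) ≃ₗ[F] Model p e := (AEval'.of (Matrix.toLin' A)).trans (φ.restrictScalars F)
  let co : ∀ i, (Fin n → F) →ₗ[F] (F[X] ⧸ Ideal.span {p i ^ e i}) := fun i =>
    { toFun := fun v => ψ v i
      map_add' := fun v w => by rw [map_add]; rfl
      map_smul' := fun c v => by rw [map_smul]; rfl }
  have hX : ∀ i v, co i (Matrix.toLin' A v) = Ideal.Quotient.mk _ X * co i v := by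
    intro i v
    show (φ (AEval'.of (Matrix.toLin' A) (Matrix.toLin' A v))) i = _
    rw [← AEval'.X_smul_of, map_smul]
    show (X : F[X]) • co i v = _
    obtain ⟨y, hy⟩ := Ideal.Quotient.mk_surjective (co i v)
    rw [← hy, ← map_mul]
    rfl
  let B : (Fin n → F) →ₗ[F] (Fin n → F) →ₗ[F] F :=
    ∑ i, ((LinearMap.mul F (F[X] ⧸ Ideal.span {p i ^ e i})).compl₁₂ (co i) (co i)).compr₂ (l i)
  have hB : ∀ v w, B v w = ∑ i, l i (co i v * co i w) := fun v w => by
    simp [B, LinearMap.sum_apply]
  have hsym : B.comp (Matrix.toLin' A) = B.compl₂ (Matrix.toLin' A) :=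
    LinearMap.ext fun v => LinearMap.ext fun w => by
      rw [LinearMap.comp_apply, LinearMap.compl₂_apply, hB, hB]
      refine Finset.sum_congr rfl fun i _ => ?_
      rw [hX, hX]; congr 1; ring
  set M := LinearMap.toMatrix₂' F B with hM
  have hMA : A.transpose * M = M * A := by
    have h := congrArg (LinearMap.toMatrix₂' F) hsym
    rwa [LinearMap.toMatrix₂'_comp, LinearMap.toMatrix₂'_compl₂, LinearMap.toMatrix'_toLin'] at h
  have hdet : M.det ≠ 0 := by
    intro h
    obtain ⟨w, hw0, hw⟩ := Matrix.exists_mulVec_eq_zero_iff.2 h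
    apply hw0
    have hall : ∀ v, B v w = 0 := fun v => by
      rw [← Matrix.toLinearMap₂'_toMatrix' (R := F) B, ← hM, Matrix.toLinearMap₂'_apply', hw, dotProduct_zero]
    apply ψ.injective
    rw [map_zero]
    funext i
    refine hl i (co i w) fun x => ?_
    let sg : Model p e := Function.update 0 i x
    have := hall (ψ.symm sg)
    rw [hB, Finset.sum_eq_single i] at this
    · rw [show co i (ψ.symm sg) = x from
        (congrFun (ψ.apply_symm_apply sg) i).trans (Function.update_self i _ _), mul_comm] at this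
      exact this
    · intro j _ hj
      rw [show co j (ψ.symm sg) = 0 from
        (congrFun (ψ.apply_symm_apply sg) j).trans (Function.update_of_ne hj _ _), zero_mul, map_zero]
    · simp
  exact ⟨((Matrix.isUnit_iff_isUnit_det M).2 (Ne.isUnit hdet)).unit, hMA.symm⟩

theorem isConj_transpose {ι : Type*} [Fintype ι] [DecidableEq ι] (A : Matrix ι ι F) : IsConj A A.transpose := by
  let e := Matrix.reindexAlgEquiv F F (Fintype.equivFin ι)
  obtain ⟨P, hP⟩ := exists_conj_transpose (e A)
  refine ⟨Units.map e.symm.toMonoidHom P, ?_⟩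
  show e.symm (P : Matrix _ _ F) * A = A.transpose * e.symm (P : Matrix _ _ F)
  apply e.injective
  rw [map_mul, map_mul, e.apply_symm_apply, hP]
  congr 1

end CfsgLib.GLClass
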