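import Cfsg.Agent.GLClass.UnitaryDiv
import Cfsg.Agent.GLClass.SLClasses

/-!
Classes of `SU n q` over the class invariants of `GU n q`.
-/

set_option autoImplicit false
set_option linter.unusedSectionVars false

namespace CfsgLib.GLClass

open Polynomial Matrix CfsgLib.Geo.USemi CfsgLib.Unitary

variable {K : Type*} [Field K] [Fintype K] (p : ℕ) [Fact p.Prime] [CharP K p] {q n : ℕ} (hK : Nat.card K = q ^ 2)

local notation "σ'" => CfsgLib.Forms.frobQ hK

theorem polys_one_eq {D : Multiset (K[X] × ℕ)} (h : ∀ x ∈ D, x.2 = 1) :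
    polys D 1 = (D.map fun x => x.1 ^ x.2).prod := by
  rw [polys, Multiset.filter_eq_self.2 h]
  exact congrArg _ (Multiset.map_congr rfl fun x hx => by rw [h x hx, pow_one])

theorem valid_of_mem {g : GL (Fin n) K} {x : K[X] × ℕ} (hx : x ∈ elemDiv g.val) :
    x.1.Monic ∧ Irreducible x.1 ∧ 0 < x.2 ∧ x.1.coeff 0 ≠ 0 :=
  ⟨(elemDiv_spec _ hx).1, (elemDiv_spec _ hx).2.1, (elemDiv_spec _ hx).2.2,
    coeff_zero_ne_of_dvd (dvd_charpoly_of_mem hx) (coeff_zero_charpoly_gl g)⟩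

/-- The action of duality on elementary divisors. -/
noncomputable def dualDiv (x : K[X] × ℕ) : K[X] × ℕ := (dual σ' x.1, x.2)

include hK in
theorem dualDiv_elemDiv {g : GL (Fin n) K} (hg : g ∈ Cfsg.GU n K q) :
    (elemDiv g.val).map (dualDiv hK) = elemDiv g.val := by
  refine (elemDiv_star' (CfsgLib.Forms.frobQ_invol hK) g).symm.trans ?_
  rw [(mem_GU_iff_star hK).1 hg]

include hK in
theorem filter_dualDiv {D : Multiset (K[X] × ℕ)} (hD : D.map (dualDiv hK) = D) (P : ℕ → Prop) [DecidablePred P] :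
    (D.filter fun x => P x.2).map (dualDiv hK) = D.filter fun x => P x.2 := by
  conv_rhs => rw [← hD, Multiset.filter_map]
  rfl

include hK in
theorem dual_polys {g : GL (Fin n) K} (hg : g ∈ Cfsg.GU n K q) (j : ℕ) :
    dual σ' (polys (elemDiv g.val) j) = polys (elemDiv g.val) j := by
  rw [polys, dual_prod, Multiset.map_map]
  conv_rhs => rw [← filter_dualDiv hK (dualDiv_elemDiv hK hg) (fun e => e = j), Multiset.map_map]
  rfl

include hK in
theorem exists_GU_elemDiv (D : Multiset (K[X] × ℕ))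
    (h : ∀ x ∈ D, x.1.Monic ∧ Irreducible x.1 ∧ 0 < x.2 ∧ x.1.coeff 0 ≠ 0) (hD : D.map (dualDiv hK) = D) :
    ∃ (m : ℕ) (g : GL (Fin m) K), g ∈ Cfsg.GU m K q ∧ elemDiv g.val = D := by
  obtain ⟨m, A, hA, -⟩ := exists_elemDiv_eq D h
  have hconj : IsConj A (star' σ' A) := isConj_of_elemDiv_eq (by
    rw [elemDiv_star' (CfsgLib.Forms.frobQ_invol hK), hA]; exact hD.symm)
  obtain ⟨B, hB⟩ := (exists_GU_conj_iff hK A).2 (by
    rw [← star'_val]; exact MonoidHom.map_isConj (Units.coeHom _) hconj)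
  exact ⟨m, B, B.2, (elemDiv_eq_of_isConj hB).symm.trans hA⟩

include p hK in
/-- With an exponent `1` the centraliser in `GU` has all determinants. -/
theorem exists_commute_det_GU_head {g : GL (Fin n) K} (hg : g ∈ Cfsg.GU n K q)
    (hpos : 0 < (polys (elemDiv g.val) 1).natDegree) {c : K} (hc : c ≠ 0) :
    ∃ T : GL (Fin n) K, T ∈ Cfsg.GU n K q ∧ T * g = g * T ∧ T.val.det = c * (c ^ q)⁻¹ := by
  classical
  set D := elemDiv g.val with hDdef
  have hD := dualDiv_elemDiv hK hg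
  rw [← hDdef] at hD
  obtain ⟨d, A, hA, hAd⟩ := exists_GU_elemDiv hK (D.filter fun x => x.2 = 1)
    (fun x hx => valid_of_mem (Multiset.mem_of_mem_filter hx)) (filter_dualDiv hK hD fun e => e = 1)
  obtain ⟨m, g2, hg2, hg2d⟩ := exists_GU_elemDiv hK (D.filter fun x => ¬ x.2 = 1)
    (fun x hx => valid_of_mem (Multiset.mem_of_mem_filter hx)) (filter_dualDiv hK hD fun e => ¬ e = 1)
  have hexp : ∀ x ∈ elemDiv A.val, x.2 = 1 := fun x hx =>
    (Multiset.mem_filter.1 (show x ∈ D.filter (fun x => x.2 = 1) by rw [← hAd]; exact hx)).2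
  obtain ⟨g1, hg1, hg1o, hg1c⟩ := exists_GU_charpoly p hK (Matrix.charpoly_monic A.val)
    (by rw [Matrix.charpoly_natDegree_eq_dim, Fintype.card_fin]) (coeff_zero_charpoly_gl A) (dual_charpoly_eq hK hA)
  have hexp1 : ∀ x ∈ elemDiv g1.val, x.2 = 1 := fun x hx =>
    exp_eq_one (pow_orderOf_coe g1) (orderOf_ne_zero_of_coprime p hg1o) hx
  have hg1d : elemDiv g1.val = elemDiv A.val := by
    refine eq_of_polys_eq (fun x hx => ⟨(elemDiv_spec _ hx).1, (elemDiv_spec _ hx).2.1⟩)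
      (fun x hx => ⟨(elemDiv_spec _ hx).1, (elemDiv_spec _ hx).2.1⟩) fun x hx => ?_
    have hx1 : x.2 = 1 := (Multiset.mem_add.1 hx).elim (hexp1 x) (hexp x)
    rw [hx1, polys_one_eq hexp1, polys_one_eq hexp, ← charpoly_eq_prod_elemDiv, ← charpoly_eq_prod_elemDiv, hg1c]
  have hdn : n = d + m := by
    rw [← sum_elemDiv g.val, ← hDdef, ← sum_elemDiv A.val, ← sum_elemDiv g2.val, hAd, hg2d, ← Multiset.sum_add,
      ← Multiset.map_add, Multiset.filter_add_not]
  have hd : 0 < d := by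
    rw [natDegree_polys fun x hx => (elemDiv_spec _ hx).1] at hpos
    rw [← sum_elemDiv A.val, hAd, Multiset.map_congr rfl fun x hx => by
      rw [(Multiset.mem_filter.1 hx).2, one_mul]]
    exact hpos
  subst hdn
  obtain ⟨T1, hT1, hT1g, hT1d⟩ := exists_commute_det_GU p hK hd hg1 hg1o hc
  have hmem : emb (g1, g2) ∈ Cfsg.GU (d + m) K q := by
    rw [mem_GU_iff_star hK, star'_emb, (mem_GU_iff_star hK).1 hg1, (mem_GU_iff_star hK).1 hg2]
  have hconj : IsConj (⟨emb (g1, g2), hmem⟩ : Cfsg.GU (d + m) K q) ⟨g, hg⟩ :=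
    (isConj_iff_GL hK _ _).2 (isConj_of_elemDiv_eq (by
      rw [elemDiv_emb, hg1d, hAd, hg2d, Multiset.filter_add_not]))
  obtain ⟨y, hy⟩ := isConj_iff.1 hconj
  have hy' : (y : GL _ K) * emb (g1, g2) * (y : GL _ K)⁻¹ = g := congrArg Subtype.val hy
  have hTm : emb (T1, 1) ∈ Cfsg.GU (d + m) K q := by
    rw [mem_GU_iff_star hK, star'_emb, (mem_GU_iff_star hK).1 hT1, map_one]
  refine ⟨(y : GL _ K) * emb (T1, 1) * (y : GL _ K)⁻¹, mul_mem (mul_mem y.2 hTm) (inv_mem y.2), ?_, ?_⟩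
  · rw [← hy']
    generalize (y : GL (Fin (d + m)) K) = Y
    have e : emb (T1, (1 : GL (Fin m) K)) * emb (g1, g2) = emb (g1, g2) * emb (T1, 1) := by
      rw [← map_mul, ← map_mul, Prod.mk_mul_mk, Prod.mk_mul_mk, hT1g, one_mul, mul_one]
    calc Y * emb (T1, 1) * Y⁻¹ * (Y * emb (g1, g2) * Y⁻¹) = Y * (emb (T1, 1) * emb (g1, g2)) * Y⁻¹ := by group
      _ = Y * emb (g1, g2) * Y⁻¹ * (Y * emb (T1, 1) * Y⁻¹) := by rw [e]; group
  · rw [Units.val_mul, Units.val_mul, Matrix.det_units_conj, det_emb, hT1d]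
    simp

/-- `SU` inside `GL`. -/
def suGL : Cfsg.SU n K q →* GL (Fin n) K :=
  Matrix.SpecialLinearGroup.toGL.comp (Cfsg.SU n K q).subtype

theorem suGL_injective : Function.Injective (suGL (K := K) (q := q) (n := n)) :=
  Matrix.SpecialLinearGroup.toGL_injective.comp Subtype.val_injective

/-- An element of `SU` in a class, in `GL`. -/
noncomputable def clsSU (c : ConjClasses (Cfsg.SU n K q)) : GL (Fin n) K :=
  suGL (Quotient.out c)

theorem clsSU_mem (c : ConjClasses (Cfsg.SU n K q)) : clsSU c ∈ Cfsg.GU n K q :=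
  (Quotient.out c).2

theorem tdet_clsSU (c : ConjClasses (Cfsg.SU n K q)) : tdet (tupOf (clsSU c)) = 1 := by
  rw [tdet_tupOf]
  exact (Quotient.out c).1.2

theorem eq_of_conj_det_one {c d : ConjClasses (Cfsg.SU n K q)} {x : GL (Fin n) K} (hx : x ∈ Cfsg.GU n K q)
    (hdet : Matrix.GeneralLinearGroup.det x = 1) (h : x * clsSU c * x⁻¹ = clsSU d) : c = d := by
  let y : Cfsg.SU n K q := ⟨⟨x.val, by simpa using congrArg Units.val hdet⟩, hx⟩
  have hy : suGL y = x := Units.ext rfl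
  rw [← Quotient.out_eq c, ← Quotient.out_eq d]
  refine Quotient.sound (isConj_iff.2 ⟨y, suGL_injective ?_⟩)
  rw [map_mul, map_mul, map_inv, hy]
  exact h

include hK in
theorem exists_GU_conj_of_tupOf {c d : ConjClasses (Cfsg.SU n K q)} (h : tupOf (clsSU c) = tupOf (clsSU d)) :
    ∃ x : GL (Fin n) K, x ∈ Cfsg.GU n K q ∧ x * clsSU c * x⁻¹ = clsSU d := by
  obtain ⟨x, hx⟩ := isConj_iff.1
    ((isConj_iff_GL hK ⟨clsSU c, clsSU_mem c⟩ ⟨clsSU d, clsSU_mem d⟩).2 (isConj_of_tupOf_eq h))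
  exact ⟨x, x.2, congrArg Subtype.val hx⟩

include p hK in
theorem eq_of_tupOf_head {c d : ConjClasses (Cfsg.SU n K q)} (h : tupOf (clsSU c) = tupOf (clsSU d))
    (hpos : 0 < (polys (elemDiv (clsSU c).val) 1).natDegree) : c = d := by
  obtain ⟨x, hx, hxc⟩ := exists_GU_conj_of_tupOf hK h
  obtain ⟨e, he⟩ := exists_div_eq hK (inv_mem (det_GU hK hx) :
    (Matrix.GeneralLinearGroup.det x)⁻¹ ∈ (powMonoidHom (q + 1) : Kˣ →* Kˣ).ker)
  obtain ⟨T, hT, hTg, hTd⟩ := exists_commute_det_GU_head p hK (clsSU_mem c) hpos e.ne_zero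
  refine eq_of_conj_det_one (x := x * T) (mul_mem hx hT) (Units.ext ?_) ?_
  · rw [map_mul, Units.val_mul, Units.val_one, Matrix.GeneralLinearGroup.val_det_apply T, hTd, he, Units.mul_inv]
  · calc x * T * clsSU c * (x * T)⁻¹ = x * (T * clsSU c * T⁻¹) * x⁻¹ := by group
      _ = clsSU d := by rw [hTg, mul_inv_cancel_right, hxc]

include hK in
theorem card_tupFibre_le (t : Tup K n n) :
    Nat.card {c : ConjClasses (Cfsg.SU n K q) // tupOf (clsSU c) = t} ≤ q + 1 := by
  rcases isEmpty_or_nonempty {c : ConjClasses (Cfsg.SU n K q) // tupOf (clsSU c) = t} with hE | ⟨⟨c₀, hc₀⟩⟩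
  · rw [Nat.card_of_isEmpty]; exact Nat.zero_le _
  subst hc₀
  choose x hx hxc using fun c : {c : ConjClasses (Cfsg.SU n K q) // tupOf (clsSU c) = tupOf (clsSU c₀)} =>
    exists_GU_conj_of_tupOf hK c.2.symm
  let φ : {c : ConjClasses (Cfsg.SU n K q) // tupOf (clsSU c) = tupOf (clsSU c₀)} →
      (powMonoidHom (q + 1) : Kˣ →* Kˣ).ker := fun c => ⟨Matrix.GeneralLinearGroup.det (x c), det_GU hK (hx c)⟩
  refine (Nat.card_le_card_of_injective φ fun c d hcd => Subtype.ext ?_).trans ?_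
  · have hdet : Matrix.GeneralLinearGroup.det (x d * (x c)⁻¹) = 1 := by
      rw [map_mul, map_inv, show Matrix.GeneralLinearGroup.det (x c) = Matrix.GeneralLinearGroup.det (x d) from
        congrArg Subtype.val hcd, mul_inv_cancel]
    refine eq_of_conj_det_one (x := x d * (x c)⁻¹) (mul_mem (hx d) (inv_mem (hx c))) hdet ?_
    rw [← hxc c, ← hxc d]
    group
  · rw [IsCyclic.card_powMonoidHom_ker]
    exact Nat.le_of_dvd (Nat.succ_pos q) (Nat.gcd_dvd_right _ _)

/-- Weighted tuples that the classes of `SU` can have. -/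
abbrev SUTup (J m : ℕ) : Type _ :=
  {t : Tup K J m // (∀ i, dual σ' (t.1 i) = t.1 i) ∧ tdet t = 1}

/-- The invariant of a class of `SU`. -/
noncomputable def suInv (c : ConjClasses (Cfsg.SU n K q)) : SUTup hK n n :=
  ⟨tupOf (clsSU c), fun _ => dual_polys hK (clsSU_mem c) _, tdet_clsSU c⟩

include p hK in
theorem card_classes_SU_le (J : ℕ) :
    Nat.card (ConjClasses (Cfsg.SU (J + 1) K q)) ≤
      Nat.card {t : SUTup hK (J + 1) (J + 1) // 0 < (t.1.1 0).natDegree} +
        (q + 1) * Nat.card {t : SUTup hK (J + 1) (J + 1) // (t.1.1 0).natDegree = 0} := by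
  classical
  let pred : ConjClasses (Cfsg.SU (J + 1) K q) → Prop := fun c => 0 < ((suInv hK c).1.1 0).natDegree
  rw [← Nat.card_congr (Equiv.sumCompl pred), Nat.card_sum]
  refine Nat.add_le_add ?_ ?_
  · refine Nat.card_le_card_of_injective
      (fun c => (⟨suInv hK c.1, c.2⟩ : {t : SUTup hK (J + 1) (J + 1) // 0 < (t.1.1 0).natDegree})) fun c d h => ?_
    exact Subtype.ext (eq_of_tupOf_head p hK (congrArg (fun t => t.1.1) h) c.2)
  · let ψ : {c // ¬ pred c} → {t : SUTup hK (J + 1) (J + 1) // (t.1.1 0).natDegree = 0} := fun c =>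
      ⟨suInv hK c.1, Nat.eq_zero_of_not_pos c.2⟩
    haveI : Fintype {t : SUTup hK (J + 1) (J + 1) // (t.1.1 0).natDegree = 0} := Fintype.ofFinite _
    rw [← Nat.card_congr (Equiv.sigmaFiberEquiv ψ), Nat.card_sigma, mul_comm]
    refine (Finset.sum_le_card_nsmul _ _ (q + 1) fun t _ => ?_).trans_eq
      (by rw [smul_eq_mul, Finset.card_univ, Nat.card_eq_fintype_card])
    refine (Nat.card_le_card_of_injective
      (fun c => (⟨c.1.1, congrArg (fun t => t.1.1) c.2⟩ : {c // tupOf (clsSU c) = t.1.1})) fun c d h =>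
      by
        exact Subtype.ext (Subtype.ext (congrArg (fun z => z.1) h))).trans (card_tupFibre_le hK t.1.1)

end CfsgLib.GLClass
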