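import Cfsg.Agent.GLClass.UnitaryClasses
import Cfsg.Agent.GLClass.SLBound

/-!
The number of self-dual weighted tuples.
-/

set_option autoImplicit false
set_option linter.unusedSectionVars false

namespace CfsgLib.GLClass

open Polynomial Matrix CfsgLib.Geo.USemi CfsgLib.Unitary

/-- The number of self-dual polynomials of degree `d` over the field with `q ^ 2` elements. -/
def ucnt (q : ℕ) : ℕ → ℕ
  | 0 => 1
  | d + 1 => (q + 1) * q ^ d

/-- The number of self-dual tuples `f 2, …, f (J + 1)` with `∑ i * deg (f i) = n`. -/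
def uCount (q : ℕ) : ℕ → ℕ → ℕ
  | 0, n => if n = 0 then 1 else 0
  | J + 1, n => ∑ m ∈ Finset.range (n / (J + 2) + 1), ucnt q m * uCount q J (n - (J + 2) * m)

variable {K : Type*} [Field K] [Fintype K] {q n : ℕ} (hK : Nat.card K = q ^ 2)

local notation "σ'" => CfsgLib.Forms.frobQ hK

include hK in
theorem card_semifixed_le {m : ℕ} (ε : K) :
    Nat.card {v : Fin m → K // ∀ i, ε * σ' (v i.rev) = v i} ≤ q ^ m := by
  obtain ⟨lam, hlam⟩ : ∃ l, σ' l ≠ l := by
    by_contra h; push Not at h; exact CfsgLib.Forms.frobQ_ne_id hK (RingHom.ext h)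
  set S := {v : Fin m → K // ∀ i, ε * σ' (v i.rev) = v i}
  have hd : lam - σ' lam ≠ 0 := sub_ne_zero.2 hlam.symm
  let f : S × S → (Fin m → K) := fun x i => x.1.1 i + lam * x.2.1 i
  have hJ : ∀ (x : S × S) i, ε * σ' (f x i.rev) = x.1.1 i + σ' lam * x.2.1 i := fun x i => by
    show ε * σ' (x.1.1 i.rev + lam * x.2.1 i.rev) = _
    conv_rhs => rw [← x.1.2 i, ← x.2.2 i]
    rw [map_add, map_mul]; ring
  have hf : Function.Injective f := by
    intro x y h
    have h2 : ∀ i, x.2.1 i = y.2.1 i := fun i => by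
      have a := congrFun h i
      have b := congrArg (fun v : Fin m → K => ε * σ' (v i.rev)) h
      simp only [hJ] at b
      refine mul_left_cancel₀ hd ?_
      linear_combination a - b
    refine Prod.ext (Subtype.ext (funext fun i => ?_)) (Subtype.ext (funext h2))
    have a := congrFun h i
    simp only [f, h2 i] at a
    exact add_right_cancel a
  have h := Nat.card_le_card_of_injective f hf
  rw [Nat.card_prod, Nat.card_fun, hK, Nat.card_fin, ← pow_mul, mul_comm 2 m, pow_mul, ← pow_two] at h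
  exact (Nat.pow_le_pow_iff_left two_ne_zero).1 h

include hK in
theorem mul_frob_coeff_zero {f : K[X]} (hm : f.Monic) (h0 : f.coeff 0 ≠ 0) (hf : dual σ' f = f) :
    f.coeff 0 * σ' (f.coeff 0) = 1 := by
  have h := coeff_zero_dual σ' hm
  rw [hf] at h
  calc f.coeff 0 * σ' (f.coeff 0) = (σ' (f.coeff 0))⁻¹ * σ' (f.coeff 0) :=
        congrArg (fun a => a * σ' (f.coeff 0)) h
    _ = 1 := inv_mul_cancel₀ ((_root_.map_ne_zero _).2 h0)

include hK in
theorem card_selfDual_const_le (m : ℕ) (a : K) :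
    Nat.card {f : K[X] // f.Monic ∧ f.natDegree = m + 1 ∧ f.coeff 0 = a ∧ f.coeff 0 ≠ 0 ∧ dual σ' f = f} ≤ q ^ m := by
  refine (Nat.card_le_card_of_injective (fun f => (⟨fun i => f.1.coeff (i.val + 1), fun i => ?_⟩ :
    {v : Fin m → K // ∀ i, a * σ' (v i.rev) = v i})) fun f g h => ?_).trans (card_semifixed_le hK a)
  · obtain ⟨hm, hd, ha, h0, hf⟩ := f.2
    have h := congrArg (fun P : K[X] => P.coeff (i.val + 1)) hf
    rw [coeff_dual σ' (by rw [hd]; omega), hd,
      inv_eq_of_mul_eq_one_left (mul_frob_coeff_zero hK hm h0 hf), ha] at h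
    simp only [Fin.val_rev]
    rwa [show m - (i.val + 1) + 1 = m + 1 - (i.val + 1) by omega]
  · refine Subtype.ext (Polynomial.ext fun k => ?_)
    rcases Nat.eq_zero_or_pos k with rfl | hk
    · rw [f.2.2.2.1, g.2.2.2.1]
    rcases lt_trichotomy k (m + 1) with hk' | rfl | hk'
    · have := congrFun (congrArg Subtype.val h) ⟨k - 1, by omega⟩
      simpa [show k - 1 + 1 = k by omega] using this
    · have a := f.2.1.coeff_natDegree
      have b := g.2.1.coeff_natDegree
      rw [f.2.2.1] at a; rw [g.2.2.1] at b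
      rw [a, b]
    · rw [coeff_eq_zero_of_natDegree_lt (by rw [f.2.2.1]; omega),
        coeff_eq_zero_of_natDegree_lt (by rw [g.2.2.1]; omega)]

include hK in
theorem card_selfDual_le (d : ℕ) :
    Nat.card {f : GoodPoly K d // dual σ' f.1 = f.1} ≤ ucnt q d := by
  classical
  cases d with
  | zero =>
    haveI : Subsingleton (GoodPoly K 0) := ⟨fun f g => Subtype.ext (by
      rw [f.2.1.natDegree_eq_zero.1 f.2.2.1, g.2.1.natDegree_eq_zero.1 g.2.2.1])⟩
    exact Finite.card_le_one_iff_subsingleton.2 inferInstance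
  | succ m =>
    let R := (powMonoidHom (q + 1) : Kˣ →* Kˣ).ker
    let T : R → Type _ := fun u =>
      {f : K[X] // f.Monic ∧ f.natDegree = m + 1 ∧ f.coeff 0 = (u.1 : K) ∧ f.coeff 0 ≠ 0 ∧ dual σ' f = f}
    have hTfin : ∀ u, Finite (T u) := fun u =>
      Finite.of_injective (fun f => (⟨f.1, f.2.1, f.2.2.1, f.2.2.2.2.1⟩ : GoodPoly K (m + 1))) fun f g h =>
        Subtype.ext (congrArg (fun x : GoodPoly K (m + 1) => x.1) h)
    let Φ : {f : GoodPoly K (m + 1) // dual σ' f.1 = f.1} → Σ u : R, T u := fun f =>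
      ⟨⟨Units.mk0 _ f.1.2.2.2, Units.ext (by
          show f.1.1.coeff 0 ^ (q + 1) = 1
          rw [pow_succ', ← CfsgLib.Forms.frobQ_apply hK]
          exact mul_frob_coeff_zero hK f.1.2.1 f.1.2.2.2 f.2)⟩,
        f.1.1, f.1.2.1, f.1.2.2.1, rfl, f.1.2.2.2, f.2⟩
    refine (Nat.card_le_card_of_injective Φ fun f g h =>
      Subtype.ext (Subtype.ext (congrArg (fun x => x.2.1) h))).trans ?_
    haveI : Fintype R := Fintype.ofFinite _
    rw [Nat.card_sigma]
    refine (Finset.sum_le_card_nsmul _ _ (q ^ m) fun u _ => card_selfDual_const_le hK m _).trans ?_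
    rw [smul_eq_mul, Finset.card_univ, ← Nat.card_eq_fintype_card, ucnt]
    refine Nat.mul_le_mul_right _ ?_
    rw [IsCyclic.card_powMonoidHom_ker]
    exact Nat.le_of_dvd (Nat.succ_pos q) (Nat.gcd_dvd_right _ _)

/-- Self-dual shifted tuples. -/
abbrev UTw (J m : ℕ) : Type _ := {h : Tw K J m // ∀ i, dual σ' (h.1 i) = h.1 i}

include hK in
theorem card_uTw_le : ∀ J m : ℕ, Nat.card (UTw hK J m) ≤ uCount q J m
  | 0, m => by
    refine (Nat.card_le_card_of_injective Subtype.val Subtype.val_injective).trans_eq ?_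
    rw [card_tw]; rfl
  | J + 1, m => by
    classical
    let Φ : UTw hK (J + 1) m →
        (r : Fin (m / (J + 2) + 1)) × ({f : GoodPoly K r // dual σ' f.1 = f.1} × UTw hK J (m - (J + 2) * r)) :=
      fun h => ⟨(twEquiv J m h.1).1, ⟨(twEquiv J m h.1).2.1, h.2 _⟩, ⟨(twEquiv J m h.1).2.2, fun i => h.2 _⟩⟩
    have hinj : Function.Injective Φ := fun h h' he => Subtype.ext ((twEquiv J m).injective (tw_split_ext _ _
      (congrArg (fun x => x.2.1.1.1) he) (congrArg (fun x => x.2.2.1.1) he)))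
    refine (Nat.card_le_card_of_injective Φ hinj).trans ?_
    rw [Nat.card_sigma, uCount, ← Fin.sum_univ_eq_sum_range
      (fun r => ucnt q r * uCount q J (m - (J + 2) * r))]
    refine Finset.sum_le_sum fun r _ => ?_
    rw [Nat.card_prod]
    exact Nat.mul_le_mul (card_selfDual_le hK r) (card_uTw_le J _)

include hK in
theorem card_suHead_le (J m : ℕ) :
    Nat.card {t : SUTup hK (J + 1) m // 0 < (t.1.1 0).natDegree} ≤
      ∑ d ∈ Finset.range m, q ^ d * uCount q J (m - (d + 1)) := by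
  classical
  let wd : ∀ {m : ℕ}, UTw hK J m → K := fun w => ∏ i, nrm (w.1.1 i) ^ ((i : ℕ) + 2)
  have : ∀ (d : ℕ) (a : K),
      Finite {f : K[X] // f.Monic ∧ f.natDegree = d + 1 ∧ f.coeff 0 = a ∧ f.coeff 0 ≠ 0 ∧ dual σ' f = f} := fun d a =>
    Finite.of_injective (fun f => (⟨f.1, f.2.1, f.2.2.1, f.2.2.2.2.1⟩ : GoodPoly K (d + 1))) fun f g h =>
      Subtype.ext (congrArg (fun x : GoodPoly K (d + 1) => x.1) h)
  have hex : ∀ t : {t : SUTup hK (J + 1) m // 0 < (t.1.1 0).natDegree},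
      ∃ x : (d : Fin m) × ((w : UTw hK J (m - ((d : ℕ) + 1))) × {f : K[X] // f.Monic ∧ f.natDegree = (d : ℕ) + 1 ∧
        f.coeff 0 = (-1) ^ ((d : ℕ) + 1) * (wd w)⁻¹ ∧ f.coeff 0 ≠ 0 ∧ dual σ' f = f}),
      x.2.2.1 = t.1.1.1 0 ∧ ∀ i : Fin J, x.2.1.1.1 i = t.1.1.1 i.succ := by
    rintro ⟨⟨⟨h, hmon, hsum⟩, hdual, hdet⟩, hpos⟩
    simp only at hpos
    obtain ⟨e, he⟩ : ∃ e, (h 0).natDegree = e + 1 := ⟨(h 0).natDegree - 1, by omega⟩
    have hs := hsum
    rw [Fin.sum_univ_succ, Fin.val_zero, zero_add, one_mul, he] at hs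
    simp only [Fin.val_succ, add_assoc, show (1 : ℕ) + 1 = 2 from rfl] at hs
    refine ⟨⟨⟨e, by omega⟩, ⟨⟨fun i => h i.succ, fun i => hmon _, by simp only; omega⟩, fun i => hdual _⟩,
      h 0, (hmon 0).1, he, ?_, (hmon 0).2, hdual 0⟩, rfl, fun i => rfl⟩
    rw [tdet, Fin.prod_univ_succ] at hdet
    simp only [Fin.val_zero, zero_add, pow_one, Fin.val_succ, add_assoc, show (1 : ℕ) + 1 = 2 from rfl] at hdet
    rw [← eq_inv_of_mul_eq_one_left hdet, nrm, he, ← mul_assoc, ← mul_pow]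
    simp
  choose Φ hΦ1 hΦ2 using hex
  have hinj : Function.Injective Φ := by
    intro t t' he
    refine Subtype.ext (Subtype.ext (Subtype.ext (funext fun i => ?_)))
    refine Fin.cases ?_ (fun j => ?_) i
    · rw [← hΦ1 t, ← hΦ1 t', he]
    · rw [← hΦ2 t j, ← hΦ2 t' j, he]
  refine (Nat.card_le_card_of_injective Φ hinj).trans ?_
  rw [Nat.card_sigma, ← Fin.sum_univ_eq_sum_range (fun d => q ^ d * uCount q J (m - (d + 1)))]
  refine Finset.sum_le_sum fun d _ => ?_
  haveI : Fintype (UTw hK J (m - ((d : ℕ) + 1))) := Fintype.ofFinite _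
  rw [Nat.card_sigma]
  refine (Finset.sum_le_card_nsmul _ _ (q ^ (d : ℕ)) fun w _ => card_selfDual_const_le hK _ _).trans ?_
  rw [smul_eq_mul, mul_comm, Finset.card_univ, ← Nat.card_eq_fintype_card]
  exact Nat.mul_le_mul_left _ (card_uTw_le hK J _)

include hK in
theorem card_suTail_le (J m : ℕ) :
    Nat.card {t : SUTup hK (J + 1) m // (t.1.1 0).natDegree = 0} ≤ uCount q J m := by
  refine (Nat.card_le_card_of_injective (fun t => (⟨⟨fun i => t.1.1.1 i.succ, fun i => t.1.1.2.1 _, by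
    have h1 := t.1.1.2.2
    rw [Fin.sum_univ_succ, t.2, mul_zero, zero_add] at h1
    simpa only [Fin.val_succ, add_assoc, show (1 : ℕ) + 1 = 2 from rfl] using h1⟩,
    fun i => t.1.2.1 _⟩ : UTw hK J m)) fun t t' h => ?_).trans (card_uTw_le hK J m)
  refine Subtype.ext (Subtype.ext (Subtype.ext (funext fun i => ?_)))
  refine Fin.cases ?_ (fun j => ?_) i
  · rw [(t.1.1.2.1 0).1.natDegree_eq_zero.1 t.2, (t'.1.1.2.1 0).1.natDegree_eq_zero.1 t'.2]
  · exact congrFun (congrArg (fun x => x.1.1) h) j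

include hK in
/-- For `n = 2` and `n = 3` a tuple with constant first entry is a polynomial of degree `1`. -/
theorem card_suTail_small (J : ℕ) (hJ : 1 ≤ J) (hJ2 : J ≤ 2) :
    Nat.card {t : SUTup hK (J + 1) (J + 1) // (t.1.1 0).natDegree = 0} ≤ J + 1 := by
  classical
  have hs : ∀ t : {t : SUTup hK (J + 1) (J + 1) // (t.1.1 0).natDegree = 0},
      (t.1.1.1 (Fin.last J)).natDegree = 0 + 1 ∧ ∀ j, j ≠ Fin.last J → (t.1.1.1 j).natDegree = 0 := by
    intro t
    have h := t.1.1.2.2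
    have h0 := t.2
    interval_cases J
    · rw [Fin.sum_univ_two] at h
      simp only [Fin.val_zero, Fin.val_one] at h
      refine ⟨show (t.1.1.1 1).natDegree = 1 by omega, fun j hj => ?_⟩
      fin_cases j
      · exact h0
      · exact absurd rfl hj
    · rw [Fin.sum_univ_three] at h
      simp only [Fin.val_zero, Fin.val_one, Fin.val_two] at h
      refine ⟨show (t.1.1.1 2).natDegree = 1 by omega, fun j hj => ?_⟩
      fin_cases j
      · exact h0
      · show (t.1.1.1 1).natDegree = 0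
        omega
      · exact absurd rfl hj
  refine (Nat.card_le_card_of_injective (fun t => (⟨t.1.1.1 (Fin.last J), (t.1.1.2.1 _).1, (hs t).1, by
    have := tdet_eq_single t.1.1 (Fin.last J) (hs t).2
    rw [t.1.2.2] at this
    exact this.symm⟩ : RootPoly K 0 ((Fin.last J : ℕ) + 1))) fun t t' h => ?_).trans ?_
  · refine Subtype.ext (Subtype.ext (Subtype.ext (funext fun j => ?_)))
    by_cases hj : j = Fin.last J
    · subst hj; exact congrArg Subtype.val h
    · rw [eq_one_of_deg t.1.1 ((hs t).2 j hj), eq_one_of_deg t'.1.1 ((hs t').2 j hj)]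
  · refine (card_rootPoly_le _ _).trans ?_
    rw [pow_zero, mul_one, Fin.val_last]
    exact min_le_left _ _

include hK in
/-- The bound on the class number of `SU` by self-dual tuples. -/
theorem card_classes_SU_general (p : ℕ) [Fact p.Prime] [CharP K p] (J : ℕ) :
    Nat.card (ConjClasses (Cfsg.SU (J + 1) K q)) ≤
      ∑ d ∈ Finset.range (J + 1), q ^ d * uCount q J (J + 1 - (d + 1)) + (q + 1) * uCount q J (J + 1) ∧
    (1 ≤ J → J ≤ 2 → Nat.card (ConjClasses (Cfsg.SU (J + 1) K q)) ≤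
      ∑ d ∈ Finset.range (J + 1), q ^ d * uCount q J (J + 1 - (d + 1)) + (q + 1) * (J + 1)) :=
  ⟨(card_classes_SU_le p hK J).trans
      (Nat.add_le_add (card_suHead_le hK J _) (Nat.mul_le_mul_left _ (card_suTail_le hK J _))),
    fun h1 h2 => (card_classes_SU_le p hK J).trans
      (Nat.add_le_add (card_suHead_le hK J _) (Nat.mul_le_mul_left _ (card_suTail_small hK J h1 h2)))⟩

end CfsgLib.GLClass
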